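import Groth.Prelude.Def_GrassD
import Groth.Agent.L18.IdealModule
import Groth.Agent.L16.AffineBC.Pullback
import Groth.Agent.L20.ResDescent
import Groth.Agent.L29.LocFree
import Mathlib.AlgebraicGeometry.Morphisms.ClosedImmersion
import Mathlib.CategoryTheory.Abelian.Basic

/-!
# The morphism of Grassmannians induced by an epimorphism is a closed immersion

For quasi-coherent `E₁ ⟶ E₂` epi with kernel `K`, the morphism `G(E₂) ⟶ G(E₁)` is the zero locus of
the composite `π^*K ⟶ π^*E₁ ⟶ Q₁`, and locally that zero locus is cut out by the ideal of values of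
a morphism from a quasi-coherent module to a free module.
-/

set_option backward.isDefEq.respectTransparency false
set_option backward.isDefEq.respectTransparency.types false

universe u

open CategoryTheory CategoryTheory.Limits AlgebraicGeometry Opposite

noncomputable section

namespace Groth.L18.MapEpi

section quotBC

variable {X G T : Scheme.{u}} {π : G ⟶ X} {E E' : X.Modules} {Q Q' : G.Modules}

theorem map_quotBC {h : T ⟶ G} {g : T ⟶ X} (hg : h ≫ π = g) (v : E' ⟶ E)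
    (q : (Scheme.Modules.pullback π).obj E ⟶ Q) :
    (Scheme.Modules.pullback g).map v ≫ Grass.quotBC hg q =
      Grass.quotBC hg ((Scheme.Modules.pullback π).map v ≫ q) := by
  subst hg
  simp [Grass.quotBC, Scheme.Modules.pullbackCongr]

theorem quotBC_comp_right {h : T ⟶ G} {g : T ⟶ X} (hg : h ≫ π = g)
    (q : (Scheme.Modules.pullback π).obj E ⟶ Q) (t : Q ⟶ Q') :
    Grass.quotBC hg (q ≫ t) = Grass.quotBC hg q ≫ (Scheme.Modules.pullback h).map t := by
  simp [Grass.quotBC]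

theorem quotBC_quotBC {H : Scheme.{u}} {c : H ⟶ G} {π' : H ⟶ X} (hc : c ≫ π = π')
    {a : T ⟶ H} {g : T ⟶ X} (ha : a ≫ π' = g) (hh : (a ≫ c) ≫ π = g)
    (q : (Scheme.Modules.pullback π).obj E ⟶ Q) :
    Grass.quotBC ha (Grass.quotBC hc q) ≫ (Scheme.Modules.pullbackComp a c).hom.app Q =
      Grass.quotBC hh q := by
  subst hc
  subst ha
  have h := congr_app (Scheme.Modules.pseudofunctor_associativity a c π) E
  simp only [NatTrans.comp_app, Functor.comp_obj, Functor.associator_hom_app,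
    Functor.whiskerRight_app, Functor.whiskerLeft_app, Category.id_comp, eqToHom_app] at h
  have e : (Scheme.Modules.pullbackComp a (c ≫ π)).inv.app E ≫
      (Scheme.Modules.pullback a).map ((Scheme.Modules.pullbackComp c π).inv.app E) ≫
      (Scheme.Modules.pullbackComp a c).hom.app ((Scheme.Modules.pullback π).obj E) =
      (Scheme.Modules.pullbackCongr hh).inv.app E ≫ (Scheme.Modules.pullbackComp (a ≫ c) π).inv.app E := by
    rw [← cancel_mono ((Scheme.Modules.pullbackComp (a ≫ c) π).hom.app E)]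
    simp only [Category.assoc, Iso.inv_hom_id_app, Category.comp_id]
    simp [Scheme.Modules.pullbackCongr, h]
    rfl
  simp only [Grass.quotBC, Scheme.Modules.pullbackCongr, eqToIso_refl, Iso.refl_inv, NatTrans.id_app,
    Category.id_comp, Functor.map_comp, Category.assoc]
  have n := (Scheme.Modules.pullbackComp a c).hom.naturality q
  simp only [Functor.comp_map] at n
  rw [n, reassoc_of% e]
  rfl

theorem epi_quotBC {h : T ⟶ G} {g : T ⟶ X} (hg : h ≫ π = g)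
    (q : (Scheme.Modules.pullback π).obj E ⟶ Q) [Epi q] : Epi (Grass.quotBC hg q) := by
  haveI := Grass.epi_pullback_map h q
  unfold Grass.quotBC
  infer_instance

end quotBC

theorem isFinLocFreeOfRank_pullback {X Y : Scheme.{u}} (f : X ⟶ Y) {n : ℕ} {M : Y.Modules}
    (h : FlatMod.IsFinLocFreeOfRank n M) :
    FlatMod.IsFinLocFreeOfRank n ((Scheme.Modules.pullback f).obj M) := fun x => by
  obtain ⟨U, hx, ⟨i⟩⟩ := h (f.base x)
  exact ⟨f ⁻¹ᵁ U, hx, Groth.L29.LocFree.restrict_pullback f i⟩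

/-- Right exactness of the inverse image, for the kernel of an epimorphism. -/
theorem exists_desc {X T : Scheme.{u}} (g : T ⟶ X) {E₁ E₂ : X.Modules} (v : E₁ ⟶ E₂) [Epi v]
    {L : T.Modules} (s : (Scheme.Modules.pullback g).obj E₁ ⟶ L)
    (h : (Scheme.Modules.pullback g).map (kernel.ι v) ≫ s = 0) :
    ∃ s' : (Scheme.Modules.pullback g).obj E₂ ⟶ L, (Scheme.Modules.pullback g).map v ≫ s' = s := by
  haveI : PreservesColimitsOfSize.{0, 0} (Scheme.Modules.pullback g) :=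
    (Scheme.Modules.pullbackPushforwardAdjunction g).leftAdjoint_preservesColimits
  let hc := CokernelCofork.mapIsColimit _
    (Abelian.epiIsCokernelOfKernel _ (kernelIsKernel v)) (Scheme.Modules.pullback g)
  let d := CokernelCofork.IsColimit.desc' hc s h
  exact ⟨d.1, d.2⟩

section ZeroLocus

variable {T0 T : Scheme.{u}}

theorem map_eq_zero_iff_app [IsAffine T0] {M : T0.Modules} [Coh.IsQCoh M]
    (σ : M ⟶ Coh.structureModule T0) (g : T ⟶ T0) :
    (Scheme.Modules.pullback g).map σ = 0 ↔ ∀ m : Γ(M, ⊤), g.appTop (σ.app ⊤ m) = 0 := by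
  let ε := Groth.L29.LocFree.pullbackUnitIso g
  let adj := Scheme.Modules.pullbackPushforwardAdjunction g
  let η : Coh.structureModule T0 ⟶ (Scheme.Modules.pushforward g).obj (Coh.structureModule T) :=
    SheafOfModules.unitToPushforwardObjUnit g.toRingCatSheafHom
  have hη : adj.homEquiv _ _ ε.hom = η := Equiv.apply_symm_apply _ _
  have h0 : adj.homEquiv M (Coh.structureModule T) 0 = 0 := by
    rw [Adjunction.homEquiv_unit, Functor.map_zero, comp_zero]
  have key : adj.homEquiv _ _ ((Scheme.Modules.pullback g).map σ ≫ ε.hom) = σ ≫ η := by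
    rw [Adjunction.homEquiv_naturality_left, hη]
  constructor
  · intro h m
    rw [h, zero_comp, h0] at key
    exact (congr($(congrArg (fun k => Scheme.Modules.Hom.app k ⊤) key) m)).symm
  · intro h
    have : σ ≫ η = 0 := Groth.L20.ResDescent.eq_zero_of_affine _ fun x =>
      ⟨⊤, isAffineOpen_top T0, trivial, fun m => h m⟩
    rw [this, ← h0] at key
    exact zero_of_comp_mono ε.hom ((adj.homEquiv _ _).injective key)

/-- the `k`-th coordinate of a free module -/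
def coord (T0 : Scheme.{u}) (r : ℕ) (k : Fin r) : FlatMod.freeMod T0 r ⟶ Coh.structureModule T0 :=
  Sigma.desc fun l => if l = k then 𝟙 _ else 0

theorem sum_coord (T0 : Scheme.{u}) (r : ℕ) :
    ∑ k : Fin r, coord T0 r k ≫ Sigma.ι (fun _ : Fin r => Coh.structureModule T0) k = 𝟙 _ := by
  refine Sigma.hom_ext _ _ fun l => ?_
  rw [Preadditive.comp_sum, Category.comp_id, Finset.sum_eq_single l]
  · simp [coord]
  · intro k _ hk
    simp [coord, Ne.symm hk]
  · simp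

theorem map_eq_zero_iff_coord {M : T0.Modules} {r : ℕ} (τ : M ⟶ FlatMod.freeMod T0 r)
    (g : T ⟶ T0) : (Scheme.Modules.pullback g).map τ = 0 ↔
      ∀ k, (Scheme.Modules.pullback g).map (τ ≫ coord T0 r k) = 0 := by
  constructor
  · intro h k
    rw [Functor.map_comp, h, zero_comp]
  · intro h
    rw [← Category.comp_id τ, ← sum_coord, Preadditive.comp_sum, Functor.map_sum]
    refine Finset.sum_eq_zero fun k _ => ?_
    rw [← Category.assoc, Functor.map_comp, h k, zero_comp]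

/-- The zero locus of a morphism from a quasi-coherent module to a free module on an affine scheme is a
closed subscheme. -/
theorem exists_zeroLocus [IsAffine T0] {M : T0.Modules} [Coh.IsQCoh M] {r : ℕ}
    (τ : M ⟶ FlatMod.freeMod T0 r) :
    ∃ (Z : Scheme.{u}) (i : Z ⟶ T0), IsClosedImmersion i ∧
      ∀ (T : Scheme.{u}) (g : T ⟶ T0), (Scheme.Modules.pullback g).map τ = 0 ↔ ∃ w, w ≫ i = g := by
  let I : Ideal Γ(T0, ⊤) :=
    Ideal.span {a | ∃ (k : Fin r) (m : Γ(M, ⊤)), (τ ≫ coord T0 r k).app ⊤ m = a}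
  let p : Γ(T0, ⊤) ⟶ CommRingCat.of (Γ(T0, ⊤) ⧸ I) := CommRingCat.ofHom (Ideal.Quotient.mk I)
  haveI : IsClosedImmersion (Spec.map p) :=
    IsClosedImmersion.spec_of_surjective p Ideal.Quotient.mk_surjective
  refine ⟨_, Spec.map p ≫ T0.isoSpec.inv, inferInstance, fun T g => ?_⟩
  rw [map_eq_zero_iff_coord]
  simp only [map_eq_zero_iff_app]
  constructor
  · intro h
    have hI : I ≤ RingHom.ker g.appTop.hom := Ideal.span_le.2 <| by
      rintro a ⟨k, m, rfl⟩
      exact h k m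
    refine ⟨T.toSpecΓ ≫ Spec.map (CommRingCat.ofHom (Ideal.Quotient.lift I g.appTop.hom hI)), ?_⟩
    rw [Category.assoc, ← Spec.map_comp_assoc, ← Category.assoc, Iso.comp_inv_eq]
    refine Eq.trans ?_ (Scheme.toSpecΓ_naturality g).symm
    rfl
  · rintro ⟨w, hw⟩ k m
    have e : g ≫ T0.toSpecΓ = w ≫ Spec.map p := by
      rw [← hw, Category.assoc, Category.assoc]
      simp [← Scheme.isoSpec_hom]
    have e' := congrArg (fun f => (Scheme.ΓSpecIso Γ(T0, ⊤)).inv ≫ f.appTop) e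
    simp only [Scheme.Hom.comp_appTop, Scheme.toSpecΓ_appTop, Iso.inv_hom_id_assoc] at e'
    rw [← Scheme.ΓSpecIso_inv_naturality_assoc] at e'
    rw [e']
    simp only [CommRingCat.comp_apply]
    have : p ((τ ≫ coord T0 r k).app ⊤ m) = 0 :=
      Ideal.Quotient.eq_zero_iff_mem.2 (Ideal.subset_span ⟨k, m, rfl⟩)
    erw [this]
    simp

end ZeroLocus

section main

variable {X G₁ G₂ : Scheme.{u}} {π₁ : G₁ ⟶ X} {π₂ : G₂ ⟶ X}
  {E₁ E₂ : X.Modules} {v : E₁ ⟶ E₂} [Epi v] {e : ℕ}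
  {Q₁ : G₁.Modules} {q₁ : (Scheme.Modules.pullback π₁).obj E₁ ⟶ Q₁} (hG₁ : Grass.IsGrass π₁ E₁ e Q₁ q₁)
  {Q₂ : G₂.Modules} {q₂ : (Scheme.Modules.pullback π₂).obj E₂ ⟶ Q₂} (hG₂ : Grass.IsGrass π₂ E₂ e Q₂ q₂)

include hG₁ hG₂

theorem exists_iso (v : E₁ ⟶ E₂) [Epi v] {T : Scheme.{u}} (a : T ⟶ G₂) {g : T ⟶ X} (ha : a ≫ π₂ = g)
    (h : T ⟶ G₁) (hh : a ≫ hG₁.mapOfEpi hG₂ v = h) :
    ∃ (hg : h ≫ π₁ = g) (θ : (Scheme.Modules.pullback h).obj Q₁ ≅ (Scheme.Modules.pullback a).obj Q₂),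
      Grass.quotBC hg q₁ ≫ θ.hom = (Scheme.Modules.pullback g).map v ≫ Grass.quotBC ha q₂ := by
  subst hh
  haveI := hG₂.epi
  haveI := Grass.epi_pullback_map π₂ v
  obtain ⟨hc, θ₀, hθ₀⟩ : ∃ (hc : hG₁.mapOfEpi hG₂ v ≫ π₁ = π₂)
      (θ₀ : (Scheme.Modules.pullback (hG₁.mapOfEpi hG₂ v)).obj Q₁ ≅ Q₂),
      Grass.quotBC hc q₁ ≫ θ₀.hom = (Scheme.Modules.pullback π₂).map v ≫ q₂ :=
    hG₁.lift_spec π₂ Q₂ hG₂.rank ((Scheme.Modules.pullback π₂).map v ≫ q₂) (epi_comp _ _)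
  have hg : (a ≫ hG₁.mapOfEpi hG₂ v) ≫ π₁ = g := by rw [Category.assoc, hc, ha]
  refine ⟨hg, ((Scheme.Modules.pullbackComp a (hG₁.mapOfEpi hG₂ v)).app Q₁).symm ≪≫
    (Scheme.Modules.pullback a).mapIso θ₀, ?_⟩
  rw [map_quotBC, ← hθ₀, quotBC_comp_right, ← quotBC_quotBC hc ha hg]
  simp only [Iso.trans_hom, Iso.symm_hom, Iso.app_inv, Functor.mapIso_hom, Category.assoc]
  erw [Iso.hom_inv_id_app_assoc]

theorem mono_mapOfEpi (v : E₁ ⟶ E₂) [Epi v] : Mono (hG₁.mapOfEpi hG₂ v) := by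
  refine ⟨fun {T} a b hab => ?_⟩
  haveI := hG₂.epi
  obtain ⟨hga, θa, ea⟩ := exists_iso hG₁ hG₂ v a rfl _ rfl
  have hb : b ≫ π₂ = a ≫ π₂ := by
    rw [← hG₁.mapOfEpi_comp hG₂ v, ← Category.assoc, ← Category.assoc, hab]
  obtain ⟨hgb, θb, eb⟩ := exists_iso hG₁ hG₂ v b hb _ hab.symm
  haveI := Grass.epi_pullback_map (a ≫ π₂) v
  refine (hG₂.univ T (a ≫ π₂) _ (isFinLocFreeOfRank_pullback b hG₂.rank) (Grass.quotBC hb q₂)
    (epi_quotBC hb q₂)).unique ⟨rfl, θa.symm ≪≫ θb, ?_⟩ ⟨hb, Iso.refl _, Category.comp_id _⟩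
  rw [← cancel_epi ((Scheme.Modules.pullback (a ≫ π₂)).map v), ← eb, ← Category.assoc, ← ea, Category.assoc,
    Iso.trans_hom, Iso.symm_hom, Iso.hom_inv_id_assoc]

theorem pullback_comp_eq_zero (v : E₁ ⟶ E₂) [Epi v] {T : Scheme.{u}} (a : T ⟶ G₂) :
    (Scheme.Modules.pullback (a ≫ hG₁.mapOfEpi hG₂ v)).map
      ((Scheme.Modules.pullback π₁).map (kernel.ι v) ≫ q₁) = 0 := by
  obtain ⟨hg, θ, eθ⟩ := exists_iso hG₁ hG₂ v a rfl _ rfl
  have h1 : (Scheme.Modules.pullback (a ≫ π₂)).map (kernel.ι v) ≫ Grass.quotBC hg q₁ = 0 := by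
    apply zero_of_comp_mono θ.hom
    rw [Category.assoc, eθ, ← Category.assoc, ← Functor.map_comp, kernel.condition, Functor.map_zero, zero_comp]
  rw [map_quotBC, Grass.quotBC, ← Category.assoc] at h1
  exact zero_of_epi_comp _ h1

theorem exists_factor (v : E₁ ⟶ E₂) [Epi v] {T : Scheme.{u}} (h : T ⟶ G₁)
    (h0 : (Scheme.Modules.pullback h).map ((Scheme.Modules.pullback π₁).map (kernel.ι v) ≫ q₁) = 0) :
    ∃ a : T ⟶ G₂, a ≫ hG₁.mapOfEpi hG₂ v = h := by
  haveI := hG₁.epi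
  have hs : Epi (Grass.quotBC (rfl : h ≫ π₁ = h ≫ π₁) q₁) := epi_quotBC _ q₁
  obtain ⟨s', hs'⟩ := exists_desc (h ≫ π₁) v (Grass.quotBC (rfl : h ≫ π₁ = h ≫ π₁) q₁) (by
    rw [map_quotBC, Grass.quotBC, h0, comp_zero, comp_zero])
  haveI : Epi ((Scheme.Modules.pullback (h ≫ π₁)).map v ≫ s') := hs' ▸ hs
  obtain ⟨a, ⟨ha, e, he⟩, -⟩ := hG₂.univ T (h ≫ π₁) _ (isFinLocFreeOfRank_pullback h hG₁.rank) s'
    (epi_of_epi ((Scheme.Modules.pullback (h ≫ π₁)).map v) s')
  obtain ⟨hg, θ, eθ⟩ := exists_iso hG₁ hG₂ v a ha _ rfl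
  refine ⟨a, (hG₁.univ T (h ≫ π₁) _ (isFinLocFreeOfRank_pullback h hG₁.rank)
    (Grass.quotBC (rfl : h ≫ π₁ = h ≫ π₁) q₁) hs).unique ⟨hg, θ ≪≫ e, ?_⟩ ⟨rfl, Iso.refl _, Category.comp_id _⟩⟩
  rw [Iso.trans_hom, ← Category.assoc, eθ, Category.assoc, he, hs']

theorem isClosedImmersion_mapOfEpi (v : E₁ ⟶ E₂) [Epi v] [Coh.IsQCoh E₁] [Coh.IsQCoh E₂] :
    IsClosedImmersion (hG₁.mapOfEpi hG₂ v) := by
  haveI := mono_mapOfEpi hG₁ hG₂ v
  haveI : Coh.IsQCoh (kernel v) := Groth.L18.IdealModule.isQCoh_kernel v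
  haveI : Coh.IsQCoh ((Scheme.Modules.pullback π₁).obj (kernel v)) :=
    Groth.L16.AffineBC.isQCoh_pullback π₁ _
  have hloc : ∀ x : G₁, ∃ W : G₁.Opens, x ∈ W ∧ IsClosedImmersion (hG₁.mapOfEpi hG₂ v ∣_ W) := fun x => by
    obtain ⟨U, hxU, ⟨iU⟩⟩ := hG₁.rank x
    obtain ⟨_, ⟨W₀, hW, rfl⟩, hxW, hWU⟩ :=
      G₁.isBasis_affineOpens.exists_subset_of_mem_open hxU U.isOpen
    obtain ⟨W, rfl⟩ : ∃ W : G₁.Opens, W = W₀ := ⟨W₀, rfl⟩
    refine ⟨W, hxW, ?_⟩
    haveI : IsAffine W := hW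
    obtain ⟨iW⟩ := Groth.L29.LocFree.restrict_le (hWU : W ≤ U) iU
    let t : (Scheme.Modules.pullback W.ι).obj Q₁ ≅ FlatMod.freeMod (↑W) e :=
      ((Scheme.Modules.restrictFunctorIsoPullback W.ι).app Q₁).symm ≪≫ iW
    haveI : Coh.IsQCoh ((Scheme.Modules.pullback W.ι).obj ((Scheme.Modules.pullback π₁).obj (kernel v))) :=
      Groth.L16.AffineBC.isQCoh_pullback _ _
    obtain ⟨Z, i, hi, hZ⟩ := exists_zeroLocus
      ((Scheme.Modules.pullback W.ι).map ((Scheme.Modules.pullback π₁).map (kernel.ι v) ≫ q₁) ≫ t.hom)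
    have iff₁ : ∀ {T : Scheme.{u}} (g : T ⟶ W),
        (∃ w, w ≫ i = g) ↔ ∃ a, a ≫ hG₁.mapOfEpi hG₂ v = g ≫ W.ι := fun g => by
      rw [← hZ _ g, Functor.map_comp]
      constructor
      · intro h
        refine exists_factor hG₁ hG₂ v _ ?_
        have h' := zero_of_comp_mono _ h
        have n := (Scheme.Modules.pullbackComp g W.ι).hom.naturality
          ((Scheme.Modules.pullback π₁).map (kernel.ι v) ≫ q₁)
        rw [Functor.comp_map, h', zero_comp] at n
        exact zero_of_epi_comp _ n.symm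
      · rintro ⟨a, ha⟩
        have h0 := pullback_comp_eq_zero hG₁ hG₂ v a
        rw [ha] at h0
        have n := (Scheme.Modules.pullbackComp g W.ι).hom.naturality
          ((Scheme.Modules.pullback π₁).map (kernel.ι v) ≫ q₁)
        rw [Functor.comp_map, h0, comp_zero] at n
        rw [zero_of_comp_mono _ n, zero_comp]
    obtain ⟨w, hw⟩ := (iff₁ (pullback.snd (hG₁.mapOfEpi hG₂ v) W.ι)).2
      ⟨pullback.fst _ _, pullback.condition⟩
    obtain ⟨a, ha⟩ := (iff₁ i).1 ⟨𝟙 _, Category.id_comp _⟩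
    haveI : IsIso w := by
      refine ⟨pullback.lift a i ha, ?_, ?_⟩
      · rw [← cancel_mono (pullback.snd (hG₁.mapOfEpi hG₂ v) W.ι), Category.assoc, pullback.lift_snd, hw,
          Category.id_comp]
      · rw [← cancel_mono i, Category.assoc, hw, pullback.lift_snd, Category.id_comp]
    have h1 : IsClosedImmersion ((pullbackRestrictIsoRestrict (hG₁.mapOfEpi hG₂ v) W).inv ≫ w ≫ i) :=
      inferInstance
    rw [hw] at h1
    exact h1
  choose W hxW hW using hloc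
  refine IsZariskiLocalAtTarget.of_iSup_eq_top W (top_le_iff.1 fun x _ => ?_) hW
  exact TopologicalSpace.Opens.mem_iSup.2 ⟨x, hxW x⟩

end main

end Groth.L18.MapEpi
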