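import Mathlib.AlgebraicGeometry.Gluing
import Mathlib.AlgebraicGeometry.OpenImmersion
import Mathlib.Algebra.Category.CommAlgCat.Basic
import Mathlib.AlgebraicGeometry.Cover.Open
import Mathlib.AlgebraicGeometry.AffineScheme
import Mathlib.AlgebraicGeometry.Pullbacks

/-!
# Morphisms over an affine base from their effect on affine points
-/

set_option autoImplicit false

universe u

open AlgebraicGeometry CategoryTheory CategoryTheory.Limits

namespace Groth.L18.GrassAff

variable {R : Type u} [CommRing R]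

/-- affine schemes over `Spec R` -/
noncomputable abbrev pt (A : CommAlgCat.{u} R) : Over (Spec (CommRingCat.of R)) :=
  Over.mk (Spec.map (CommRingCat.ofHom (algebraMap R A)))

variable {X Y : Over (Spec (CommRingCat.of R))}

/-- every morphism from an affine scheme makes it an affine scheme over `Spec R` -/
theorem exists_alg {A : CommRingCat.{u}} (q : Spec A ⟶ X.left) :
    ∃ (_ : Algebra R A) (x : pt (CommAlgCat.of R A) ⟶ X), x.left = q := by
  letI : Algebra R A := (Spec.preimage (q ≫ X.hom)).hom.toAlgebra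
  exact ⟨inferInstance, Over.homMk q (Spec.map_preimage (q ≫ X.hom)).symm, rfl⟩

/-- every morphism of affine schemes over `Spec R` comes from an algebra map -/
theorem exists_algHom {A B : CommAlgCat.{u} R} (q : Spec (CommRingCat.of B) ⟶ Spec (CommRingCat.of A))
    (h : q ≫ Spec.map (CommRingCat.ofHom (algebraMap R A)) = Spec.map (CommRingCat.ofHom (algebraMap R B))) :
    ∃ φ : A ⟶ B, Spec.map (CommRingCat.ofHom φ.hom.toRingHom) = q := by
  obtain ⟨ψ, rfl⟩ := Spec.map_surjective q
  rw [← Spec.map_comp] at h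
  have h' := Spec.map_injective h
  exact ⟨CommAlgCat.ofHom ⟨ψ.hom, fun a => RingHom.congr_fun (congrArg CommRingCat.Hom.hom h') a⟩, rfl⟩

variable (η : ∀ A : CommAlgCat.{u} R, (pt A ⟶ X) → (pt A ⟶ Y))
  (hη : ∀ (A B : CommAlgCat.{u} R) (φ : A ⟶ B) (x : pt A ⟶ X) (x' : pt B ⟶ X),
    x'.left = Spec.map (CommRingCat.ofHom φ.hom.toRingHom) ≫ x.left →
      (η B x').left = Spec.map (CommRingCat.ofHom φ.hom.toRingHom) ≫ (η A x).left)

include hη in
theorem agree_affine {A A' : CommAlgCat.{u} R} (x : pt A ⟶ X) (x' : pt A' ⟶ X) {B : CommRingCat.{u}}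
    (a : Spec B ⟶ Spec (CommRingCat.of A)) (a' : Spec B ⟶ Spec (CommRingCat.of A')) (h : a ≫ x.left = a' ≫ x'.left) :
    a ≫ (η A x).left = a' ≫ (η A' x').left := by
  obtain ⟨_, z, hz⟩ := exists_alg (X := X) (a ≫ x.left)
  have hw : z.left ≫ X.hom = Spec.map (CommRingCat.ofHom (algebraMap R _)) := Over.w z
  have hx : x.left ≫ X.hom = Spec.map (CommRingCat.ofHom (algebraMap R A)) := Over.w x
  have hx' : x'.left ≫ X.hom = Spec.map (CommRingCat.ofHom (algebraMap R A')) := Over.w x'
  obtain ⟨φ, hφ⟩ := exists_algHom (A := A) (B := CommAlgCat.of R _) a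
    (by rw [← hw, ← hx, hz]; simp only [Category.assoc])
  obtain ⟨φ', hφ'⟩ := exists_algHom (A := A') (B := CommAlgCat.of R _) a'
    (by rw [← hw, ← hx', hz, h]; simp only [Category.assoc])
  have e := hη _ _ φ x z (by rw [hφ, hz])
  have e' := hη _ _ φ' x' z (by rw [hφ', hz, h])
  rw [hφ] at e
  rw [hφ'] at e'
  exact e.symm.trans e'

include hη in
theorem agree {A A' : CommAlgCat.{u} R} (x : pt A ⟶ X) (x' : pt A' ⟶ X) {T : Scheme.{u}}
    (a : T ⟶ Spec (CommRingCat.of A)) (a' : T ⟶ Spec (CommRingCat.of A')) (h : a ≫ x.left = a' ≫ x'.left) :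
    a ≫ (η A x).left = a' ≫ (η A' x').left := by
  refine Scheme.Cover.hom_ext T.affineCover _ _ fun q => ?_
  exact (Category.assoc _ _ _).symm.trans ((agree_affine η hη x x' (T.affineCover.f q ≫ a) (T.affineCover.f q ≫ a')
    (by rw [Category.assoc, Category.assoc]; exact congrArg (_ ≫ ·) h)).trans (Category.assoc _ _ _))

include hη in
/-- A natural map on affine points comes from a morphism. -/
theorem exists_hom : ∃ c : X ⟶ Y, ∀ (A : CommAlgCat.{u} R) (x : pt A ⟶ X), x ≫ c = η A x := by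
  let 𝒰 := X.left.affineCover
  choose ia x hx using fun i => exists_alg (X := X) (𝒰.f i)
  letI : ∀ i, Algebra R _ := ia
  let g : ∀ i, 𝒰.X i ⟶ Y.left := fun i => (η _ (x i)).left
  have hg : ∀ i j, pullback.fst (𝒰.f i) (𝒰.f j) ≫ g i = pullback.snd (𝒰.f i) (𝒰.f j) ≫ g j := fun i j =>
    agree η hη (x i) (x j) _ _ (by rw [hx, hx]; exact pullback.condition)
  let c0 := 𝒰.glueMorphisms g hg
  have hc0 : c0 ≫ Y.hom = X.hom := 𝒰.hom_ext _ _ fun i => by
    rw [← Category.assoc, Scheme.Cover.ι_glueMorphisms]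
    exact (Over.w (η _ (x i))).trans ((Over.w (x i)).symm.trans (congrArg (· ≫ X.hom) (hx i)))
  refine ⟨Over.homMk c0 hc0, fun A z => Over.OverMorphism.ext ?_⟩
  let zl : Spec (CommRingCat.of A) ⟶ X.left := z.left
  show zl ≫ c0 = (η A z).left
  refine Scheme.Cover.hom_ext (𝒰.pullback₁ zl) _ _ fun i => ?_
  show pullback.fst zl (𝒰.f i) ≫ zl ≫ c0 = pullback.fst zl (𝒰.f i) ≫ (η A z).left
  rw [← Category.assoc, pullback.condition, Category.assoc, Scheme.Cover.ι_glueMorphisms]
  exact agree η hη (x i) z _ _ (by rw [hx]; exact pullback.condition.symm)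

end Groth.L18.GrassAff
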