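import Groth.Agent.L18.Grass.ClosedImm
import Groth.Agent.L13.FixedLocus.Glue
import Mathlib.RingTheory.TensorProduct.Basic

/-!
# The closed subscheme of left ideals in a Grassmannian
-/

set_option autoImplicit false

universe u

open AlgebraicGeometry CategoryTheory CategoryTheory.Limits Module TensorProduct
open Groth.L18.GrassAff Groth.L18.GrassClosed

namespace Groth.L18.GrassIdeal

variable {R : Type u} [CommRing R] {A : Type u} [Ring A] [Algebra R A] {k : ℕ}

/-- being stable under left multiplication -/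
def Stable {B : Type u} [CommRing B] [Algebra R B] (N : Submodule B (B ⊗[R] A)) : Prop :=
  ∀ (a : A) (x : B ⊗[R] A), x ∈ N → ((1 : B) ⊗ₜ[R] a) * x ∈ N

variable {B C : Type u} [CommRing B] [Algebra R B] [CommRing C] [Algebra R C]

/-- the ideal of the stable locus -/
noncomputable def locus (N : Module.Grassmannian B (B ⊗[R] A) k) : Ideal B :=
  Ideal.span {c | ∃ (l : ((B ⊗[R] A) ⧸ N.toSubmodule) →ₗ[B] B) (a : A) (x : B ⊗[R] A),
    x ∈ N.toSubmodule ∧ l (N.toSubmodule.mkQ (((1 : B) ⊗ₜ[R] a) * x)) = c}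

theorem le_ker_iff (φ : B →ₐ[R] C) (N : Module.Grassmannian B (B ⊗[R] A) k) :
    locus N ≤ RingHom.ker φ.toRingHom ↔ Stable (Module.Grassmannian.map φ N).toSubmodule := by
  rw [Module.Grassmannian.map_toSubmodule]
  algebraize [φ.toRingHom]
  haveI : IsScalarTower R B C := IsScalarTower.of_algebraMap_eq' φ.comp_algebraMap.symm
  set c := AlgebraTensorModule.cancelBaseChange R B C C A
  have hq : ∀ y, Module.Grassmannian.baseChangeMkQ C N.toSubmodule (c ((1 : C) ⊗ₜ[B] y)) =
      (1 : C) ⊗ₜ[B] N.toSubmodule.mkQ y := fun y => by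
    show N.toSubmodule.mkQ.baseChange C (c.symm (c ((1 : C) ⊗ₜ[B] y))) = _
    rw [LinearEquiv.symm_apply_apply, LinearMap.baseChange_tmul]
  have hmul : ∀ (a : A) (x : B ⊗[R] A),
      ((1 : C) ⊗ₜ[R] a) * c ((1 : C) ⊗ₜ[B] x) = c ((1 : C) ⊗ₜ[B] (((1 : B) ⊗ₜ[R] a) * x)) := by
    intro a x
    induction x with
    | zero => simp
    | tmul b m =>
      simp only [c, AlgebraTensorModule.cancelBaseChange_tmul, Algebra.TensorProduct.tmul_mul_tmul, one_mul]
    | add x y hx hy => simp only [mul_add, TensorProduct.tmul_add, map_add, hx, hy]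
  constructor
  · intro h a y hy
    have hex : Function.Exact (LinearMap.lTensor C N.toSubmodule.subtype) (LinearMap.lTensor C N.toSubmodule.mkQ) :=
      lTensor_exact C (LinearMap.exact_subtype_mkQ _) (Submodule.mkQ_surjective _)
    obtain ⟨t, ht⟩ := (hex (c.symm y)).1 hy
    have hy' : y = c (LinearMap.lTensor C N.toSubmodule.subtype t) := by rw [ht, LinearEquiv.apply_symm_apply]
    subst hy'
    clear hy ht
    induction t with
    | zero => simp
    | tmul b x =>
      rw [LinearMap.lTensor_tmul, show b ⊗ₜ[B] (N.toSubmodule.subtype x) = b • ((1 : C) ⊗ₜ[B] (x : B ⊗[R] A)) by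
        rw [TensorProduct.smul_tmul', smul_eq_mul, mul_one]; rfl, map_smul, mul_smul_comm, hmul]
      refine Submodule.smul_mem _ b ?_
      show Module.Grassmannian.baseChangeMkQ C N.toSubmodule _ = 0
      rw [hq]
      obtain ⟨n, f, g, -, -, hfg⟩ := Module.Finite.exists_comp_eq_id_of_projective B ((B ⊗[R] A) ⧸ N.toSubmodule)
      set z := N.toSubmodule.mkQ (((1 : B) ⊗ₜ[R] a) * (x : B ⊗[R] A))
      have hz : z = ∑ i, g z i • f (Pi.single i 1) := by
        conv_lhs => rw [show z = f (g z) from (LinearMap.congr_fun hfg z).symm, pi_eq_sum_univ' (g z)]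
        simp only [map_sum, map_smul]
      rw [hz, TensorProduct.tmul_sum]
      refine Finset.sum_eq_zero fun i _ => ?_
      have h0 : φ.toRingHom (g z i) = 0 := h (Ideal.subset_span ⟨(LinearMap.proj i).comp g, a, _, x.2, rfl⟩)
      rw [← TensorProduct.smul_tmul, Algebra.smul_def, show algebraMap B C (g z i) = 0 from h0, zero_mul,
        TensorProduct.zero_tmul]
    | add x y hx hy => rw [map_add, map_add, mul_add]; exact add_mem hx hy
  · intro h
    refine Ideal.span_le.2 ?_
    rintro _ ⟨l, a, x, hx, rfl⟩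
    have hx' : c ((1 : C) ⊗ₜ[B] x) ∈ (Module.Grassmannian.baseChangeMkQ C N.toSubmodule).ker := by
      show Module.Grassmannian.baseChangeMkQ C N.toSubmodule _ = 0
      rw [hq, Submodule.mkQ_apply, (Submodule.Quotient.mk_eq_zero _).2 hx, TensorProduct.tmul_zero]
    have h1 := h a _ hx'
    rw [hmul] at h1
    have h2 := congrArg (fun z => TensorProduct.rid B C (LinearMap.lTensor C l z)) ((hq _).symm.trans h1)
    simp only [LinearMap.lTensor_tmul, TensorProduct.rid_tmul, map_zero] at h2
    rw [Algebra.smul_def, mul_one] at h2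
    exact h2

variable {X : Over (Spec (CommRingCat.of R))}
  (e : ∀ B : CommAlgCat.{u} R, (pt B ⟶ X) ≃ (Module.Grassmannian.functor (R := R) (M := A) k).obj B)
  (he : ∀ (B C : CommAlgCat.{u} R) (φ : B ⟶ C) (g : pt B ⟶ X) (g' : pt C ⟶ X),
      g'.left = Spec.map (CommRingCat.ofHom φ.hom.toRingHom) ≫ g.left →
        e C g' = (Module.Grassmannian.functor (R := R) (M := A) k).map φ (e B g))

include he in
theorem stable_of_factor {B C : CommAlgCat.{u} R} (x : pt B ⟶ X) (y : pt C ⟶ X)
    (q : Spec (CommRingCat.of C) ⟶ Spec (CommRingCat.of B)) (hq : y.left = q ≫ x.left) :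
    ∃ φ : B ⟶ C, Spec.map (CommRingCat.ofHom φ.hom.toRingHom) = q ∧
      (Stable (e C y).toSubmodule ↔ locus (R := R) (e B x) ≤ RingHom.ker φ.hom.toRingHom) := by
  have hx : x.left ≫ X.hom = Spec.map (CommRingCat.ofHom (algebraMap R B)) := Over.w x
  have hy : y.left ≫ X.hom = Spec.map (CommRingCat.ofHom (algebraMap R C)) := Over.w y
  obtain ⟨φ, hφ⟩ := exists_algHom (A := B) (B := C) q (by rw [← hx, ← hy, hq, Category.assoc])
  exact ⟨φ, hφ, by rw [he B C φ x y (by rw [hq, hφ]), le_ker_iff]; rfl⟩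

include he in
theorem exists_closedImmersion :
    ∃ (Z : Scheme.{u}) (ι : Z ⟶ X.left), IsClosedImmersion ι ∧
      ∀ (B : CommAlgCat.{u} R) (g : pt B ⟶ X),
        (∃ h : (pt B).left ⟶ Z, h ≫ ι = g.left) ↔ Stable (e B g).toSubmodule := by
  let P : ∀ (Y : Scheme.{u}), (Y ⟶ X.left) → Prop := fun Y g => ∀ (B : CommAlgCat.{u} R) (x : pt B ⟶ X)
    (h : Spec (CommRingCat.of B) ⟶ Y), h ≫ g = x.left → Stable (e B x).toSubmodule
  obtain ⟨Z, ι, hι, hZ⟩ := Groth.L13.FixedLocus.exists_closedImmersion_of_affine P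
    (fun Y Z h g hP B x t ht => hP B x (t ≫ h) (by rw [Category.assoc]; exact ht))
    (fun Y g hloc B x t ht => by
      choose W hW hPW using hloc
      obtain ⟨φ, hφ, hst⟩ := stable_of_factor e he x x (𝟙 _) (Category.id_comp _).symm
      rw [hst]
      set J := locus (R := R) (e B x)
      let π : Spec (CommRingCat.of (B ⧸ J)) ⟶ Spec (CommRingCat.of B) :=
        Spec.map (CommRingCat.ofHom (Ideal.Quotient.mk J))
      haveI : IsClosedImmersion π := IsClosedImmersion.spec_of_surjective _ Ideal.Quotient.mk_surjective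
      have hb : ∀ {C : CommRingCat.{u}} (b : Spec C ⟶ Spec (CommRingCat.of B)) (y : Y) (w : Spec C ⟶ (W y).toScheme),
          w ≫ (W y).ι = b ≫ t → ∃ σ, σ ≫ π = b := by
        intro C b y w hw
        obtain ⟨_, z, hz⟩ := exists_alg (X := X) (b ≫ x.left)
        obtain ⟨ψ, hψ, hψst⟩ := stable_of_factor e he x z b hz
        have h2 := hψst.1 (hPW y _ z w (by rw [← Category.assoc, hw, hz, Category.assoc]; exact congrArg _ ht))
        refine ⟨Spec.map (CommRingCat.ofHom (Ideal.Quotient.lift J ψ.hom.toRingHom h2)), ?_⟩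
        rw [← hψ, ← Spec.map_comp]
        rfl
      let 𝒰 : (Spec (CommRingCat.of B)).OpenCover := Scheme.openCoverOfIsOpenCover _ (fun y : Y => t ⁻¹ᵁ W y)
        (eq_top_iff.2 fun p _ => TopologicalSpace.Opens.mem_iSup.2 ⟨t p, hW (t p)⟩)
      have hloc' : ∀ (i : 𝒰.I₀) (j : (𝒰.X i).affineCover.I₀), ∃ σ, σ ≫ π = (𝒰.X i).affineCover.f j ≫ 𝒰.f i :=
        fun i j => hb _ i ((𝒰.X i).affineCover.f j ≫ (t ∣_ W i)) (by
          exact (Category.assoc _ _ _).trans ((congrArg ((𝒰.X i).affineCover.f j ≫ ·) (morphismRestrict_ι t (W i))).trans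
            (Category.assoc _ _ _).symm))
      choose σ hσ using hloc'
      let gi : ∀ i, 𝒰.X i ⟶ Spec (CommRingCat.of (B ⧸ J)) := fun i =>
        (𝒰.X i).affineCover.glueMorphisms (σ i) fun j l => (cancel_mono π).1 (by
          refine (Category.assoc _ _ _).trans (((congrArg (_ ≫ ·) (hσ i j)).trans ?_).trans
            ((congrArg (_ ≫ ·) (hσ i l)).symm.trans (Category.assoc _ _ _).symm))
          rw [← Category.assoc, pullback.condition, Category.assoc])
      have hgi : ∀ i, gi i ≫ π = 𝒰.f i := fun i => Scheme.Cover.hom_ext (𝒰.X i).affineCover _ _ fun j =>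
        (Category.assoc _ _ _).symm.trans
          ((congrArg (· ≫ π) (Scheme.Cover.ι_glueMorphisms _ _ _ j)).trans (hσ i j))
      let G : Spec (CommRingCat.of B) ⟶ Spec (CommRingCat.of (B ⧸ J)) :=
        𝒰.glueMorphisms gi fun i l => (cancel_mono π).1 (by
          rw [Category.assoc, Category.assoc, hgi, hgi, pullback.condition])
      have hG : G ≫ π = 𝟙 _ := Scheme.Cover.hom_ext 𝒰 _ _ fun i =>
        (Category.assoc _ _ _).symm.trans ((congrArg (· ≫ π) (Scheme.Cover.ι_glueMorphisms _ _ _ i)).trans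
          ((hgi i).trans (Category.comp_id _).symm))
      obtain ⟨s, hs⟩ := Spec.map_surjective G
      rw [← hs, ← Spec.map_comp, ← Spec.map_id] at hG
      have hG' := RingHom.congr_fun (congrArg CommRingCat.Hom.hom (Spec.map_injective hG))
      intro a ha
      have ha' : a = 0 := (hG' a).symm.trans ((congrArg s.hom (Ideal.Quotient.eq_zero_iff_mem.2 ha)).trans (map_zero _))
      rw [ha']
      exact zero_mem _)
    (fun U => by
      obtain ⟨_, x, hx⟩ := exists_alg (X := X) U.2.fromSpec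
      refine ⟨locus (R := R) (e _ x), fun C φ => ⟨fun hP => ?_, fun hle B y t ht => ?_⟩⟩
      · obtain ⟨_, y, hy⟩ := exists_alg (X := X) (Spec.map φ ≫ U.2.fromSpec)
        obtain ⟨ψ, hψ, hst⟩ := stable_of_factor e he x y (Spec.map φ) (by rw [hy, hx])
        have := hst.1 (hP _ y (𝟙 _) (by rw [hy]; exact Category.id_comp _))
        rw [show φ.hom = ψ.hom.toRingHom from congrArg CommRingCat.Hom.hom (Spec.map_injective hψ).symm]
        exact this
      · obtain ⟨ψ, hψ, hst⟩ := stable_of_factor e he x y (t ≫ Spec.map φ) (by rw [← ht, hx, Category.assoc])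
        refine hst.2 fun a ha => ?_
        obtain ⟨s, rfl⟩ := Spec.map_surjective t
        rw [← Spec.map_comp] at hψ
        have e1 : ψ.hom.toRingHom a = s.hom (φ.hom a) :=
          RingHom.congr_fun (congrArg CommRingCat.Hom.hom (Spec.map_injective hψ)) a
        rw [RingHom.mem_ker, e1, RingHom.mem_ker.1 (hle ha), map_zero])
  refine ⟨Z, ι, hι, fun B g => (hZ _ g.left).trans ⟨fun hP => hP B g (𝟙 _) (Category.id_comp _),
    fun hst B' x' t ht => ?_⟩⟩
  obtain ⟨φ, hφ, hst'⟩ := stable_of_factor e he g x' t ht.symm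
  obtain ⟨φ₁, hφ₁, hst₁⟩ := stable_of_factor e he g g (𝟙 _) (Category.id_comp _).symm
  refine hst'.2 fun a ha => ?_
  have h0 := RingHom.mem_ker.1 (hst₁.1 hst ha)
  have e1 : φ₁.hom.toRingHom = RingHom.id B := by
    have := (hφ₁.trans (Spec.map_id _).symm)
    exact congrArg CommRingCat.Hom.hom (Spec.map_injective this)
  rw [e1] at h0
  rw [show a = 0 from h0]
  exact zero_mem _

end Groth.L18.GrassIdeal
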