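import Groth.Agent.L18.Grass.QuotCover

/-!
# Existence of the Grassmannian of a quasi-coherent module
-/

set_option autoImplicit false
set_option linter.style.haveILetI false
set_option backward.isDefEq.respectTransparency false
set_option backward.isDefEq.respectTransparency.types false

universe u

open CategoryTheory CategoryTheory.Limits AlgebraicGeometry TopologicalSpace Opposite

noncomputable section

namespace Groth.L18.QuotExist

open Groth.L18.QuotFam Groth.L18.QuotChart
open Groth.L25.HomScheme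

variable {X : Scheme.{u}} {E : X.Modules} {e : ℕ}

/-- A representing quotient is a Grassmannian. -/
theorem isGrass_of_isRep {A : Over X} {Q : A.left.Modules} (hQ : FlatMod.IsFinLocFreeOfRank e Q)
    (q : (Scheme.Modules.pullback A.hom).obj E ⟶ Q) [Epi q]
    (h : (qFam E e).IsRep A (mk A hQ q)) : Grass.IsGrass A.hom E e Q q where
  rank := hQ
  epi := inferInstance
  univ T g L hL s hs := by
    haveI := hs
    have key : ∀ a : Over.mk g ⟶ A, (qFam E e).res a (mk A hQ q) = mk (Over.mk g) hL s ↔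
        ∃ θ : (Scheme.Modules.pullback a.left).obj Q ≅ L, Grass.quotBC (Over.w a) q ≫ θ.hom = s := fun a => by
      haveI := Groth.L18.MapEpi.epi_quotBC (Over.w a) q
      show res E e a (mk A hQ q) = _ ↔ _
      rw [res_mk, mk_eq_mk]
      rfl
    obtain ⟨a, ha, hu⟩ := h (Over.mk g) (mk (Over.mk g) hL s)
    obtain ⟨θ, hθ⟩ := (key a).1 ha
    refine ⟨a.left, ⟨Over.w a, θ, hθ⟩, fun b ⟨hb, θ', hθ'⟩ => ?_⟩
    exact congrArg CommaMorphism.left (hu (Over.homMk b hb) ((key _).2 ⟨θ', hθ'⟩))

variable (E e) [Coh.IsQCoh E]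

/-- The Grassmannian of a quasi-coherent module exists. -/
theorem exists_isGrass : ∃ (G : Scheme.{u}) (π : G ⟶ X) (Q : G.Modules)
    (q : (Scheme.Modules.pullback π).obj E ⟶ Q), Grass.IsGrass π E e Q q := by
  obtain ⟨A, η, hη⟩ := Groth.L02.Hilb.exists_rep_openCharts (qFam E e) (zarSep E e) (zarGlue E e)
    (ι := Σ U : X.affineOpens, Fin e → Γ(E, (U : X.Opens))) (fun i => chart i.1.2 i.2) (fun i => ξ i.1.2 i.2)
    (fun i _ _ _ h => hom_ext_of_res i.1.2 i.2 h) (fun i T x => exists_open i.1.2 i.2 T x)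
    (fun T x t => by
      obtain ⟨U, I, T', g, hg, ht, h⟩ := exists_chart T x t
      exact ⟨⟨U, I⟩, T', g, hg, ht, h⟩)
  obtain ⟨Q, hQ, q, hq, rfl⟩ := exists_mk η
  exact ⟨A.left, A.hom, Q, q, isGrass_of_isRep hQ q hη⟩

end Groth.L18.QuotExist
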