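import Groth.Agent.L18.Grass.PlkChart

/-!
# The Plücker morphism is a closed immersion
-/

set_option autoImplicit false
set_option linter.style.haveILetI false
set_option backward.isDefEq.respectTransparency false
set_option backward.isDefEq.respectTransparency.types false

universe u

open CategoryTheory CategoryTheory.Limits AlgebraicGeometry TopologicalSpace Opposite Module

noncomputable section

namespace Groth.L18.PlkMap

open Groth.L18.Frame (rs ro rs_rs rs_self rs_smul IsFrame isUnit_of_isFrame)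
open Groth.L18.PullHom (sec)
open Groth.L18.QuotBasis Groth.L18.QuotFam Groth.L18.QuotChart Groth.L18.GrassCharts
open Groth.L18.PlkAlg (K detAlt)
open Groth.L19.ProjBdl (IsBasisOn locus locus_le)
open Groth.L25.HomScheme

variable {X G P : Scheme.{u}} {π : G ⟶ X} {E L : X.Modules} {e d n : ℕ} {ks : Fin n ≃ Set.powersetCard (Fin d) e}
  {Q : G.Modules} {q : (Scheme.Modules.pullback π).obj E ⟶ Q}
  {p : P ⟶ X} {O1 : P.Modules} {u : (Scheme.Modules.pullback p).obj L ⟶ O1}

theorem inter_locus_le_basicOpen {V : X.Opens} {b : Fin n → Γ(L, V)} (i l : Fin n) :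
    locus p u b i ⊓ locus p u b l ≤ P.basicOpen (Groth.L19.ProjBdl.crd p u b i l) := by
  set W := locus p u b i ⊓ locus p u b l
  have hi := (Groth.L19.ProjBdl.isFrame_locus p u b i).mono (inf_le_left : W ≤ _)
  have hl := (Groth.L19.ProjBdl.isFrame_locus p u b l).mono (inf_le_right : W ≤ _)
  rw [rs_rs] at hi hl
  have h := congrArg (rs O1 (inf_le_left : W ≤ _)) (Groth.L19.ProjBdl.crd_smul p u b i l)
  rw [rs_smul, rs_rs, rs_rs] at h
  have hu := isUnit_of_isFrame hi (h ▸ hl)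
  have h2 := P.basicOpen_of_isUnit hu
  rw [Scheme.basicOpen_res] at h2
  exact h2.ge.trans inf_le_right

variable (hG : Grass.IsGrass π E e Q q) [Coh.IsQCoh E]

include hG in
/-- One chart meets another in the locus where a minor is invertible. -/
theorem preimage_range_chartMap {U : X.Opens} (hU : IsAffineOpen U) (I I' : Fin e → Γ(E, U))
    (y : (chart hU I).left) :
    (chartMap hG hU I).left y ∈ Set.range (chartMap hG hU I').left ↔
      y ∈ (chart hU I).left.basicOpen (Matrix.of fun j k => QuotChart.crd hU I (I' j) k).det := by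
  set M := (Matrix.of fun j k => QuotChart.crd hU I (I' j) k)
  haveI := (exists_univ hU I).choose_spec.1
  have hM : ∀ j, (exists_univ hU I).choose.app ⊤ (sec (chart_le hU I) (I' j)) =
      ∑ k, M j k • uvec (chart hU I).left e k := fun j => (exists_univ hU I).choose_spec.2 (I' j)
  constructor
  · intro h
    let O : (chart hU I).left.Opens := (chartMap hG hU I).left ⁻¹ᵁ (chartMap hG hU I').left.opensRange
    let T := openObj (chart hU I) O
    let j := openHom (chart hU I) O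
    haveI := Groth.L18.MapEpi.epi_quotBC (Over.w j) (exists_univ hU I).choose
    obtain ⟨a, ha⟩ := (exists_factor_iff hG hU I' (j ≫ chartMap hG hU I)).2 (by
      rintro _ ⟨t, rfl⟩
      exact t.2)
    rw [res_comp_chartMap, (res_ξ_eq_iff hU I
      (Groth.L18.MapEpi.isFinLocFreeOfRank_pullback j.left (isFinLocFreeOfRank_free (chart hU I).left e))
      (Grass.quotBC (Over.w j) (exists_univ hU I).choose) j).2 (Rel.refl _)] at ha
    obtain ⟨hg, hb⟩ := (exists_hom_iff hU I' _ _).1 ⟨a, ha⟩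
    have hdet : IsUnit (M.map j.left.appTop).det := by
      refine IsBasis.isUnit_det (τ := fun k => pl j.left _ (uvec (chart hU I).left e k)) hb fun l => ?_
      rw [app_sec_quotBC (Over.w j) (chart_le hU I), hM, pl_sum_smul]
      rfl
    rw [show (M.map j.left.appTop).det = j.left.appTop M.det from (RingHom.map_det _ M).symm] at hdet
    have h' : (⟨y, h⟩ : T.left) ∈ j.left ⁻¹ᵁ (chart hU I).left.basicOpen M.det := by
      rw [Scheme.preimage_basicOpen_top, T.left.basicOpen_of_isUnit hdet]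
      trivial
    exact h'
  · intro h
    obtain ⟨a, ha⟩ := exists_hom_basicOpen hU I' (chart_le hU I) (isFinLocFreeOfRank_free (chart hU I).left e)
      (exists_univ hU I).choose isBasis_uvec hM
    have h' := (exists_factor_iff hG hU I' (openHom (chart hU I) ((chart hU I).left.basicOpen M.det) ≫
      chartMap hG hU I)).1 ⟨a, by rw [res_comp_chartMap]; exact ha⟩
    exact h' ⟨⟨y, h⟩, rfl⟩

variable (hPB : KRR.IsProjBundle p L O1 u) {α : Type u} (Fr : α → Frm E L ks)
  (hc : ∀ a a' (x : X), x ∈ ((Fr a).U : X.Opens) → x ∈ ((Fr a').U : X.Opens) →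
    ∃ (V : X.Opens) (hV : V ≤ (Fr a).U) (hV' : V ≤ (Fr a').U)
      (wV : Γ(E, V) [⋀^Fin e]→ₗ[Γ(X, V)] Γ(L, V)), x ∈ V ∧
        (∀ m, rs L hV ((Fr a).w m) = wV fun j => rs E hV (m j)) ∧
        ∀ m, rs L hV' ((Fr a').w m) = wV fun j => rs E hV' (m j))

include hPB hc in
/-- The morphisms of two charts agree on common points. -/
theorem agree (a a' : α) (l l' : Fin n) {Z : Over X} (f : Z ⟶ (Fr a).cht l) (f' : Z ⟶ (Fr a').cht l')
    (hres : (qFam E e).res f (ξ (Fr a).U.2 ((Fr a).tup l)) = (qFam E e).res f' (ξ (Fr a').U.2 ((Fr a').tup l'))) :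
    f.left ≫ (Fr a).toP hPB l = f'.left ≫ (Fr a').toP hPB l' := by
  choose V hV hV' wV hxV hw hw' using fun z : Z.left => hc a a' (Z.hom z)
    (le_of_hom (Fr a).U.2 _ f (trivial : z ∈ (⊤ : Z.left.Opens)))
    (le_of_hom (Fr a').U.2 _ f' (trivial : z ∈ (⊤ : Z.left.Opens)))
  refine Scheme.Cover.hom_ext (Scheme.Cover.mkOfCovers Z.left (fun z => (Z.hom ⁻¹ᵁ V z).toScheme)
    (fun z => (Z.hom ⁻¹ᵁ V z).ι) (fun z => ⟨z, ⟨z, hxV z⟩, rfl⟩) inferInstance : Z.left.OpenCover) _ _ fun z => ?_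
  show (Z.hom ⁻¹ᵁ V z).ι ≫ f.left ≫ _ = (Z.hom ⁻¹ᵁ V z).ι ≫ f'.left ≫ _
  let j := openHom Z (Z.hom ⁻¹ᵁ V z)
  rw [← Category.assoc, ← Category.assoc]
  exact agree_local hPB (Fr a) (Fr a') l l' (j ≫ f) (j ≫ f')
    (by rw [(qFam E e).res_comp, (qFam E e).res_comp, hres]) (hV z) (hV' z) (le_openObj le_rfl) (wV z) (hw z) (hw' z)

include hG hPB hc in
/-- The Plücker closed immersion, over the union of the opens of the frames. -/
theorem exists_closedImmersion :
    ∃ c : (openObj (Over.mk π) (π ⁻¹ᵁ ⨆ a, ((Fr a).U : X.Opens))).left ⟶ (p ⁻¹ᵁ ⨆ a, ((Fr a).U : X.Opens)).toScheme,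
      IsClosedImmersion c ∧ c ≫ (p ⁻¹ᵁ ⨆ a, ((Fr a).U : X.Opens)).ι ≫ p =
        (π ⁻¹ᵁ ⨆ a, ((Fr a).U : X.Opens)).ι ≫ π := by
  classical
  set O := ⨆ a, ((Fr a).U : X.Opens)
  let G' := openObj (Over.mk π) (π ⁻¹ᵁ O)
  let C : α × Fin n → Over X := fun i => (Fr i.1).cht i.2
  let cm : ∀ i : α × Fin n, C i ⟶ Over.mk π := fun i => chartMap hG (Fr i.1).U.2 ((Fr i.1).tup i.2)
  have hrange : ∀ i, Set.range (cm i).left ⊆ Set.range (π ⁻¹ᵁ O).ι := fun i => by
    rw [Scheme.Opens.range_ι]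
    exact (range_chartMap_subset hG _ (Fr i.1).U.2).trans fun z hz => (le_iSup (fun a => ((Fr a).U : X.Opens)) i.1) hz
  let j : ∀ i, C i ⟶ G' := fun i => Over.homMk (IsOpenImmersion.lift (π ⁻¹ᵁ O).ι (cm i).left (hrange i)) (by
    show _ ≫ (π ⁻¹ᵁ O).ι ≫ π = _
    rw [IsOpenImmersion.lift_fac_assoc]
    exact Over.w (cm i))
  have hj : ∀ i, (j i).left ≫ (π ⁻¹ᵁ O).ι = (cm i).left := fun i => IsOpenImmersion.lift_fac _ _ _
  haveI hjo : ∀ i, IsOpenImmersion (j i).left := fun i => by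
    haveI : IsOpenImmersion ((j i).left ≫ (π ⁻¹ᵁ O).ι) := by
      rw [hj]
      exact isOpenImmersion_chartMap hG (Fr i.1).U.2 _
    exact IsOpenImmersion.of_comp (j i).left (π ⁻¹ᵁ O).ι
  have hperm : ∀ (a : α) (z : G), π z ∈ ((Fr a).U : X.Opens) →
      ∃ l, z ∈ Set.range (cm (a, l)).left := by
    intro a z hz
    obtain ⟨J, hJ, y, rfl⟩ := exists_mem_range hG (Fr a).U (α := ULift.{u} (Fin d)) (fun i => (Fr a).b i.down)
      (by rw [show Set.range (fun i : ULift.{u} (Fin d) => (Fr a).b i.down) = Set.range (Fr a).b from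
        ULift.down_surjective.range_comp (Fr a).b]; exact (Fr a).b.span_eq.ge) hz
    obtain ⟨l, σ, hσ⟩ := Groth.L18.PlkAlg.exists_K_eq_comp ks (J := fun k => (J k).down)
      fun a b h => hJ (ULift.down_injective h)
    refine ⟨l, (preimage_range_chartMap hG (Fr a).U.2 _ ((Fr a).tup l) y).2 ?_⟩
    have e1 : (Matrix.of fun j k => QuotChart.crd (Fr a).U.2 ((fun i => (Fr a).b i.down) ∘ J) ((Fr a).tup l j) k) =
        (1 : Matrix (Fin e) (Fin e) _).submatrix σ.symm id := by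
      ext j k
      have hj' : (Fr a).tup l j = ((fun i : ULift.{u} (Fin d) => (Fr a).b i.down) ∘ J) (σ.symm j) := by
        show (Fr a).b (K ks l j) = (Fr a).b (J (σ.symm j)).down
        rw [← hσ, Equiv.apply_symm_apply]
      simp only [Matrix.of_apply, Matrix.submatrix_apply, QuotChart.crd, hj', coord_I, Matrix.one_apply, id]
      split_ifs <;> simp
    rw [e1, Matrix.det_permute, Matrix.det_one, mul_one, Scheme.basicOpen_of_isUnit]
    · trivial
    · exact (Units.isUnit _).map (Int.castRingHom _)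
  have hO : ∀ z : G'.left, ∃ i, z ∈ Set.range (j i).left := fun z => by
    obtain ⟨a, ha⟩ := Opens.mem_iSup.1 (z.2 : π z.1 ∈ O)
    obtain ⟨l, y, hy⟩ := hperm a z.1 ha
    exact ⟨(a, l), y, (π ⁻¹ᵁ O).ι.isOpenEmbedding.injective
      ((congr($(hj (a, l)) y)).trans hy)⟩
  have hfam : IsOpenFamily C j := ⟨hjo, hO⟩
  obtain ⟨c₀, hc₀⟩ := hfam.exists_glue (W := Over.mk p) (fun i => Over.homMk ((Fr i.1).toP hPB i.2) ((Fr i.1).toP_comp hPB i.2))
    fun i i' Z f f' hff => Over.OverMorphism.ext (agree hPB Fr hc i.1 i'.1 i.2 i'.2 f f' (by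
      rw [← res_comp_chartMap hG (Fr i.1).U.2, ← res_comp_chartMap hG (Fr i'.1).U.2]
      refine congrArg (fun k => (qFam E e).res k (univClass hG)) (Over.OverMorphism.ext ?_)
      show f.left ≫ (cm i).left = f'.left ≫ (cm i').left
      rw [← hj i, ← hj i', ← Category.assoc, ← Category.assoc]
      exact congrArg (· ≫ (π ⁻¹ᵁ O).ι) (congrArg CommaMorphism.left hff)))
  have hc₀w : c₀.left ≫ p = (π ⁻¹ᵁ O).ι ≫ π := Over.w c₀
  let c : G'.left ⟶ (p ⁻¹ᵁ O).toScheme := IsOpenImmersion.lift (p ⁻¹ᵁ O).ι c₀.left (by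
    rw [Scheme.Opens.range_ι]
    rintro _ ⟨z, rfl⟩
    show (c₀.left ≫ p) z ∈ O
    rw [hc₀w]
    exact z.2)
  have hcι : c ≫ (p ⁻¹ᵁ O).ι = c₀.left := IsOpenImmersion.lift_fac _ _ _
  refine ⟨c, ?_, by rw [← Category.assoc, hcι]; exact hc₀w⟩
  haveI := hPB.epi
  let W : α × Fin n → (p ⁻¹ᵁ O).toScheme.Opens := fun i => (p ⁻¹ᵁ O).ι ⁻¹ᵁ locus p u (Fr i.1).ell i.2
  refine IsZariskiLocalAtTarget.of_iSup_eq_top (P := @IsClosedImmersion) W (top_le_iff.1 fun x _ => ?_) fun i => ?_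
  · obtain ⟨a, ha⟩ := Opens.mem_iSup.1 (x.2 : p x.1 ∈ O)
    obtain ⟨l, hl⟩ := Groth.L19.ProjBdl.exists_mem_locus p u (Fr a).ell hPB.invertible (Fr a).hw (x := x.1) ha
    exact Opens.mem_iSup.2 ⟨(a, l), hl⟩
  obtain ⟨a, l⟩ := i
  have hcj : ∀ i, (j i).left ≫ c ≫ (p ⁻¹ᵁ O).ι = (Fr i.1).toP hPB i.2 := fun i => by
    rw [hcι]
    exact congrArg CommaMorphism.left (hc₀ i)
  have hpre : c ⁻¹ᵁ W (a, l) = (j (a, l)).left.opensRange := by
    refine le_antisymm (fun z (hz : ((c ≫ (p ⁻¹ᵁ O).ι) z) ∈ locus p u (Fr a).ell l) => ?_) ?_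
    · rw [hcι] at hz
      have hπ : π z.1 ∈ ((Fr a).U : X.Opens) := by
        have h := locus_le p u (Fr a).ell l hz
        change (c₀.left ≫ p) z ∈ ((Fr a).U : X.Opens) at h
        rw [hc₀w] at h
        exact h
      obtain ⟨i, y, hy⟩ := hperm a z.1 hπ
      have hjy : (j (a, i)).left y = z := (π ⁻¹ᵁ O).ι.isOpenEmbedding.injective ((congr($(hj (a, i)) y)).trans hy)
      have hcy : (Fr a).toP hPB i y = c₀.left z := by
        rw [← hjy, ← hcj (a, i), hcι]
        rfl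
      have h2 : y ∈ ((Fr a).cht i).left.basicOpen ((Fr a).minor i l) := by
        rw [← (Fr a).toP_crd hPB i l, Scheme.basicOpen_appLE]
        exact ⟨trivial, inter_locus_le_basicOpen i l ⟨(Fr a).toP_le hPB i (trivial : y ∈ (⊤ : ((Fr a).cht i).left.Opens)),
          hcy ▸ hz⟩⟩
      obtain ⟨y', hy'⟩ := (preimage_range_chartMap hG (Fr a).U.2 ((Fr a).tup i) ((Fr a).tup l) y).2 h2
      exact ⟨y', (π ⁻¹ᵁ O).ι.isOpenEmbedding.injective ((congr($(hj (a, l)) y')).trans (hy'.trans hy))⟩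
    · rintro _ ⟨y, rfl⟩
      show ((j (a, l)).left ≫ c ≫ (p ⁻¹ᵁ O).ι) y ∈ locus p u (Fr a).ell l
      rw [hcj]
      exact (Fr a).toP_le hPB l (trivial : y ∈ (⊤ : ((Fr a).cht l).left.Opens))
  let ε := IsOpenImmersion.lift (c ⁻¹ᵁ W (a, l)).ι (j (a, l)).left (by rw [Scheme.Opens.range_ι, hpre]; rfl)
  haveI : IsOpenImmersion ε := by
    haveI : IsOpenImmersion (ε ≫ (c ⁻¹ᵁ W (a, l)).ι) := by rw [IsOpenImmersion.lift_fac]; infer_instance
    exact IsOpenImmersion.of_comp ε (c ⁻¹ᵁ W (a, l)).ι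
  haveI : Surjective ε := ⟨fun z => by
    obtain ⟨y, hy⟩ := (hpre.le z.2 : z.1 ∈ (j (a, l)).left.opensRange)
    exact ⟨y, (c ⁻¹ᵁ W (a, l)).ι.isOpenEmbedding.injective
      ((congr($(IsOpenImmersion.lift_fac (c ⁻¹ᵁ W (a, l)).ι (j (a, l)).left _) y)).trans hy)⟩⟩
  haveI : IsIso ε := (isIso_iff_isOpenImmersion_and_epi_base ε).2 ⟨inferInstance,
    (TopCat.epi_iff_surjective _).2 ε.surjective⟩
  haveI : IsAffine ((Fr a).cht l).left := inferInstanceAs (IsAffine (Spec _))
  haveI : IsAffine (W (a, l)).toScheme :=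
    (Groth.L19.ProjBdl.isAffineOpen_locus hPB (Fr a).hw (Fr a).U.2 l).preimage_of_isOpenImmersion (p ⁻¹ᵁ O).ι (by
      rw [Scheme.Opens.opensRange_ι]
      exact (locus_le p u _ l).trans (p.preimage_mono (le_iSup (fun a => ((Fr a).U : X.Opens)) a)))
  let k := ε ≫ (c ∣_ W (a, l))
  have hk : k ≫ (W (a, l)).ι ≫ (p ⁻¹ᵁ O).ι = (Fr a).toP hPB l := by
    rw [Category.assoc, morphismRestrict_ι_assoc, IsOpenImmersion.lift_fac_assoc, hcj]
  haveI : IsClosedImmersion k := by
    refine IsClosedImmersion.of_surjective_of_isAffine k fun y => ?_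
    -- the ring of the chart is generated by minors
    let φ := ((Fr a).toP hPB l).appLE _ ⊤ ((Fr a).toP_le hPB l)
    suffices h : ∀ y, y ∈ φ.hom.range by
      obtain ⟨x, hx⟩ := h y
      have e1 : ⊤ ≤ ((W (a, l)).ι ≫ (p ⁻¹ᵁ O).ι) ⁻¹ᵁ locus p u (Fr a).ell l := fun w _ => w.2
      refine ⟨((W (a, l)).ι ≫ (p ⁻¹ᵁ O).ι).appLE _ ⊤ e1 x, ?_⟩
      rw [← hx, Scheme.Hom.appTop, Scheme.Hom.app_eq_appLE, ← CommRingCat.comp_apply, Scheme.Hom.appLE_comp_appLE]
      simp only [φ, ← hk]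
      rfl
    let A := Γ(X, ((Fr a).U : X.Opens))
    let γ : CommRingCat.of (QuotChart.W ((Fr a).tup l)) ⟶ Γ(((Fr a).cht l).left, ⊤) := (Scheme.ΓSpecIso _).inv
    have hbase : ∀ r : A, γ (algebraMap A (QuotChart.W ((Fr a).tup l)) r) ∈ φ.hom.range := fun r => by
      refine ⟨p.appLE (Fr a).U _ (locus_le p u (Fr a).ell l) r, ?_⟩
      show (p.appLE (Fr a).U _ _ ≫ φ) r = _
      rw [show p.appLE (Fr a).U _ (locus_le p u (Fr a).ell l) ≫ φ =
        ((Fr a).cht l).hom.appLE (Fr a).U ⊤ (chart_le (Fr a).U.2 _) by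
          simp only [φ, Scheme.Hom.appLE_comp_appLE, (Fr a).toP_comp hPB l], appLE_chart]
      rfl
    letI : Algebra A Γ(((Fr a).cht l).left, ⊤) := (γ.hom.comp (algebraMap A _)).toAlgebra
    let cl : Γ(E, ((Fr a).U : X.Opens)) →ₗ[A] Fin e → Γ(((Fr a).cht l).left, ⊤) :=
      { toFun := fun m k => QuotChart.crd (Fr a).U.2 ((Fr a).tup l) m k
        map_add' := fun x y => funext fun k => (congrArg γ (coord_add _ x y k)).trans (map_add _ _ _)
        map_smul' := fun r x => funext fun k => (congrArg γ (coord_smul _ r x k)).trans (map_mul γ.hom _ _) }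
    obtain ⟨B, hB⟩ := Groth.L18.PlkAlg.exists_moduleBasis (Fr a).hw
    have hdet : detAlt cl = (B.constr A fun i => (Fr a).minor l i).compAlternatingMap (Fr a).w :=
      Groth.L18.PlkAlg.alt_ext ks (Fr a).b fun i => by
        show _ = B.constr A (fun i => (Fr a).minor l i) ((Fr a).w ((Fr a).b ∘ K ks i))
        rw [show (Fr a).w ((Fr a).b ∘ K ks i) = B i from (hB i).symm, Module.Basis.constr_basis (S := A)]
        rfl
    have hmin : ∀ v, detAlt cl v ∈ φ.hom.range := fun v => by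
      rw [hdet]
      show B.constr A _ _ ∈ _
      rw [Module.Basis.constr_apply_fintype (S := A)]
      refine Subring.sum_mem _ fun i _ => ?_
      rw [Algebra.smul_def]
      exact Subring.mul_mem _ (hbase _) ⟨_, (Fr a).toP_crd hPB l i⟩
    have hgen : ∀ m k, γ (coord ((Fr a).tup l) m k) ∈ φ.hom.range := fun m k => by
      have h := hmin (Function.update ((Fr a).tup l) k m)
      rw [Groth.L18.PlkAlg.detAlt_apply,
        show (Matrix.of fun i => cl (Function.update ((Fr a).tup l) k m i)) =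
          (1 : Matrix (Fin e) (Fin e) _).updateRow k (cl m) from ?_, Groth.L18.PlkAlg.det_updateRow_one] at h
      · exact h
      ext i k'
      rcases eq_or_ne i k with rfl | hik
      · simp
      · simp only [Matrix.of_apply, Function.update_of_ne hik, Matrix.updateRow_ne hik]
        show γ (coord _ ((Fr a).tup l i) k') = _
        rw [coord_I, Matrix.one_apply]
        split_ifs <;> simp
    intro y
    obtain ⟨w, rfl⟩ : ∃ w, γ w = y :=
      ⟨(Scheme.ΓSpecIso (CommRingCat.of (QuotChart.W ((Fr a).tup l)))).hom y, Iso.hom_inv_id_apply _ _⟩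
    obtain ⟨P', rfl⟩ := Ideal.Quotient.mk_surjective w
    induction P' using MvPolynomial.induction_on with
    | C r => exact hbase r
    | add f g hf hg => rw [map_add, map_add]; exact Subring.add_mem _ hf hg
    | mul_X f v hf => rw [map_mul, map_mul]; exact Subring.mul_mem _ hf (hgen v.1 v.2)
  rw [show c ∣_ W (a, l) = inv ε ≫ k from (IsIso.inv_hom_id_assoc _ _).symm]
  infer_instance

end Groth.L18.PlkMap
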