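import Groth.Agent.L18.Grass.GrassGeom
import Groth.Agent.L18.Grass.PlkClosed
import Groth.Agent.L16.ProjSpace.BundleTriv
import Groth.Agent.L29.DCoh.PCQCoh

/-!
# Grassmannians of locally free modules are proper
-/

set_option autoImplicit false
set_option linter.style.haveILetI false
set_option backward.isDefEq.respectTransparency false
set_option backward.isDefEq.respectTransparency.types false

universe u

open CategoryTheory CategoryTheory.Limits AlgebraicGeometry TopologicalSpace Opposite Module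

noncomputable section

namespace Groth.L18.GrassProper

open Groth.L18.Frame (rs rs_self)
open Groth.L18.PlkAlg (K)
open Groth.L18.QuotBasis (uvec)
open Groth.L19.ProjBdl (IsBasisOn lc)

theorem isBasisOn_uvec (X : Scheme.{u}) (n : ℕ) (U : X.Opens) :
    IsBasisOn (FlatMod.freeMod X n) U fun i => rs _ (le_top : U ≤ ⊤) (uvec X n i) := by
  intro V hV
  obtain ⟨a, b, hab, hba⟩ := Groth.L17.FinLocBases.exists_split n (M := FlatMod.freeMod X n) (Iso.refl _)
  have h := Groth.L17.FinLocBases.bijective_lc (M := FlatMod.freeMod X n)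
    (fun i => Sigma.ι (fun _ : Fin n => Coh.structureModule X) i)
    (fun j => Sigma.desc fun i => if i = j then 𝟙 _ else 0) (fun i j => Sigma.ι_desc _ _) (by
      refine Sigma.hom_ext _ _ fun k => ?_
      rw [Preadditive.comp_sum, Category.comp_id, Finset.sum_eq_single k]
      · simp
      · intro i _ hi
        simp [Ne.symm hi]
      · exact fun hk => (hk (Finset.mem_univ k)).elim) V
  convert h using 1
  funext c
  refine Finset.sum_congr rfl fun i _ => congrArg (c i • ·) ?_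
  exact Groth.L18.Frame.rs_rs _ _ _ _

theorem isQCoh_free (X : Scheme.{u}) (n : ℕ) : Coh.IsQCoh (FlatMod.freeMod X n) :=
  Groth.L29.DC.PCQCoh.isQCoh_of_isFinLocFree fun y =>
    (Groth.L18.QuotChart.isFinLocFreeOfRank_free X n y).imp fun O h => ⟨n, h⟩

/-- A projective bundle of a module with a basis over `U` is proper over `U`. -/
theorem isProper_restrict_bundle {X P : Scheme.{u}} {p : P ⟶ X} {L : X.Modules} {O1 : P.Modules}
    {u : (Scheme.Modules.pullback p).obj L ⟶ O1} (hPB : KRR.IsProjBundle p L O1 u) (U : X.affineOpens) {r : ℕ}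
    {ℓ : Fin (r + 1) → Γ(L, (U : X.Opens))} (hℓ : IsBasisOn L U ℓ) : IsProper (p ∣_ (U : X.Opens)) := by
  obtain ⟨h, hh, hr, hp, -⟩ := Groth.L16.ProjSpace.exists_bundle_triv hPB hℓ U.2
  let ε : CohB1.ProjSpace r Γ(X, (U : X.Opens)) ≅ (p ⁻¹ᵁ (U : X.Opens)).toScheme :=
    IsOpenImmersion.isoOfRangeEq h (p ⁻¹ᵁ (U : X.Opens)).ι (by
      rw [Scheme.Opens.range_ι, ← hr]
      rfl)
  have e : p ∣_ (U : X.Opens) = ε.inv ≫ CohB1.ProjSpace.toSpec r Γ(X, (U : X.Opens)) ≫ U.2.isoSpec.inv := by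
    rw [← cancel_mono (U : X.Opens).ι, ← cancel_epi ε.hom]
    simp only [Category.assoc, Iso.hom_inv_id_assoc, morphismRestrict_ι]
    rw [IsOpenImmersion.isoOfRangeEq_hom_fac_assoc]
    exact hp
  rw [e]
  infer_instance

variable {X G : Scheme.{u}} {π : G ⟶ X} {E : X.Modules} [Coh.IsQCoh E] {e N : ℕ} {Q : G.Modules}
  {q : (Scheme.Modules.pullback π).obj E ⟶ Q} (hG : Grass.IsGrass π E e Q q)

include hG in
theorem isProper (hE : FlatMod.IsFinLocFreeOfRank N E) (he : e ≤ N) : IsProper π := by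
  choose U hxU b hb using fun x : X => Groth.L18.GrassGeom.exists_freeBasis hE x
  refine IsZariskiLocalAtTarget.of_iSup_eq_top (P := @IsProper) (fun x => (U x : X.Opens))
    (top_le_iff.1 fun x _ => Opens.mem_iSup.2 ⟨x, hxU x⟩) fun x => ?_
  obtain ⟨r, hr⟩ : ∃ r, N.choose e = r + 1 := Nat.exists_eq_succ_of_ne_zero (Nat.choose_pos he).ne'
  obtain ⟨ks₀⟩ := Groth.L18.PlkAlg.exists_enum e N
  let ks : Fin (r + 1) ≃ Set.powersetCard (Fin N) e := (finCongr hr.symm).trans ks₀
  let L := FlatMod.freeMod X (r + 1)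
  haveI : Coh.IsQCoh L := isQCoh_free X (r + 1)
  obtain ⟨P, p, O1, u, hP⟩ := Groth.L18.QuotExist.exists_isGrass L 1
  let ℓ : Fin (r + 1) → Γ(L, (U x : X.Opens)) := fun i => rs L le_top (uvec X (r + 1) i)
  let w : Γ(E, (U x : X.Opens)) [⋀^Fin e]→ₗ[Γ(X, (U x : X.Opens))] Γ(L, (U x : X.Opens)) :=
    (((b x).exteriorPower e).constr Γ(X, (U x : X.Opens)) fun s => ℓ (ks.symm s)).compAlternatingMap
      (exteriorPower.ιMulti Γ(X, (U x : X.Opens)) e)
  have hw : ∀ i, w (b x ∘ K ks i) = ℓ i := fun i => by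
    show ((b x).exteriorPower e).constr Γ(X, (U x : X.Opens)) _ (exteriorPower.ιMulti _ e (b x ∘ K ks i)) = _
    rw [show exteriorPower.ιMulti Γ(X, (U x : X.Opens)) e (b x ∘ K ks i) = (b x).exteriorPower e (ks i) from
      (exteriorPower.basis_apply _ _ (b x) (ks i)).symm, Module.Basis.constr_basis (S := Γ(X, (U x : X.Opens))),
      Equiv.symm_apply_apply]
  have hℓ : IsBasisOn L (U x : X.Opens) ℓ := isBasisOn_uvec X (r + 1) _
  let Fr : PUnit.{u + 1} → PlkMap.Frm E L ks := fun _ => ⟨U x, b x, hb x, w, by rwa [funext hw]⟩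
  obtain ⟨c, hc, hcπ⟩ := PlkMap.exists_closedImmersion hG hP.isProjBundle Fr
    (fun _ _ y hy _ => ⟨(U x : X.Opens), le_rfl, le_rfl, w, hy,
      fun m => by simp only [rs_self]; rfl, fun m => by simp only [rs_self]; rfl⟩)
  have hO : (⨆ a, ((Fr a).U : X.Opens)) = (U x : X.Opens) :=
    le_antisymm (iSup_le fun _ => le_rfl) (le_iSup (fun a => ((Fr a).U : X.Opens)) PUnit.unit)
  have aux : ∀ O : X.Opens, O = (U x : X.Opens) →
      (∃ c : (π ⁻¹ᵁ O).toScheme ⟶ (p ⁻¹ᵁ O).toScheme, IsClosedImmersion c ∧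
        c ≫ (p ⁻¹ᵁ O).ι ≫ p = (π ⁻¹ᵁ O).ι ≫ π) → IsProper (π ∣_ (U x : X.Opens)) := by
    rintro O rfl ⟨c, hc, hcπ⟩
    haveI := isProper_restrict_bundle hP.isProjBundle (U x) hℓ
    rw [show π ∣_ (U x : X.Opens) = c ≫ (p ∣_ (U x : X.Opens)) by
      rw [← cancel_mono (U x : X.Opens).ι, Category.assoc, morphismRestrict_ι, morphismRestrict_ι, hcπ]]
    infer_instance
  exact aux _ hO ⟨c, hc, hcπ⟩

end Groth.L18.GrassProper
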