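import Groth.Agent.L18.Grass.QuotChart
import Groth.Agent.L16.ProjSpace.StdSmooth
import Mathlib.AlgebraicGeometry.Morphisms.Smooth
import Mathlib.RingTheory.LocalRing.ResidueField.Fiber
import Mathlib.RingTheory.TensorProduct.MvPolynomial

/-!
# The chart given by members of a basis is an affine space
-/

set_option autoImplicit false
set_option linter.style.haveILetI false
set_option backward.isDefEq.respectTransparency false
set_option backward.isDefEq.respectTransparency.types false

universe u

open CategoryTheory CategoryTheory.Limits AlgebraicGeometry TopologicalSpace Opposite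
open scoped TensorProduct

noncomputable section

namespace Groth.L18.CoordChart

open Groth.L18.QuotChart

variable {X : Scheme.{u}} {E : X.Modules} {e N : ℕ} {U : X.Opens} (b : Module.Basis (Fin N) Γ(X, U) Γ(E, U))
  (J : Fin e → Fin N)

/-- The free coordinates. -/
abbrev Free : Type := {i : Fin N // i ∉ Set.range J} × Fin e

/-- The coordinates as linear forms. -/
def coordₗ (I : Fin e → Γ(E, U)) (k : Fin e) : Γ(E, U) →ₗ[Γ(X, U)] W I where
  toFun m := coord I m k
  map_add' a c := coord_add I a c k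
  map_smul' a m := (coord_smul I a m k).trans (Algebra.smul_def a (coord I m k)).symm

open Classical in
/-- The coordinates of the members of the basis. -/
def entry (i : Fin N) (k : Fin e) : MvPolynomial (Free J) Γ(X, U) :=
  if h : i ∈ Set.range J then (if J k = i then 1 else 0) else MvPolynomial.X (⟨i, h⟩, k)

theorem exists_toPoly (hJ : Function.Injective J) :
    ∃ ρ : CommRingCat.of (W (b ∘ J)) ⟶ CommRingCat.of (MvPolynomial (Free J) Γ(X, U)),
      (∀ a, ρ (algebraMap Γ(X, U) (W (b ∘ J)) a) = MvPolynomial.C a) ∧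
      ∀ m k, ρ (coord (b ∘ J) m k) = b.constr Γ(X, U) (fun i => entry (U := U) J i k) m := by
  classical
  obtain ⟨ρ, h, h'⟩ := exists_hom (b ∘ J) (R := CommRingCat.of (MvPolynomial (Free J) Γ(X, U)))
    (CommRingCat.ofHom MvPolynomial.C) (fun m k => b.constr Γ(X, U) (fun i => entry (U := U) J i k) m)
    (fun a c k => map_add _ a c) (fun a m k => by
      rw [map_smul, Algebra.smul_def]
      rfl)
    (fun l k => by
      rw [Function.comp_apply, Module.Basis.constr_basis, entry, dif_pos ⟨l, rfl⟩]
      by_cases hl : l = k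
      · subst hl; simp
      · rw [if_neg fun h => hl (hJ h).symm, if_neg hl])
  exact ⟨ρ, fun a => congr($h a), h'⟩

theorem exists_equiv (hJ : Function.Injective J) :
    ∃ φ : W (b ∘ J) ≃ₐ[Γ(X, U)] MvPolynomial (Free J) Γ(X, U),
      ∀ i k, φ (coord (b ∘ J) (b i) k) = entry (U := U) J i k := by
  classical
  obtain ⟨ρ, h, h'⟩ := exists_toPoly b J hJ
  let t : W (b ∘ J) →ₐ[Γ(X, U)] MvPolynomial (Free J) Γ(X, U) := { ρ.hom with commutes' := h }
  let f : MvPolynomial (Free J) Γ(X, U) →ₐ[Γ(X, U)] W (b ∘ J) :=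
    MvPolynomial.aeval fun v => coord (b ∘ J) (b v.1) v.2
  have h1 : ∀ i k, t (coord (b ∘ J) (b i) k) = entry (U := U) J i k := fun i k => by
    show ρ _ = _
    rw [h', Module.Basis.constr_basis]
  have h2 : t.comp f = AlgHom.id _ _ := MvPolynomial.algHom_ext fun v => by
    show t (f (MvPolynomial.X v)) = MvPolynomial.X v
    rw [MvPolynomial.aeval_X, h1, entry, dif_neg v.1.2]
  have h3 : ∀ i k, f (entry (U := U) J i k) = coord (b ∘ J) (b i) k := fun i k => by
    unfold entry
    split_ifs with hi hk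
    · subst hk
      rw [map_one]
      exact ((coord_I (b ∘ J) k k).trans (if_pos rfl)).symm
    · obtain ⟨l, rfl⟩ := hi
      rw [map_zero]
      exact ((coord_I (b ∘ J) l k).trans (if_neg fun h => hk (congrArg J h).symm)).symm
    · exact MvPolynomial.aeval_X _ _
  have h4 : f.comp t = AlgHom.id _ _ := by
    refine AlgHom.coe_ringHom_injective ?_
    refine congrArg CommRingCat.Hom.hom (hom_ext (b ∘ J) (R := CommRingCat.of (W (b ∘ J)))
      (ρ := CommRingCat.ofHom (f.comp t).toRingHom) (ρ' := CommRingCat.ofHom (AlgHom.id Γ(X, U) _).toRingHom)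
      (fun a => (f.comp t).commutes a) fun m k => ?_)
    show ((f.comp t).toLinearMap.comp (coordₗ (b ∘ J) k)) m = coordₗ (b ∘ J) k m
    congr 1
    refine b.ext fun i => ?_
    show f (t (coord (b ∘ J) (b i) k)) = coord (b ∘ J) (b i) k
    rw [h1, h3]
  exact ⟨AlgEquiv.ofAlgHom t f h2 h4, h1⟩

theorem card_free (hJ : Function.Injective J) : Nat.card (Free J) = (N - e) * e := by
  classical
  rw [Nat.card_eq_fintype_card, Fintype.card_prod, Fintype.card_fin]
  congr 1
  show Fintype.card {c : Fin N // ¬ c ∈ Set.range J} = _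
  rw [Fintype.card_subtype_compl, Fintype.card_fin]
  congr 1
  exact (Fintype.card_congr (Equiv.ofInjective J hJ).symm).trans (Fintype.card_fin e)

variable [Coh.IsQCoh E] (hU : IsAffineOpen U)

/-- A coordinate chart is smooth over the base. -/
theorem smoothOfRelativeDimension (hJ : Function.Injective J) :
    SmoothOfRelativeDimension ((N - e) * e) (chart hU (b ∘ J)).hom := by
  obtain ⟨φ, -⟩ := exists_equiv b J hJ
  haveI := Groth.L16.isStandardSmoothOfRelativeDimension_mvPolynomial Γ(X, U) (Free J)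
  haveI : Algebra.IsStandardSmoothOfRelativeDimension (Nat.card (Free J)) Γ(X, U) (W (b ∘ J)) :=
    Algebra.IsStandardSmoothOfRelativeDimension.of_algEquiv _ φ.symm
  haveI : SmoothOfRelativeDimension (Nat.card (Free J))
      (Spec.map (CommRingCat.ofHom (algebraMap Γ(X, U) (W (b ∘ J))))) := by
    rw [HasRingHomProperty.Spec_iff (P := @SmoothOfRelativeDimension (Nat.card (Free J)))]
    refine RingHom.locally_of RingHom.isStandardSmoothOfRelativeDimension_respectsIso _ ?_
    show RingHom.IsStandardSmoothOfRelativeDimension _ (algebraMap Γ(X, U) (W (b ∘ J)))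
    rw [RingHom.isStandardSmoothOfRelativeDimension_algebraMap]
    infer_instance
  rw [← card_free J hJ]
  exact inferInstanceAs (SmoothOfRelativeDimension (Nat.card (Free J) + 0) (_ ≫ hU.fromSpec))

/-- The fibres of a coordinate chart are irreducible. -/
theorem isPreirreducible_fiber (hJ : Function.Injective J) (x : X) :
    IsPreirreducible ((chart hU (b ∘ J)).hom ⁻¹' {x}) := by
  obtain ⟨φ, -⟩ := exists_equiv b J hJ
  by_cases hx : x ∈ Set.range hU.fromSpec
  swap
  · have : (chart hU (b ∘ J)).hom ⁻¹' {x} = ∅ := Set.eq_empty_of_forall_notMem fun y hy => hx ⟨_, hy⟩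
    rw [this]
    exact isPreirreducible_empty
  obtain ⟨p, rfl⟩ := hx
  have h1 : (chart hU (b ∘ J)).hom ⁻¹' {hU.fromSpec p} =
      PrimeSpectrum.comap (algebraMap Γ(X, U) (W (b ∘ J))) ⁻¹' {p} := by
    ext y
    exact hU.fromSpec.isOpenEmbedding.injective.eq_iff
  rw [h1]
  haveI : IsDomain (p.asIdeal.ResidueField ⊗[Γ(X, U)] W (b ∘ J)) :=
    ((Algebra.TensorProduct.congr (AlgEquiv.refl (R := Γ(X, U)) (A₁ := p.asIdeal.ResidueField)) φ).trans
      ((MvPolynomial.algebraTensorAlgEquiv Γ(X, U) p.asIdeal.ResidueField).restrictScalars Γ(X, U))).toMulEquiv.isDomain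
  let h := PrimeSpectrum.preimageHomeomorphFiber Γ(X, U) (W (b ∘ J)) p
  haveI : PreirreducibleSpace (PrimeSpectrum (p.asIdeal.Fiber (W (b ∘ J)))) :=
    (PrimeSpectrum.irreducibleSpace (R := p.asIdeal.ResidueField ⊗[Γ(X, U)] W (b ∘ J))).toPreirreducibleSpace
  have h2 := (PreirreducibleSpace.isPreirreducible_univ
    (X := PrimeSpectrum (p.asIdeal.Fiber (W (b ∘ J))))).image (Subtype.val ∘ h.symm)
      (continuous_subtype_val.comp h.symm.continuous).continuousOn
  rwa [Set.image_univ, Set.range_comp, h.symm.surjective.range_eq, Set.image_univ, Subtype.range_coe] at h2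

/-- A coordinate chart meets every fibre over `U`. -/
theorem exists_point (hJ : Function.Injective J) {x : X} (hx : x ∈ U) : ∃ y, (chart hU (b ∘ J)).hom y = x := by
  obtain ⟨φ, -⟩ := exists_equiv b J hJ
  obtain ⟨p, rfl⟩ := hU.range_fromSpec.ge hx
  let σ : CommRingCat.of (W (b ∘ J)) ⟶ Γ(X, U) :=
    CommRingCat.ofHom ((MvPolynomial.aeval fun _ => (0 : Γ(X, U))).comp φ.toAlgHom).toRingHom
  refine ⟨Spec.map σ p, ?_⟩
  show (Spec.map σ ≫ Spec.map _ ≫ hU.fromSpec) p = _
  rw [← Spec.map_comp_assoc, show CommRingCat.ofHom (algebraMap Γ(X, U) (W (b ∘ J))) ≫ σ = 𝟙 _ from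
    CommRingCat.hom_ext (RingHom.ext fun a =>
      ((MvPolynomial.aeval fun _ => (0 : Γ(X, U))).comp φ.toAlgHom).commutes a)]
  erw [Spec.map_id, Category.id_comp]

end Groth.L18.CoordChart
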