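import Groth.Agent.L18.Grass.GrassCharts
import Groth.Agent.L18.Grass.CoordChart
import Groth.Agent.L19.ProjBdl.Basis

/-!
# Smoothness, surjectivity and irreducible fibres of Grassmannians of locally free modules
-/

set_option autoImplicit false
set_option linter.style.haveILetI false
set_option backward.isDefEq.respectTransparency false
set_option backward.isDefEq.respectTransparency.types false

universe u

open CategoryTheory CategoryTheory.Limits AlgebraicGeometry TopologicalSpace Opposite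

noncomputable section

namespace Groth.L18.GrassGeom

open Groth.L18.QuotFam Groth.L18.QuotChart Groth.L18.QuotBasis Groth.L18.GrassCharts
open Groth.L18.PullHom (sec)

variable {X : Scheme.{u}} {E : X.Modules} {e N : ℕ}

/-- A locally free module of rank `N` has bases of sections over small affine opens. -/
theorem exists_freeBasis (hE : FlatMod.IsFinLocFreeOfRank N E) (x : X) :
    ∃ U : X.affineOpens, x ∈ (U : X.Opens) ∧
      ∃ b : Module.Basis (Fin N) Γ(X, (U : X.Opens)) Γ(E, (U : X.Opens)),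
        Groth.L19.ProjBdl.IsBasisOn E U b := by
  obtain ⟨U, hxU, ⟨i⟩⟩ := hE x
  obtain ⟨s, hs⟩ := Groth.L17.FinLocBases.exists_isBasis E i
  have hU : U.ι ''ᵁ ⊤ = U := (Scheme.Hom.image_top_eq_opensRange U.ι).trans U.opensRange_ι
  obtain ⟨_, ⟨V, hV, rfl⟩, hxV, hVU⟩ :=
    X.isBasis_affineOpens.exists_subset_of_mem_open (show x ∈ U.ι ''ᵁ ⊤ from hU.ge hxU) (U.ι ''ᵁ ⊤).2
  obtain ⟨V, rfl⟩ : ∃ W : X.affineOpens, (W : X.Opens) = V := ⟨⟨V, hV⟩, rfl⟩
  have hb := (Groth.L19.ProjBdl.isBasisOn_of_locBases hs).mono (W' := (V : X.Opens)) hVU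
  let l : (Fin N → Γ(X, (V : X.Opens))) →ₗ[Γ(X, (V : X.Opens))] Γ(E, (V : X.Opens)) :=
    Fintype.linearCombination Γ(X, (V : X.Opens)) fun i => Groth.L18.Frame.rs E hVU (s i)
  have hl : Function.Bijective l := by
    have h := hb (V : X.Opens) le_rfl
    convert h using 1
    funext c
    refine (Fintype.linearCombination_apply ..).trans (Finset.sum_congr rfl fun i _ => ?_)
    rw [Groth.L18.Frame.rs_self]
  refine ⟨V, hxV, Module.Basis.ofEquivFun (LinearEquiv.ofBijective l hl).symm, ?_⟩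
  convert hb using 1
  funext i
  rw [Module.Basis.coe_ofEquivFun]
  show l (Pi.single i 1) = _
  rw [Fintype.linearCombination_apply_single, one_smul]

theorem exists_option_map {J J' : Fin e → Fin N} (hJ : Function.Injective J) (hJ' : Function.Injective J') :
    ∃ (f : Fin N → Option (Fin e)) (σ : Equiv.Perm (Fin e)), (∀ k, f (J k) = some k) ∧ ∀ l, f (J' l) = some (σ l) := by
  classical
  let S := Finset.univ.image J
  let S' := Finset.univ.image J'
  have hc : (S' \ S).card = (S \ S').card := Finset.card_sdiff_comm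
    (by rw [Finset.card_image_of_injective _ hJ', Finset.card_image_of_injective _ hJ])
  let ε := Finset.equivOfCardEq hc
  have hS : ∀ i ∈ S, ∃ k, J k = i := fun i hi => by simpa [S] using hi
  choose inv hinv using hS
  let f : Fin N → Option (Fin e) := fun i =>
    if h : i ∈ S then some (inv i h)
    else if h' : i ∈ S' \ S then some (inv (ε ⟨i, h'⟩).1 (Finset.mem_sdiff.1 (ε ⟨i, h'⟩).2).1) else none
  have h1 : ∀ k, f (J k) = some k := fun k => by
    have h : J k ∈ S := by simp [S]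
    simp only [f, dif_pos h]
    exact congrArg some (hJ (hinv _ h))
  have h2 : ∀ l, ∃ m, f (J' l) = some m ∧
      ((J' l ∈ S ∧ J m = J' l) ∨ ∃ h' : J' l ∈ S' \ S, J m = (ε ⟨J' l, h'⟩).1) := fun l => by
    by_cases h : J' l ∈ S
    · exact ⟨inv _ h, by simp only [f, dif_pos h], Or.inl ⟨h, hinv _ h⟩⟩
    · have h' : J' l ∈ S' \ S := Finset.mem_sdiff.2 ⟨by simp [S'], h⟩
      exact ⟨inv (ε ⟨J' l, h'⟩).1 (Finset.mem_sdiff.1 (ε ⟨J' l, h'⟩).2).1, by simp only [f, dif_neg h, dif_pos h'],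
        Or.inr ⟨h', hinv _ _⟩⟩
  choose m hm hm' using h2
  have hmi : Function.Injective m := by
    intro a c hac
    have hS' : ∀ l, J' l ∈ S' := fun l => by simp [S']
    rcases hm' a with ⟨ha, ea⟩ | ⟨ha, ea⟩ <;> rcases hm' c with ⟨hc', ec⟩ | ⟨hc', ec⟩
    · exact hJ' (ea.symm.trans ((congrArg J hac).trans ec))
    · have := (Finset.mem_sdiff.1 (ε ⟨J' c, hc'⟩).2).2
      exact absurd (hS' a) (by rwa [← ea, hac, ec])
    · have := (Finset.mem_sdiff.1 (ε ⟨J' a, ha⟩).2).2
      exact absurd (hS' c) (by rwa [← ec, ← hac, ea])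
    · have h := ε.injective (Subtype.ext (ea.symm.trans ((congrArg J hac).trans ec)))
      exact hJ' (congrArg Subtype.val h)
  exact ⟨f, Equiv.ofBijective m (Finite.injective_iff_bijective.1 hmi), h1, hm⟩

variable [Coh.IsQCoh E] {G : Scheme.{u}} {π : G ⟶ X} {Q : G.Modules}
  {q : (Scheme.Modules.pullback π).obj E ⟶ Q} (hG : Grass.IsGrass π E e Q q)
  {U : X.Opens} (hU : IsAffineOpen U) (b : Module.Basis (Fin N) Γ(X, U) Γ(E, U))

include hG in
/-- Two coordinate charts meet in every fibre over `U`. -/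
theorem exists_common_point {J J' : Fin e → Fin N} (hJ : Function.Injective J) (hJ' : Function.Injective J')
    {x : X} (hx : x ∈ U) : ∃ z, π z = x ∧ z ∈ Set.range (chartMap hG hU (b ∘ J)).left ∧
      z ∈ Set.range (chartMap hG hU (b ∘ J')).left := by
  classical
  obtain ⟨f, σ, hf, hf'⟩ := exists_option_map hJ hJ'
  let T : Over X := Over.mk (X.fromSpecResidueField x)
  have hg : (⊤ : T.left.Opens) ≤ T.hom ⁻¹ᵁ U := fun t _ => by
    show X.fromSpecResidueField x t ∈ U
    rw [Scheme.fromSpecResidueField_apply]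
    exact hx
  let φ := T.hom.appLE U ⊤ hg
  letI : Algebra Γ(X, U) Γ(T.left, ⊤) := φ.hom.toAlgebra
  let v : Fin N → Fin e → Γ(T.left, ⊤) := fun i k => if f i = some k then 1 else 0
  obtain ⟨ρ, hρ, hρc⟩ := exists_hom (b ∘ J) φ (fun m k => b.constr Γ(X, U) (fun i => v i k) m)
    (fun a c k => map_add _ a c) (fun a m k => by rw [map_smul, Algebra.smul_def]; rfl)
    (fun l k => by
      rw [Function.comp_apply, Module.Basis.constr_basis]
      simp only [v, hf, Option.some_inj])
  let a : T ⟶ chart hU (b ∘ J) := Over.homMk (T.left.toSpecΓ ≫ Spec.map ρ) (by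
    show (_ ≫ Spec.map ρ) ≫ Spec.map _ ≫ hU.fromSpec = T.hom
    rw [Category.assoc, ← Spec.map_comp_assoc, hρ]
    exact (eq_toSpecΓ_fromSpec hU T.hom hg).symm)
  haveI := (exists_univ hU (b ∘ J)).choose_spec.1
  haveI := Groth.L18.MapEpi.epi_quotBC (Over.w a) (exists_univ hU (b ∘ J)).choose
  have hL := Groth.L18.MapEpi.isFinLocFreeOfRank_pullback a.left (isFinLocFreeOfRank_free (chart hU (b ∘ J)).left e)
  have hb : IsBasis _ fun l => (Grass.quotBC (Over.w a) (exists_univ hU (b ∘ J)).choose).app ⊤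
      (sec hg ((b ∘ J') l)) := by
    refine (isBasis_uvec.pl a.left).of_det (M := (1 : Matrix (Fin e) (Fin e) Γ(T.left, ⊤)).submatrix σ id) ?_
      fun l => ?_
    · rw [Matrix.det_permute, Matrix.det_one, mul_one]
      exact (Units.isUnit _).map (Int.castRingHom Γ(T.left, ⊤))
    · rw [app_sec_res hU (b ∘ J) a hg]
      refine Finset.sum_congr rfl fun k _ => congrArg (· • _) ?_
      refine (congr($(appTop_toSpecΓ_map ρ) (coord (b ∘ J) ((b ∘ J') l) k))).trans ((hρc _ k).trans ?_)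
      rw [Function.comp_apply, Module.Basis.constr_basis]
      simp only [v, hf', Option.some_inj, Matrix.submatrix_apply, id, Matrix.one_apply]
  obtain ⟨a', ha'⟩ := (exists_hom_iff hU (b ∘ J') hL
    (Grass.quotBC (Over.w a) (exists_univ hU (b ∘ J)).choose)).2 ⟨hg, hb⟩
  have hres : (qFam E e).res a (ξ hU (b ∘ J)) = mk T hL (Grass.quotBC (Over.w a) (exists_univ hU (b ∘ J)).choose) :=
    (res_ξ_eq_iff hU (b ∘ J) hL _ a).2 (Rel.refl _)
  have h : a ≫ chartMap hG hU (b ∘ J) = a' ≫ chartMap hG hU (b ∘ J') :=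
    (isRep hG).ext (by rw [res_comp_chartMap, res_comp_chartMap, hres, ha'])
  let t : T.left := IsLocalRing.closedPoint (X.residueField x)
  refine ⟨(chartMap hG hU (b ∘ J)).left (a.left t), ?_, ⟨_, rfl⟩, ⟨a'.left t, ?_⟩⟩
  · show (a.left ≫ (chartMap hG hU (b ∘ J)).left ≫ π) t = x
    rw [show (chartMap hG hU (b ∘ J)).left ≫ π = (chart hU (b ∘ J)).hom from Over.w _,
      show a.left ≫ (chart hU (b ∘ J)).hom = T.hom from Over.w a]
    exact Scheme.fromSpecResidueField_apply _ _
  · exact congr(($(congrArg CommaMorphism.left h)) t).symm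

include hG in
theorem smoothOfRelativeDimension (hE : FlatMod.IsFinLocFreeOfRank N E) :
    SmoothOfRelativeDimension ((N - e) * e) π := by
  choose U hxU b hb using fun z : G => exists_freeBasis hE (π z)
  choose J hJ hz using fun z : G => exists_mem_range hG (U z) (α := ULift.{u} (Fin N)) (fun i => b z i.down)
    (by rw [show Set.range (fun i : ULift.{u} (Fin N) => b z i.down) = Set.range (b z) from
      ULift.down_surjective.range_comp (b z)]; exact (b z).span_eq.ge) (hxU z)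
  refine IsZariskiLocalAtSource.of_openCover (P := @SmoothOfRelativeDimension ((N - e) * e))
    (Scheme.Cover.mkOfCovers G (fun z => (chart (U z).2 (b z ∘ fun l => (J z l).down)).left)
      (fun z => (chartMap hG (U z).2 (b z ∘ fun l => (J z l).down)).left) (fun z => ⟨z, hz z⟩)
      fun z => isOpenImmersion_chartMap hG (U z).2 _) fun z => ?_
  show SmoothOfRelativeDimension _ ((chartMap hG (U z).2 (b z ∘ fun l => (J z l).down)).left ≫ π)
  rw [show (chartMap hG (U z).2 (b z ∘ fun l => (J z l).down)).left ≫ π =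
    (chart (U z).2 (b z ∘ fun l => (J z l).down)).hom from Over.w _]
  exact CoordChart.smoothOfRelativeDimension (b z) _ (U z).2 fun p q h => hJ z (ULift.down_injective h)

include hG in
theorem surjective (hE : FlatMod.IsFinLocFreeOfRank N E) (he : e ≤ N) : Surjective π := ⟨fun x => by
  obtain ⟨U, hxU, b, -⟩ := exists_freeBasis hE x
  obtain ⟨y, hy⟩ := CoordChart.exists_point b (Fin.castLE he) U.2 (Fin.castLE_injective he) hxU
  exact ⟨(chartMap hG U.2 (b ∘ Fin.castLE he)).left y, (congr($(Over.w (chartMap hG U.2 _)) y)).trans hy⟩⟩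

include hG in
theorem isPreirreducible_fiber (hE : FlatMod.IsFinLocFreeOfRank N E) (x : X) :
    IsPreirreducible (π ⁻¹' {x}) := by
  obtain ⟨U, hxU, b, -⟩ := exists_freeBasis hE x
  have hspan : ⊤ ≤ Submodule.span Γ(X, (U : X.Opens)) (Set.range fun i : ULift.{u} (Fin N) => b i.down) := by
    rw [show Set.range (fun i : ULift.{u} (Fin N) => b i.down) = Set.range b from
      ULift.down_surjective.range_comp b]
    exact b.span_eq.ge
  have hpiece : ∀ z, π z = x → ∃ (J : Fin e → Fin N) (_ : Function.Injective J),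
      z ∈ Set.range (chartMap hG U.2 (b ∘ J)).left := fun z hz => by
    obtain ⟨J, hJ, h⟩ := exists_mem_range hG U _ hspan (z := z) (hz ▸ hxU)
    exact ⟨fun l => (J l).down, fun p q h => hJ (ULift.down_injective h), h⟩
  have hirr : ∀ J : Fin e → Fin N, Function.Injective J →
      IsPreirreducible (π ⁻¹' {x} ∩ Set.range (chartMap hG U.2 (b ∘ J)).left) := fun J hJ => by
    have h := (CoordChart.isPreirreducible_fiber b J U.2 hJ x).image (chartMap hG U.2 (b ∘ J)).left
      (chartMap hG U.2 (b ∘ J)).left.continuous.continuousOn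
    rw [show π ⁻¹' {x} ∩ Set.range (chartMap hG U.2 (b ∘ J)).left =
      (chartMap hG U.2 (b ∘ J)).left '' ((chart U.2 (b ∘ J)).hom ⁻¹' {x}) from Set.ext fun z => ⟨?_, ?_⟩]
    · exact h
    · rintro ⟨hz, y, rfl⟩
      exact ⟨y, (congr($(Over.w (chartMap hG U.2 (b ∘ J))) y)).symm.trans hz, rfl⟩
    · rintro ⟨y, hy, rfl⟩
      exact ⟨(congr($(Over.w (chartMap hG U.2 (b ∘ J))) y)).trans hy, y, rfl⟩
  rintro O₁ O₂ hO₁ hO₂ ⟨z₁, hz₁, hz₁'⟩ ⟨z₂, hz₂, hz₂'⟩
  obtain ⟨J₁, hJ₁, h₁⟩ := hpiece z₁ hz₁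
  obtain ⟨J₂, hJ₂, h₂⟩ := hpiece z₂ hz₂
  obtain ⟨z, hz, hm₁, hm₂⟩ := exists_common_point hG U.2 b hJ₁ hJ₂ hxU
  obtain ⟨w, ⟨hw, -⟩, hw', hwR⟩ := hirr J₁ hJ₁ O₁ (Set.range (chartMap hG U.2 (b ∘ J₂)).left) hO₁
    (chartMap hG U.2 (b ∘ J₂)).left.isOpenEmbedding.isOpen_range ⟨z₁, ⟨hz₁, h₁⟩, hz₁'⟩ ⟨z, ⟨hz, hm₁⟩, hm₂⟩
  obtain ⟨w', ⟨hw₀, -⟩, hw₁, hw₂⟩ := hirr J₂ hJ₂ O₁ O₂ hO₁ hO₂ ⟨w, ⟨hw, hwR⟩, hw'⟩ ⟨z₂, ⟨hz₂, h₂⟩, hz₂'⟩
  exact ⟨w', hw₀, hw₁, hw₂⟩

include hG in
theorem irreducibleSpace (hE : FlatMod.IsFinLocFreeOfRank N E) (he : e ≤ N) [IrreducibleSpace X] :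
    IrreducibleSpace G := by
  haveI := smoothOfRelativeDimension hG hE
  haveI : Smooth π := SmoothOfRelativeDimension.smooth ((N - e) * e) π
  haveI := surjective hG hE he
  have h : IsPreirreducible (π ⁻¹' Set.univ) :=
    IsPreirreducible.preimage_of_isPreirreducible_fiber PreirreducibleSpace.isPreirreducible_univ π
      π.isOpenMap (isPreirreducible_fiber hG hE)
  obtain ⟨x⟩ := (inferInstance : Nonempty X)
  exact { isPreirreducible_univ := by simpa using h, toNonempty := ⟨(π.surjective x).choose⟩ }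

end Groth.L18.GrassGeom
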