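import Groth.Prelude.Def_ExtPow2
import Groth.Agent.L18.Grass.GrassGeom
import Groth.Agent.L18.Grass.PlkClosed

/-!
# The Plücker immersion into the projective bundle of an exterior power
-/

set_option autoImplicit false
set_option linter.style.haveILetI false
set_option backward.isDefEq.respectTransparency false
set_option backward.isDefEq.respectTransparency.types false

universe u

open CategoryTheory CategoryTheory.Limits AlgebraicGeometry TopologicalSpace Opposite Module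

noncomputable section

namespace Groth.L18.PlkExtPow

open Groth.L18.Frame (rs ro rs_rs ro_ro rs_smul rs_self)
open Groth.L18.PlkAlg (K)
open Groth.L19.ProjBdl (IsBasisOn lc rs_lc)

/-- A family which is a basis on all smaller affine opens is a basis on all smaller opens. -/
theorem isBasisOn_of_affine {X : Scheme.{u}} {M : X.Modules} {U : X.Opens} {n : ℕ} {b : Fin n → Γ(M, U)}
    (h : ∀ (V : X.Opens), IsAffineOpen V → ∀ hV : V ≤ U, Function.Bijective (lc M b hV)) :
    IsBasisOn M U b := by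
  intro O hO
  let α := {V : X.Opens // IsAffineOpen V ∧ V ≤ O}
  let W : α → X.Opens := fun V => V.1
  have hW : ∀ i : α, W i ≤ O := fun i => i.2.2
  have hcov : O ≤ iSup W := fun x hx => by
    obtain ⟨_, ⟨V, hV, rfl⟩, hxV, hVO⟩ := X.isBasis_affineOpens.exists_subset_of_mem_open (show x ∈ O from hx) O.2
    exact Opens.mem_iSup.2 ⟨⟨V, hV, hVO⟩, hxV⟩
  let FM : TopCat.Sheaf Ab.{u} X.toTopCat := ⟨M.presheaf, M.isSheaf⟩
  refine ⟨fun c c' hc => funext fun i => ?_, fun s => ?_⟩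
  · refine TopCat.Sheaf.eq_of_locally_eq' X.sheaf W O (fun i => homOfLE (hW i)) hcov _ _ fun V => ?_
    show ro (hW V) (c i) = ro (hW V) (c' i)
    have e : (fun i => ro (hW V) (c i)) = fun i => ro (hW V) (c' i) := (h _ V.2.1 ((hW V).trans hO)).1
      ((rs_lc b hO (hW V) c).symm.trans ((congrArg (rs M (hW V)) hc).trans (rs_lc b hO (hW V) c')))
    exact congrFun e i
  · choose c hc using fun V : α => (h _ V.2.1 ((hW V).trans hO)).2 (rs M (hW V) s)
    have key : ∀ (V V' : α) (V'' : X.Opens) (h1 : V'' ≤ W V) (h2 : V'' ≤ W V'), IsAffineOpen V'' →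
        (fun i => ro h1 (c V i)) = fun i => ro h2 (c V' i) := fun V V' V'' h1 h2 ha => by
      refine (h _ ha (h1.trans ((hW V).trans hO))).1 ?_
      refine (rs_lc b ((hW V).trans hO) h1 (c V)).symm.trans ?_
      refine Eq.trans ?_ (rs_lc b ((hW V').trans hO) h2 (c V'))
      rw [hc, hc, rs_rs, rs_rs]
    have hglue : ∀ i, ∃ z : Γ(X, O), ∀ V : α, ro (hW V) z = c V i := fun i => by
      obtain ⟨z, hz, -⟩ := X.sheaf.existsUnique_gluing' W O (fun V => homOfLE (hW V)) hcov (fun V => c V i)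
        fun V V' => by
          refine TopCat.Sheaf.eq_of_locally_eq' X.sheaf
            (fun A : {A : X.Opens // IsAffineOpen A ∧ A ≤ W V ⊓ W V'} => A.1) _ (fun A => homOfLE A.2.2) ?_ _ _ fun A => ?_
          · intro x hx
            obtain ⟨_, ⟨A, hA, rfl⟩, hxA, hle⟩ :=
              X.isBasis_affineOpens.exists_subset_of_mem_open (show x ∈ W V ⊓ W V' from hx) (W V ⊓ W V').2
            exact Opens.mem_iSup.2 ⟨⟨A, hA, hle⟩, hxA⟩
          · show ro A.2.2 (ro inf_le_left (c V i)) = ro A.2.2 (ro inf_le_right (c V' i))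
            rw [ro_ro, ro_ro]
            exact congrFun (key V V' A.1 _ _ A.2.1) i
      exact ⟨z, hz⟩
    choose z hz using hglue
    refine ⟨z, TopCat.Sheaf.eq_of_locally_eq' FM W O (fun i => homOfLE (hW i)) hcov _ _ fun V => ?_⟩
    show rs M (hW V) (lc M b hO z) = rs M (hW V) s
    rw [rs_lc, ← hc V]
    congr 1
    funext i
    exact hz i V

variable {S G : Scheme.{u}} {π : G ⟶ S} {V L : S.Modules} [Coh.IsQCoh V] {q n : ℕ} {Q : G.Modules}
  {qq : (Scheme.Modules.pullback π).obj V ⟶ Q}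

/-- The Plücker closed immersion. -/
theorem exists_closedImmersion (hV : FlatMod.IsFinLocFreeOfRank n V) (hG : Grass.IsGrass π V q Q qq)
    (hL : ExtPow.IsExtPow q V L) {P : Scheme.{u}} {p : P ⟶ S} {O1 : P.Modules}
    {u : (Scheme.Modules.pullback p).obj L ⟶ O1} (hP : KRR.IsProjBundle p L O1 u) :
    ∃ c : G ⟶ P, IsClosedImmersion c ∧ c ≫ p = π := by
  obtain ⟨φ, hφ⟩ := hL
  choose U hxU b hb using fun x : S => Groth.L18.GrassGeom.exists_freeBasis hV x
  obtain ⟨ks⟩ := Groth.L18.PlkAlg.exists_enum q n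
  let w : ∀ A : S.affineOpens, Γ(V, (A : S.Opens)) [⋀^Fin q]→ₗ[Γ(S, (A : S.Opens))] Γ(L, (A : S.Opens)) :=
    fun A => ((φ A).symm.toLinearMap).compAlternatingMap
      (exteriorPower.ιMulti Γ(S, (A : S.Opens)) q (M := V.val.obj (op A.1)))
  have hw : ∀ (A A' : S.affineOpens) (h : A'.1 ≤ A.1) (m : Fin q → Γ(V, A.1)),
      rs L h (w A m) = w A' fun j => rs V h (m j) := fun A A' h m => hφ A A' h m
  have hbasis : ∀ x, IsBasisOn L (U x : S.Opens) fun i => w (U x) (b x ∘ K ks i) := fun x =>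
    isBasisOn_of_affine fun A hA hle => by
      obtain ⟨B, hB⟩ := Groth.L18.PlkAlg.exists_moduleBasis ((hb x).mono hle)
      let E : Basis (Fin (n.choose q)) Γ(S, A) Γ(L, A) :=
        ((B.exteriorPower q).reindex ks.symm).map (φ ⟨A, hA⟩).symm
      have hE : ∀ i, E i = rs L hle (w (U x) (b x ∘ K ks i)) := fun i => by
        rw [hw (U x) ⟨A, hA⟩ hle]
        rw [show E i = (φ ⟨A, hA⟩).symm (B.exteriorPower q (ks i)) by
          show (((B.exteriorPower q).reindex ks.symm).map (φ ⟨A, hA⟩).symm) i = _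
          rw [Basis.map_apply, Basis.reindex_apply, Equiv.symm_symm]]
        refine congrArg (φ ⟨A, hA⟩).symm ?_
        rw [exteriorPower.basis_apply]
        exact congrArg (exteriorPower.ιMulti Γ(S, A) q (M := Γ(V, A))) (funext fun j => hB (K ks i j))
      have h := E.equivFun.symm.bijective
      convert h using 1
      funext c
      rw [Basis.equivFun_symm_apply]
      exact Finset.sum_congr rfl fun i _ => congrArg (c i • ·) (hE i).symm
  let Fr : S → PlkMap.Frm V L ks := fun x => ⟨U x, b x, hb x, w (U x), hbasis x⟩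
  obtain ⟨c, hc, hcπ⟩ := PlkMap.exists_closedImmersion hG hP Fr fun x y z hzx hzy => by
    obtain ⟨_, ⟨A, hA, rfl⟩, hzA, hle⟩ := S.isBasis_affineOpens.exists_subset_of_mem_open
      (show z ∈ (U x : S.Opens) ⊓ (U y : S.Opens) from ⟨hzx, hzy⟩) ((U x : S.Opens) ⊓ (U y : S.Opens)).2
    exact ⟨A, le_trans hle inf_le_left, le_trans hle inf_le_right, w ⟨A, hA⟩, hzA,
      hw (U x) ⟨A, hA⟩ _, hw (U y) ⟨A, hA⟩ _⟩
  have hO : (⨆ x, ((Fr x).U : S.Opens)) = ⊤ := top_le_iff.1 fun x _ => Opens.mem_iSup.2 ⟨x, hxU x⟩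
  have aux : ∀ O : S.Opens, O = ⊤ → (∃ c : (π ⁻¹ᵁ O).toScheme ⟶ (p ⁻¹ᵁ O).toScheme, IsClosedImmersion c ∧
      c ≫ (p ⁻¹ᵁ O).ι ≫ p = (π ⁻¹ᵁ O).ι ≫ π) → ∃ c : G ⟶ P, IsClosedImmersion c ∧ c ≫ p = π := by
    rintro O rfl ⟨c, hc, hcπ⟩
    haveI : IsIso (π ⁻¹ᵁ (⊤ : S.Opens)).ι := (Scheme.topIso G).isIso_hom
    haveI : IsIso (p ⁻¹ᵁ (⊤ : S.Opens)).ι := (Scheme.topIso P).isIso_hom
    refine ⟨inv (π ⁻¹ᵁ (⊤ : S.Opens)).ι ≫ c ≫ (p ⁻¹ᵁ (⊤ : S.Opens)).ι, inferInstance, ?_⟩
    rw [Category.assoc, Category.assoc, hcπ, IsIso.inv_hom_id_assoc]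
  exact aux _ hO ⟨c, hc, hcπ⟩

end Groth.L18.PlkExtPow
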