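import Groth.Agent.L18.Grass.PullHom
import Groth.Agent.L17.FinLocBases
import Groth.Agent.L19.ProjBdl.PullComp
import Groth.Agent.L29.LocFree
import Mathlib.LinearAlgebra.Matrix.NonsingularInverse

/-!
# Bases of global sections

Finitely many global sections are a basis when the morphism from the free module they define is an
isomorphism.  Bases pull back, and two bases differ by a matrix of invertible determinant.
-/

set_option autoImplicit false
set_option linter.style.haveILetI false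
set_option backward.isDefEq.respectTransparency false
set_option backward.isDefEq.respectTransparency.types false

universe u

open CategoryTheory CategoryTheory.Limits AlgebraicGeometry TopologicalSpace Opposite

noncomputable section

namespace Groth.L18.QuotBasis

open Groth.L18.Frame (rs ro rs_rs rs_self rs_smul pull pull_smul)
open Groth.L16 (homOfSection homOfSection_app)

variable {S T : Scheme.{u}} {L L' : T.Modules} {e : ℕ}

theorem homOfSection_one (s : Γ(L, ⊤)) : (homOfSection L s).app ⊤ (1 : Γ(T, ⊤)) = s := by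
  rw [homOfSection_app, one_smul]
  exact rs_self L _ s

theorem eq_homOfSection (a : Coh.structureModule T ⟶ L) : a = homOfSection L (a.app ⊤ (1 : Γ(T, ⊤))) := by
  refine Scheme.Modules.hom_ext _ _ fun V => ConcreteCategory.hom_ext _ _ fun r => ?_
  change Γ(T, V) at r
  rw [homOfSection_app]
  let one' : Γ(Coh.structureModule T, V) := (1 : Γ(T, V))
  have h1 : a.app V (r • one') = r • a.app V one' := Scheme.Modules.Hom.app_smul _ r one'
  have h2 : r • one' = r := mul_one r
  have h3 : L.presheaf.map (homOfLE (le_top (a := V))).op (a.app ⊤ (1 : Γ(T, ⊤))) = a.app V one' :=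
    (PresheafOfModules.naturality_apply a.val (homOfLE (le_top (a := V))).op (1 : Γ(T, ⊤))).symm.trans
      (congrArg (a.app V) (map_one (T.presheaf.map (homOfLE (le_top (a := V))).op).hom))
  exact ((congrArg (a.app V) h2).symm.trans h1).trans (congrArg (r • ·) h3.symm)

/-- Morphisms out of the structure module are determined by the image of one. -/
theorem hom_ext_unit {a b : Coh.structureModule T ⟶ L}
    (h : a.app ⊤ (1 : Γ(T, ⊤)) = b.app ⊤ (1 : Γ(T, ⊤))) : a = b := by
  rw [eq_homOfSection a, eq_homOfSection b, h]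

/-- The morphism from the free module defined by sections. -/
def freeHom (L : T.Modules) (σ : Fin e → Γ(L, ⊤)) : FlatMod.freeMod T e ⟶ L :=
  Sigma.desc fun i => homOfSection L (σ i)

/-- The unit vectors of the free module. -/
def uvec (T : Scheme.{u}) (e : ℕ) (i : Fin e) : Γ(FlatMod.freeMod T e, ⊤) :=
  (Sigma.ι (fun _ : Fin e => Coh.structureModule T) i).app ⊤ (1 : Γ(T, ⊤))

@[simp]
theorem ι_freeHom (σ : Fin e → Γ(L, ⊤)) (i : Fin e) :
    Sigma.ι (fun _ : Fin e => Coh.structureModule T) i ≫ freeHom L σ = homOfSection L (σ i) :=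
  Sigma.ι_desc _ _

theorem freeHom_uvec (σ : Fin e → Γ(L, ⊤)) (i : Fin e) : (freeHom L σ).app ⊤ (uvec T e i) = σ i :=
  (congr($(ι_freeHom σ i).app ⊤ (1 : Γ(T, ⊤)))).trans (homOfSection_one _)

theorem hom_ext_free {φ ψ : FlatMod.freeMod T e ⟶ L}
    (h : ∀ i, φ.app ⊤ (uvec T e i) = ψ.app ⊤ (uvec T e i)) : φ = ψ :=
  Sigma.hom_ext _ _ fun i => hom_ext_unit (h i)

theorem freeHom_id : freeHom (FlatMod.freeMod T e) (uvec T e) = 𝟙 _ :=
  hom_ext_free fun i => freeHom_uvec _ i

theorem freeHom_comp (σ : Fin e → Γ(L, ⊤)) (φ : L ⟶ L') :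
    freeHom L σ ≫ φ = freeHom L' fun i => φ.app ⊤ (σ i) := by
  refine hom_ext_free fun i => ?_
  show φ.app ⊤ ((freeHom L σ).app ⊤ (uvec T e i)) = _
  rw [freeHom_uvec, freeHom_uvec]

/-- The sections form a basis. -/
def IsBasis (L : T.Modules) (σ : Fin e → Γ(L, ⊤)) : Prop := IsIso (freeHom L σ)

theorem isBasis_uvec : IsBasis (FlatMod.freeMod T e) (uvec T e) := by
  rw [IsBasis, freeHom_id]
  infer_instance

theorem IsBasis.map {σ : Fin e → Γ(L, ⊤)} (h : IsBasis L σ) (θ : L ⟶ L') [IsIso θ] :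
    IsBasis L' fun i => θ.app ⊤ (σ i) := by
  haveI : IsIso (freeHom L σ) := h
  show IsIso (freeHom L' fun i => θ.app ⊤ (σ i))
  rw [← freeHom_comp]
  infer_instance

theorem IsBasis.of_eq {σ τ : Fin e → Γ(L, ⊤)} (h : IsBasis L σ) (he : ∀ i, σ i = τ i) : IsBasis L τ :=
  funext he ▸ h

theorem app_sum_smul (φ : L ⟶ L') (c : Fin e → Γ(T, ⊤)) (σ : Fin e → Γ(L, ⊤)) :
    φ.app ⊤ (∑ i, c i • σ i) = ∑ i, c i • φ.app ⊤ (σ i) := by
  rw [map_sum]
  exact Finset.sum_congr rfl fun i _ => Scheme.Modules.Hom.app_smul _ _ _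

/-- Global sections are uniquely combinations of a basis. -/
theorem IsBasis.bijective {σ : Fin e → Γ(L, ⊤)} (h : IsBasis L σ) :
    Function.Bijective fun c : Fin e → Γ(T, ⊤) => ∑ i, c i • σ i := by
  haveI : IsIso (freeHom L σ) := h
  have hb := Groth.L17.FinLocBases.bijective_lc (fun i => Sigma.ι (fun _ : Fin e => Coh.structureModule T) i ≫ freeHom L σ)
    (fun i => inv (freeHom L σ) ≫ Sigma.desc fun l => if l = i then 𝟙 _ else 0)
    (fun i j => by rw [Category.assoc, IsIso.hom_inv_id_assoc, Sigma.ι_desc])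
    (by
      rw [← cancel_epi (freeHom L σ), Category.comp_id, Preadditive.comp_sum]
      refine Sigma.hom_ext _ _ fun k => ?_
      rw [Preadditive.comp_sum, Finset.sum_eq_single k]
      · simp
      · intro i _ hi
        simp [Ne.symm hi]
      · exact fun hk => (hk (Finset.mem_univ k)).elim) ⊤
  refine Eq.mp (congrArg Function.Bijective ?_) hb
  funext c
  refine Finset.sum_congr rfl fun i _ => congrArg (c i • ·) ?_
  rw [ι_freeHom]
  exact (rs_self L _ _).trans (homOfSection_one _)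

theorem IsBasis.exists_matrix {τ : Fin e → Γ(L, ⊤)} (h : IsBasis L τ) (σ : Fin e → Γ(L, ⊤)) :
    ∃ M : Matrix (Fin e) (Fin e) Γ(T, ⊤), ∀ i, σ i = ∑ j, M i j • τ j :=
  ⟨fun i => (h.bijective.2 (σ i)).choose, fun i => (h.bijective.2 (σ i)).choose_spec.symm⟩

theorem sum_sum (M N : Matrix (Fin e) (Fin e) Γ(T, ⊤)) (σ : Fin e → Γ(L, ⊤)) (i : Fin e) :
    ∑ j, M i j • ∑ k, N j k • σ k = ∑ k, (M * N) i k • σ k := by
  simp only [Finset.smul_sum, ← mul_smul]
  rw [Finset.sum_comm]
  exact Finset.sum_congr rfl fun k _ => (Finset.sum_smul ..).symm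

/-- The endomorphism of the free module given by a matrix. -/
def mat (M : Matrix (Fin e) (Fin e) Γ(T, ⊤)) : FlatMod.freeMod T e ⟶ FlatMod.freeMod T e :=
  freeHom _ fun i => ∑ j, M i j • uvec T e j

theorem mat_comp (M : Matrix (Fin e) (Fin e) Γ(T, ⊤)) (σ : Fin e → Γ(L, ⊤)) :
    mat M ≫ freeHom L σ = freeHom L fun i => ∑ j, M i j • σ j := by
  rw [mat, freeHom_comp]
  congr 1
  funext i
  rw [app_sum_smul]
  simp only [freeHom_uvec]

theorem mat_one : mat (1 : Matrix (Fin e) (Fin e) Γ(T, ⊤)) = 𝟙 (FlatMod.freeMod T e) := by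
  refine Eq.trans ?_ freeHom_id
  unfold mat
  congr 1
  funext i
  simp [Matrix.one_apply, ite_smul]

theorem mat_mul (M N : Matrix (Fin e) (Fin e) Γ(T, ⊤)) : mat M ≫ mat N = mat (M * N) := by
  rw [show mat N = freeHom _ (fun i => ∑ j, N i j • uvec T e j) from rfl, mat_comp]
  unfold mat
  congr 1
  funext i
  exact sum_sum M N _ i

theorem isIso_mat {M : Matrix (Fin e) (Fin e) Γ(T, ⊤)} (h : IsUnit M.det) : IsIso (mat M) :=
  ⟨mat M⁻¹, by rw [mat_mul, Matrix.mul_nonsing_inv M h, mat_one],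
    by rw [mat_mul, Matrix.nonsing_inv_mul M h, mat_one]⟩

theorem IsBasis.of_det {σ τ : Fin e → Γ(L, ⊤)} (h : IsBasis L τ) {M : Matrix (Fin e) (Fin e) Γ(T, ⊤)}
    (hM : IsUnit M.det) (hσ : ∀ i, σ i = ∑ j, M i j • τ j) : IsBasis L σ := by
  haveI : IsIso (freeHom L τ) := h
  haveI := isIso_mat hM
  show IsIso (freeHom L σ)
  rw [funext hσ, ← mat_comp]
  infer_instance

theorem IsBasis.isUnit_det {σ τ : Fin e → Γ(L, ⊤)} (hσ' : IsBasis L σ)
    {M : Matrix (Fin e) (Fin e) Γ(T, ⊤)} (hσ : ∀ i, σ i = ∑ j, M i j • τ j) : IsUnit M.det := by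
  obtain ⟨N, hN⟩ := hσ'.exists_matrix τ
  have h1 : M * N = 1 := by
    funext i
    refine hσ'.bijective.1 ?_
    show ∑ k, (M * N) i k • σ k = ∑ k, (1 : Matrix (Fin e) (Fin e) Γ(T, ⊤)) i k • σ k
    rw [← sum_sum]
    simp only [← hN]
    rw [← hσ]
    simp [Matrix.one_apply, ite_smul]
  exact Matrix.isUnit_det_of_right_inverse h1

section Pullback

/-- Pullback of global sections. -/
def pl (h : S ⟶ T) (L : T.Modules) (s : Γ(L, ⊤)) : Γ((Scheme.Modules.pullback h).obj L, ⊤) :=
  pull h L ⊤ s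

theorem pl_app (h : S ⟶ T) (φ : L ⟶ L') (s : Γ(L, ⊤)) :
    ((Scheme.Modules.pullback h).map φ).app ⊤ (pl h L s) = pl h L' (φ.app ⊤ s) :=
  Groth.L19.ProjBdl.pull_app h φ ⊤ s

theorem pl_smul (h : S ⟶ T) (a : Γ(T, ⊤)) (s : Γ(L, ⊤)) : pl h L (a • s) = h.appTop a • pl h L s :=
  pull_smul h L a s

theorem pl_sum_smul (h : S ⟶ T) (c : Fin e → Γ(T, ⊤)) (σ : Fin e → Γ(L, ⊤)) :
    pl h L (∑ i, c i • σ i) = ∑ i, h.appTop (c i) • pl h L (σ i) := by
  have : pl h L (∑ i, c i • σ i) = ∑ i, pl h L (c i • σ i) :=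
    map_sum (((Scheme.Modules.pullbackPushforwardAdjunction h).unit.app L).app ⊤).hom _ _
  rw [this]
  exact Finset.sum_congr rfl fun i _ => pl_smul h _ _

theorem pl_comp {R : Scheme.{u}} (a : R ⟶ S) (h : S ⟶ T) (s : Γ(L, ⊤)) :
    ((Scheme.Modules.pullbackComp a h).inv.app L).app ⊤ (pl (a ≫ h) L s) = pl a _ (pl h L s) :=
  Groth.L19.ProjBdl.pull_comp a h L ⊤ s

theorem pl_congr {h h' : S ⟶ T} (he : h = h') (s : Γ(L, ⊤)) :
    ((Scheme.Modules.pullbackCongr he).hom.app L).app ⊤ (pl h L s) = pl h' L s := by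
  subst he
  simp [Scheme.Modules.pullbackCongr]

/-- The unit vector of the inverse image of the structure module. -/
theorem isBasis_pl_unit (h : S ⟶ T) :
    IsIso (homOfSection ((Scheme.Modules.pullback h).obj (Coh.structureModule T))
      (pl h (Coh.structureModule T) (1 : Γ(T, ⊤)))) := by
  refine Groth.L16.isIso_homOfSection _ _ fun V => ?_
  have h1 : Groth.L18.Frame.IsFrame (Coh.structureModule T) ⊤ (1 : Γ(T, ⊤)) := fun V hV => by
    have : (fun a : Γ(T, V) => a • rs (Coh.structureModule T) hV (1 : Γ(T, ⊤))) = id := by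
      funext a
      show a * T.presheaf.map (homOfLE hV).op 1 = a
      rw [map_one, mul_one]
    rw [this]
    exact Function.bijective_id
  exact (h1.pullback (f := h)) V le_top

theorem IsBasis.pl {σ : Fin e → Γ(L, ⊤)} (hσ : IsBasis L σ) (h : S ⟶ T) :
    IsBasis ((Scheme.Modules.pullback h).obj L) fun i => pl h L (σ i) := by
  haveI : IsIso (freeHom L σ) := hσ
  haveI := isBasis_pl_unit h
  let u := homOfSection ((Scheme.Modules.pullback h).obj (Coh.structureModule T))
      (QuotBasis.pl h (Coh.structureModule T) (1 : Γ(T, ⊤)))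
  have : freeHom ((Scheme.Modules.pullback h).obj L) (fun i => QuotBasis.pl h L (σ i)) =
      Limits.Sigma.map (fun _ : Fin e => u) ≫
        (PreservesCoproduct.iso (Scheme.Modules.pullback h) fun _ : Fin e => Coh.structureModule T).inv ≫
        (Scheme.Modules.pullback h).map (freeHom L σ) := by
    refine Sigma.hom_ext _ _ fun i => ?_
    rw [ι_freeHom]
    simp only [Sigma.ι_map_assoc, PreservesCoproduct.inv_hom, ι_comp_sigmaComparison_assoc,
      ← Functor.map_comp, ι_freeHom]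
    refine hom_ext_unit ?_
    rw [homOfSection_one]
    show _ = ((Scheme.Modules.pullback h).map (homOfSection L (σ i))).app ⊤ (u.app ⊤ (1 : Γ(S, ⊤)))
    rw [homOfSection_one, pl_app, homOfSection_one]
  show IsIso _
  rw [this]
  infer_instance

end Pullback

end Groth.L18.QuotBasis
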