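import Groth.Agent.L18.Grass.QuotFam
import Groth.Agent.L18.Grass.QuotBasis
import Mathlib.RingTheory.MvPolynomial.Basic

/-!
# The standard charts of a Grassmannian of a quasi-coherent module

For an affine open `U` and `e` sections `I` of `E` over it, the quotients for which the images of `I`
form a basis are classified by an affine scheme.
-/

set_option autoImplicit false
set_option linter.style.haveILetI false
set_option backward.isDefEq.respectTransparency false
set_option backward.isDefEq.respectTransparency.types false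

universe u

open CategoryTheory CategoryTheory.Limits AlgebraicGeometry TopologicalSpace Opposite

noncomputable section

namespace Groth.L18.QuotChart

open Groth.L18.Frame (rs ro rs_rs rs_self pull pull_rs)
open Groth.L18.PullHom (sec hom_ext_sec exists_hom_sec)
open Groth.L18.QuotBasis
open Groth.L18.QuotFam

theorem isFinLocFreeOfRank_free (T : Scheme.{u}) (e : ℕ) : FlatMod.IsFinLocFreeOfRank e (FlatMod.freeMod T e) :=
  fun _ => ⟨⊤, trivial, ⟨(Scheme.Modules.restrictFunctorIsoPullback (⊤ : T.Opens).ι).app _ ≪≫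
    Groth.L29.LocFree.pullbackFreeIso _ e⟩⟩

section Affine

variable {X T : Scheme.{u}} {U : X.Opens}

theorem eq_toSpecΓ_fromSpec (hU : IsAffineOpen U) (g : T ⟶ X) (hg : (⊤ : T.Opens) ≤ g ⁻¹ᵁ U) :
    g = T.toSpecΓ ≫ Spec.map (g.appLE U ⊤ hg) ≫ hU.fromSpec := by
  haveI : IsIso (⊤ : T.Opens).ι := (Scheme.topIso T).isIso_hom
  have e : (⊤ : T.Opens).ι ≫ T.toSpecΓ = (⊤ : T.Opens).toSpecΓ := Scheme.Opens.toSpecΓ_top.symm
  rw [← cancel_epi (⊤ : T.Opens).ι, reassoc_of% e,
    Scheme.Opens.toSpecΓ_SpecMap_appLE_assoc, IsAffineOpen.toSpecΓ_fromSpec, Scheme.Hom.resLE_comp_ι]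

theorem eq_toSpecΓ_map {W : CommRingCat.{u}} (a : T ⟶ Spec W) :
    a = T.toSpecΓ ≫ Spec.map ((Scheme.ΓSpecIso W).inv ≫ a.appTop) := by
  rw [Spec.map_comp, ← Scheme.toSpecΓ_naturality_assoc, toSpecΓ_SpecMap_ΓSpecIso_inv, Category.comp_id]

theorem appTop_toSpecΓ_map {W : CommRingCat.{u}} (ρ : W ⟶ Γ(T, ⊤)) :
    (Scheme.ΓSpecIso W).inv ≫ (T.toSpecΓ ≫ Spec.map ρ).appTop = ρ := by
  rw [Scheme.Hom.comp_appTop, Scheme.toSpecΓ_appTop, ← Scheme.ΓSpecIso_inv_naturality_assoc,
    Iso.inv_hom_id, Category.comp_id]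

end Affine

section Eval

variable {X G T : Scheme.{u}} {π : G ⟶ X} {E : X.Modules} [Coh.IsQCoh E] {U : X.Opens} {Q : G.Modules}

theorem app_sec_quotBC {h : T ⟶ G} {g : T ⟶ X} (hg : h ≫ π = g) (hπ : (⊤ : G.Opens) ≤ π ⁻¹ᵁ U)
    (hgU : (⊤ : T.Opens) ≤ g ⁻¹ᵁ U) (q : (Scheme.Modules.pullback π).obj E ⟶ Q) (m : Γ(E, U)) :
    (Grass.quotBC hg q).app ⊤ (sec hgU m) = pl h Q (q.app ⊤ (sec hπ m)) := by
  subst hg
  have h1 : Grass.quotBC rfl q =
      (Scheme.Modules.pullbackComp h π).inv.app E ≫ (Scheme.Modules.pullback h).map q := by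
    simp [Grass.quotBC, Scheme.Modules.pullbackCongr]
  rw [h1]
  show ((Scheme.Modules.pullback h).map q).app ⊤
    (((Scheme.Modules.pullbackComp h π).inv.app E).app ⊤ (rs _ hgU (pull (h ≫ π) E U m))) = _
  rw [Groth.L19.ProjBdl.app_rs, Groth.L19.ProjBdl.pull_comp]
  have h2 : rs ((Scheme.Modules.pullback h).obj ((Scheme.Modules.pullback π).obj E)) hgU
      (pull h _ (π ⁻¹ᵁ U) (pull π E U m)) = pl h _ (sec hπ m) :=
    pull_rs h ((Scheme.Modules.pullback π).obj E) hπ (pull π E U m)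
  exact (congrArg _ h2).trans (pl_app h q _)

end Eval

section Ring

variable {X : Scheme.{u}} {E : X.Modules} {e : ℕ} {U : X.Opens} (I : Fin e → Γ(E, U))

/-- The polynomial ring in the coordinates of the images of all sections. -/
abbrev Poly (_ : Fin e → Γ(E, U)) : Type u := MvPolynomial (Γ(E, U) × Fin e) Γ(X, U)

/-- The relations: linearity and normalisation at `I`. -/
def rels : Set (Poly I) :=
  (Set.range fun p : (Γ(E, U) × Γ(E, U)) × Fin e =>
      MvPolynomial.X (p.1.1 + p.1.2, p.2) - (MvPolynomial.X (p.1.1, p.2) + MvPolynomial.X (p.1.2, p.2))) ∪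
  (Set.range fun p : (Γ(X, U) × Γ(E, U)) × Fin e =>
      MvPolynomial.X (p.1.1 • p.1.2, p.2) - MvPolynomial.C p.1.1 * MvPolynomial.X (p.1.2, p.2)) ∪
  (Set.range fun p : Fin e × Fin e => MvPolynomial.X (I p.1, p.2) - if p.1 = p.2 then 1 else 0)

/-- The ring of the chart. -/
abbrev W : Type u := Poly I ⧸ Ideal.span (rels I)

/-- The coordinates on the chart. -/
def coord (m : Γ(E, U)) (k : Fin e) : W I := Ideal.Quotient.mk _ (MvPolynomial.X (m, k))

theorem mk_rel {r : Poly I} (hr : r ∈ rels I) : Ideal.Quotient.mk (Ideal.span (rels I)) r = 0 :=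
  Ideal.Quotient.eq_zero_iff_mem.2 (Ideal.subset_span hr)

theorem coord_add (a b : Γ(E, U)) (k : Fin e) : coord I (a + b) k = coord I a k + coord I b k :=
  sub_eq_zero.1 (by
    rw [coord, coord, coord, ← map_add, ← map_sub]
    exact mk_rel I (Or.inl (Or.inl ⟨((a, b), k), rfl⟩)))

theorem coord_smul (a : Γ(X, U)) (m : Γ(E, U)) (k : Fin e) :
    coord I (a • m) k = algebraMap Γ(X, U) (W I) a * coord I m k :=
  sub_eq_zero.1 (by
    rw [coord, coord, show algebraMap Γ(X, U) (W I) a = Ideal.Quotient.mk _ (MvPolynomial.C a) from rfl,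
      ← map_mul, ← map_sub]
    exact mk_rel I (Or.inl (Or.inr ⟨((a, m), k), rfl⟩)))

theorem coord_I (l k : Fin e) : coord I (I l) k = if l = k then 1 else 0 := by
  have h := mk_rel I (Or.inr ⟨(l, k), rfl⟩ : _ ∈ rels I)
  rw [map_sub, sub_eq_zero] at h
  rw [coord, h]
  split_ifs <;> simp

theorem hom_ext {R : CommRingCat.{u}} {ρ ρ' : CommRingCat.of (W I) ⟶ R}
    (h : ∀ a, ρ (algebraMap Γ(X, U) (W I) a) = ρ' (algebraMap Γ(X, U) (W I) a))
    (h' : ∀ m k, ρ (coord I m k) = ρ' (coord I m k)) : ρ = ρ' :=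
  CommRingCat.hom_ext (Ideal.Quotient.ringHom_ext (MvPolynomial.ringHom_ext h fun p => h' p.1 p.2))

theorem exists_hom {R : CommRingCat.{u}} (φ : Γ(X, U) ⟶ R) (c : Γ(E, U) → Fin e → R)
    (hadd : ∀ a b k, c (a + b) k = c a k + c b k) (hsmul : ∀ a m k, c (a • m) k = φ a * c m k)
    (hI : ∀ l k, c (I l) k = if l = k then 1 else 0) :
    ∃ ρ : CommRingCat.of (W I) ⟶ R, CommRingCat.ofHom (algebraMap Γ(X, U) (W I)) ≫ ρ = φ ∧
      ∀ m k, ρ (coord I m k) = c m k := by
  have hle : Ideal.span (rels I) ≤ RingHom.ker (MvPolynomial.eval₂Hom φ.hom fun p => c p.1 p.2) := by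
    refine Ideal.span_le.2 ?_
    rintro _ ((⟨⟨⟨a, b⟩, k⟩, rfl⟩ | ⟨⟨⟨a, m⟩, k⟩, rfl⟩) | ⟨⟨l, k⟩, rfl⟩)
    · simp [hadd]
    · simp [hsmul]
    · by_cases h : l = k <;> simp [h, hI]
  refine ⟨CommRingCat.ofHom (Ideal.Quotient.lift _ _ hle), CommRingCat.hom_ext (RingHom.ext fun a => ?_),
    fun m k => MvPolynomial.eval₂Hom_X' _ _ _⟩
  exact MvPolynomial.eval₂Hom_C _ _ a

end Ring

section Chart

variable {X : Scheme.{u}} {E : X.Modules} [Coh.IsQCoh E] {e : ℕ} {U : X.Opens} (hU : IsAffineOpen U)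
  (I : Fin e → Γ(E, U))

/-- The chart. -/
def chart : Over X := Over.mk (Spec.map (CommRingCat.ofHom (algebraMap Γ(X, U) (W I))) ≫ hU.fromSpec)

theorem chart_le : (⊤ : (chart hU I).left.Opens) ≤ (chart hU I).hom ⁻¹ᵁ U := fun x _ => by
  show (chart hU I).hom x ∈ U
  exact hU.range_fromSpec.le ⟨_, rfl⟩

/-- The coordinate functions of the chart. -/
def crd (m : Γ(E, U)) (k : Fin e) : Γ((chart hU I).left, ⊤) :=
  (Scheme.ΓSpecIso (CommRingCat.of (W I))).inv (coord I m k)

theorem appLE_chart : (chart hU I).hom.appLE U ⊤ (chart_le hU I) =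
    CommRingCat.ofHom (algebraMap Γ(X, U) (W I)) ≫ (Scheme.ΓSpecIso (CommRingCat.of (W I))).inv := by
  have h := eq_toSpecΓ_fromSpec hU (chart hU I).hom (chart_le hU I)
  have h' : Spec.map (CommRingCat.ofHom (algebraMap Γ(X, U) (W I))) ≫ hU.fromSpec =
      Spec.map ((Scheme.ΓSpecIso (CommRingCat.of (W I))).hom) ≫ Spec.map ((chart hU I).hom.appLE U ⊤ (chart_le hU I)) ≫
        hU.fromSpec := by
    rw [SpecMap_ΓSpecIso_hom]
    exact h
  rw [← Category.assoc, cancel_mono, ← Spec.map_comp] at h'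
  exact (Iso.eq_comp_inv _).2 (Spec.map_injective h').symm

/-- The universal quotient of the chart. -/
theorem exists_univ : ∃ Φ : (Scheme.Modules.pullback (chart hU I).hom).obj E ⟶ FlatMod.freeMod (chart hU I).left e,
    Epi Φ ∧ ∀ m, Φ.app ⊤ (sec (chart_le hU I) m) = ∑ k, crd hU I m k • uvec (chart hU I).left e k := by
  obtain ⟨Φ, hΦ⟩ := exists_hom_sec (g := (chart hU I).hom) (E := E) hU (chart_le hU I)
    (AddMonoidHom.mk' (fun m => ∑ k, crd hU I m k • uvec (chart hU I).left e k) fun a b => by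
      simp only [crd, coord_add, map_add, add_smul, Finset.sum_add_distrib])
    (fun a m => by
      simp only [AddMonoidHom.mk'_apply, crd, coord_smul, map_mul, appLE_chart, Finset.smul_sum, mul_smul]
      rfl)
  refine ⟨Φ, ?_, hΦ⟩
  have h : freeHom _ (fun l => sec (chart_le hU I) (I l)) ≫ Φ = 𝟙 _ := by
    rw [freeHom_comp, ← freeHom_id]
    congr 1
    funext l
    refine (hΦ (I l)).trans ?_
    simp [crd, coord_I, apply_ite, ite_smul]
  haveI : Epi (freeHom _ (fun l => sec (chart_le hU I) (I l)) ≫ Φ) := h ▸ inferInstance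
  exact epi_of_epi (freeHom _ fun l => sec (chart_le hU I) (I l)) Φ

/-- The class of the universal quotient. -/
def ξ : (qFam E e).obj (chart hU I) :=
  haveI := (exists_univ hU I).choose_spec.1
  mk (chart hU I) (isFinLocFreeOfRank_free _ e) (exists_univ hU I).choose

variable {T : Over X} {L : T.left.Modules} (hL : FlatMod.IsFinLocFreeOfRank e L)
  (s : (Scheme.Modules.pullback T.hom).obj E ⟶ L) [Epi s]

theorem le_of_hom (a : T ⟶ chart hU I) : (⊤ : T.left.Opens) ≤ T.hom ⁻¹ᵁ U := by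
  rw [← Over.w a, Scheme.Hom.comp_preimage]
  exact a.left.preimage_mono (chart_le hU I)

theorem appLE_hom (a : T ⟶ chart hU I) (hg : (⊤ : T.left.Opens) ≤ T.hom ⁻¹ᵁ U) (r : Γ(X, U)) :
    T.hom.appLE U ⊤ hg r =
      a.left.appTop ((Scheme.ΓSpecIso (CommRingCat.of (W I))).inv (algebraMap Γ(X, U) (W I) r)) := by
  have : T.hom.appLE U ⊤ hg = (chart hU I).hom.appLE U ⊤ (chart_le hU I) ≫ a.left.appTop := by
    rw [Scheme.Hom.appTop, Scheme.Hom.app_eq_appLE, Scheme.Hom.appLE_comp_appLE]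
    simp [Over.w a]
  rw [this, appLE_chart]
  rfl

theorem app_sec_res (a : T ⟶ chart hU I) (hg : (⊤ : T.left.Opens) ≤ T.hom ⁻¹ᵁ U) (m : Γ(E, U)) :
    (Grass.quotBC (Over.w a) (exists_univ hU I).choose).app ⊤ (sec hg m) =
      ∑ k, a.left.appTop (crd hU I m k) • pl a.left _ (uvec (chart hU I).left e k) := by
  rw [app_sec_quotBC (Over.w a) (chart_le hU I), (exists_univ hU I).choose_spec.2, pl_sum_smul]

theorem res_ξ_eq_iff (a : T ⟶ chart hU I) : (qFam E e).res a (ξ hU I) = mk T hL s ↔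
    Rel (Grass.quotBC (Over.w a) (exists_univ hU I).choose) s := by
  haveI := (exists_univ hU I).choose_spec.1
  haveI := Groth.L18.MapEpi.epi_quotBC (Over.w a) (exists_univ hU I).choose
  show res E e a (mk _ _ _) = _ ↔ _
  rw [res_mk, mk_eq_mk]

/-- The points of the chart are the quotients in which the images of `I` form a basis. -/
theorem exists_hom_iff : (∃ a : T ⟶ chart hU I, (qFam E e).res a (ξ hU I) = mk T hL s) ↔
    ∃ hg : (⊤ : T.left.Opens) ≤ T.hom ⁻¹ᵁ U, IsBasis L fun l => s.app ⊤ (sec hg (I l)) := by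
  constructor
  · rintro ⟨a, ha⟩
    obtain ⟨θ, rfl⟩ := (res_ξ_eq_iff hU I hL s a).1 ha
    refine ⟨le_of_hom hU I a, ((isBasis_uvec.pl a.left).map θ.hom).of_eq fun l => ?_⟩
    refine congrArg (θ.hom.app ⊤) ((app_sec_res hU I a _ (I l)).trans ?_).symm
    simp [crd, coord_I, apply_ite, ite_smul]
  · rintro ⟨hg, hb⟩
    choose c hc using fun m => hb.bijective.2 (s.app ⊤ (sec hg m))
    have hu : ∀ {d d' : Fin e → Γ(T.left, ⊤)},
        ∑ k, d k • s.app ⊤ (sec hg (I k)) = ∑ k, d' k • s.app ⊤ (sec hg (I k)) → ∀ k, d k = d' k :=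
      fun h => congrFun (hb.bijective.1 h)
    have hsec : ∀ (r : Γ(X, U)) (m : Γ(E, U)), sec hg (r • m) = T.hom.appLE U ⊤ hg r • sec hg m := fun r m => by
      rw [sec, sec, Groth.L18.Frame.pull_smul, Groth.L18.Frame.rs_smul]
      rfl
    obtain ⟨ρ, hρ, hρc⟩ := exists_hom I (T.hom.appLE U ⊤ hg) c
      (fun a b => hu (d' := fun k => c a k + c b k) <| (hc _).trans <| by
        simp only [add_smul, Finset.sum_add_distrib, hc]
        rw [← map_add]
        congr 1
        exact (congrArg (rs _ hg) (map_add _ a b)).trans (map_add _ _ _))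
      (fun r m => hu (d' := fun k => T.hom.appLE U ⊤ hg r * c m k) <| (hc _).trans <| by
        simp only [mul_smul, ← Finset.smul_sum, hc]
        rw [hsec, Scheme.Modules.Hom.app_smul])
      (fun l => hu (d' := fun k => if l = k then 1 else 0) <| (hc _).trans <| by simp [ite_smul])
    let a : T ⟶ chart hU I := Over.homMk (T.left.toSpecΓ ≫ Spec.map ρ) (by
      show (_ ≫ Spec.map ρ) ≫ Spec.map _ ≫ hU.fromSpec = T.hom
      rw [Category.assoc, ← Spec.map_comp_assoc, hρ]
      exact (eq_toSpecΓ_fromSpec hU T.hom hg).symm)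
    have ha : ∀ m k, a.left.appTop (crd hU I m k) = c m k := fun m k =>
      (congr($(appTop_toSpecΓ_map ρ) (coord I m k))).trans (hρc m k)
    refine ⟨a, (res_ξ_eq_iff hU I hL s a).2 ?_⟩
    haveI : IsIso (freeHom _ fun k => pl a.left _ (uvec (chart hU I).left e k)) := isBasis_uvec.pl a.left
    haveI : IsIso (freeHom L fun l => s.app ⊤ (sec hg (I l))) := hb
    refine ⟨(asIso (freeHom _ fun k => pl a.left _ (uvec (chart hU I).left e k))).symm ≪≫
      asIso (freeHom L fun l => s.app ⊤ (sec hg (I l))), hom_ext_sec hU hg fun m => ?_⟩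
    show ((asIso (freeHom _ fun k => pl a.left _ (uvec (chart hU I).left e k))).symm ≪≫
      asIso (freeHom L fun l => s.app ⊤ (sec hg (I l)))).hom.app ⊤
      ((Grass.quotBC (Over.w a) (exists_univ hU I).choose).app ⊤ (sec hg m)) = _
    rw [app_sec_res, app_sum_smul]
    refine Eq.trans (Finset.sum_congr rfl fun k _ => ?_) (hc m)
    rw [ha]
    refine congrArg (c m k • ·) ?_
    refine Eq.trans ?_ (freeHom_uvec (fun k => s.app ⊤ (sec hg (I k))) k)
    rw [← freeHom_uvec (fun k => pl a.left _ (uvec (chart hU I).left e k)) k]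
    exact congr($(IsIso.hom_inv_id_assoc (freeHom _ fun k => pl a.left _ (uvec (chart hU I).left e k))
      (freeHom L fun l => s.app ⊤ (sec hg (I l)))).app ⊤ (uvec T.left e k))

omit s in
/-- A point of the chart is determined by its quotient. -/
theorem hom_ext_of_res {a b : T ⟶ chart hU I}
    (h : (qFam E e).res a (ξ hU I) = (qFam E e).res b (ξ hU I)) : a = b := by
  haveI := (exists_univ hU I).choose_spec.1
  haveI := Groth.L18.MapEpi.epi_quotBC (Over.w a) (exists_univ hU I).choose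
  haveI := Groth.L18.MapEpi.epi_quotBC (Over.w b) (exists_univ hU I).choose
  change res E e a (mk _ _ _) = res E e b (mk _ _ _) at h
  rw [res_mk, res_mk, mk_eq_mk] at h
  obtain ⟨θ, hθ⟩ := h
  have hg := le_of_hom hU I a
  have key : ∀ m, ∑ k, a.left.appTop (crd hU I m k) • θ.hom.app ⊤ (pl a.left _ (uvec (chart hU I).left e k)) =
      ∑ k, b.left.appTop (crd hU I m k) • pl b.left _ (uvec (chart hU I).left e k) := fun m => by
    rw [← app_sum_smul, ← app_sec_res hU I a hg, ← app_sec_res hU I b hg, ← hθ]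
    rfl
  have hl : ∀ l, θ.hom.app ⊤ (pl a.left _ (uvec (chart hU I).left e l)) =
      pl b.left _ (uvec (chart hU I).left e l) := fun l => by
    simpa [crd, coord_I, apply_ite, ite_smul] using key (I l)
  have hc : ∀ m k, a.left.appTop (crd hU I m k) = b.left.appTop (crd hU I m k) := fun m =>
    congrFun ((isBasis_uvec.pl b.left).bijective.1 (by simpa only [hl] using key m))
  refine Over.OverMorphism.ext ?_
  rw [eq_toSpecΓ_map a.left, eq_toSpecΓ_map b.left]
  congr 2
  refine hom_ext I (fun r => ?_) fun m k => hc m k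
  exact (appLE_hom hU I a hg r).symm.trans (appLE_hom hU I b hg r)

end Chart

end Groth.L18.QuotChart
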