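import Groth.Agent.L19.ProjBdl.Basis
import Mathlib.LinearAlgebra.ExteriorPower.Basis
import Mathlib.LinearAlgebra.Matrix.Adjugate

/-!
# Alternating maps and minors
-/

set_option autoImplicit false

universe u

open CategoryTheory AlgebraicGeometry Module Set.powersetCard

noncomputable section

namespace Groth.L18.PlkAlg

variable {e d n : ℕ} (ks : Fin n ≃ Set.powersetCard (Fin d) e)

/-- The increasing tuple of a subset. -/
def K (i : Fin n) : Fin e → Fin d := ⇑(ofFinEmbEquiv.symm (ks i))

theorem K_injective (i : Fin n) : Function.Injective (K ks i) := (ofFinEmbEquiv.symm (ks i)).injective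

theorem exists_enum (e d : ℕ) : Nonempty (Fin (d.choose e) ≃ Set.powersetCard (Fin d) e) :=
  ⟨(Finite.equivFinOfCardEq (by rw [Set.powersetCard.card, Nat.card_fin])).symm⟩

theorem exists_K_eq_comp {J : Fin e → Fin d} (hJ : Function.Injective J) :
    ∃ (i : Fin n) (σ : Equiv.Perm (Fin e)), ∀ k, K ks i (σ k) = J k := by
  classical
  let s : Set.powersetCard (Fin d) e := ⟨Finset.univ.image J, by simp [Finset.card_image_of_injective _ hJ]⟩
  have h : ∀ k, ∃ l, K ks (ks.symm s) l = J k := fun k => by
    have hk : J k ∈ Set.range (ofFinEmbEquiv.symm s) :=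
      (mem_range_ofFinEmbEquiv_symm_iff_mem s (J k)).2 (show J k ∈ Finset.univ.image J by simp)
    unfold K
    rw [ks.apply_symm_apply]
    exact hk
  choose l hl using h
  have hli : Function.Injective l := fun a b hab => hJ (by rw [← hl a, ← hl b, hab])
  exact ⟨ks.symm s, Equiv.ofBijective l (Finite.injective_iff_bijective.1 hli), hl⟩

variable {R : Type u} [CommRing R] {M N : Type u} [AddCommGroup M] [Module R M] [AddCommGroup N] [Module R N]

/-- Alternating maps agree once they agree on increasing tuples of a basis. -/
theorem alt_ext (b : Basis (Fin d) R M) {f g : M [⋀^Fin e]→ₗ[R] N} (h : ∀ i, f (b ∘ K ks i) = g (b ∘ K ks i)) :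
    f = g := by
  refine exteriorPower.alternatingMapLinearEquiv.injective ((b.exteriorPower e).ext fun s => ?_)
  obtain ⟨i, rfl⟩ := ks.surjective s
  rw [exteriorPower.basis_apply]
  show exteriorPower.alternatingMapLinearEquiv f (exteriorPower.ιMulti R e (b ∘ K ks i)) =
    exteriorPower.alternatingMapLinearEquiv g (exteriorPower.ιMulti R e (b ∘ K ks i))
  rw [exteriorPower.alternatingMapLinearEquiv_apply_ιMulti, exteriorPower.alternatingMapLinearEquiv_apply_ιMulti, h]

variable {A : Type u} [CommRing A] [Algebra R A]

/-- The determinant of the coordinates. -/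
def detAlt (c : M →ₗ[R] Fin e → A) : M [⋀^Fin e]→ₗ[R] A :=
  let δ := (Matrix.detRowAlternating : (Fin e → A) [⋀^Fin e]→ₗ[A] A)
  { toFun := fun v => δ fun i => c (v i)
    map_update_add' := by
      intro _ v i x y
      have h : ∀ z, (fun k => c (Function.update v i z k)) = Function.update (fun k => c (v k)) i (c z) :=
        fun z => funext fun k => Function.apply_update (fun _ => c) v i z k
      simp only [h, map_add, AlternatingMap.map_update_add]
    map_update_smul' := by
      intro _ v i a x
      have h : ∀ z, (fun k => c (Function.update v i z k)) = Function.update (fun k => c (v k)) i (c z) :=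
        fun z => funext fun k => Function.apply_update (fun _ => c) v i z k
      simp only [h, map_smul]
      rw [← algebraMap_smul A a (c x), AlternatingMap.map_update_smul, algebraMap_smul]
    map_eq_zero_of_eq' := fun v a b hab hne =>
      δ.map_eq_zero_of_eq (fun k => c (v k)) (congrArg c hab) hne }

theorem detAlt_apply (c : M →ₗ[R] Fin e → A) (v : Fin e → M) :
    detAlt c v = (Matrix.of fun i => c (v i)).det := rfl

/-- Replacing one row of the identity. -/
theorem det_updateRow_one (k : Fin e) (v : Fin e → A) :
    ((1 : Matrix (Fin e) (Fin e) A).updateRow k v).det = v k := by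
  have h := Matrix.cramer_transpose_apply (1 : Matrix (Fin e) (Fin e) A) v k
  rw [Matrix.transpose_one, Matrix.cramer_one] at h
  exact h.symm

section Basis

variable {X : Scheme.{u}} {E : X.Modules} {V : X.Opens} {b : Fin d → Γ(E, V)}

/-- A basis of sections as a basis of a module. -/
theorem exists_moduleBasis (hb : Groth.L19.ProjBdl.IsBasisOn E V b) :
    ∃ B : Basis (Fin d) Γ(X, V) Γ(E, V), ∀ i, B i = b i := by
  let l : (Fin d → Γ(X, V)) →ₗ[Γ(X, V)] Γ(E, V) := Fintype.linearCombination Γ(X, V) b
  have hl : Function.Bijective l := by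
    have h := hb V le_rfl
    convert h using 1
    funext c
    refine (Fintype.linearCombination_apply ..).trans (Finset.sum_congr rfl fun i _ => ?_)
    rw [Groth.L18.Frame.rs_self]
  refine ⟨Basis.ofEquivFun (LinearEquiv.ofBijective l hl).symm, fun i => ?_⟩
  rw [Basis.coe_ofEquivFun]
  show l (Pi.single i 1) = _
  rw [Fintype.linearCombination_apply_single, one_smul]

end Basis

end Groth.L18.PlkAlg
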