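import Groth.Agent.L18.Grass.PlueckerFunctor
import Groth.Agent.L16.ProjSpace.StdSmooth
import Mathlib.AlgebraicGeometry.AffineSpace
import Mathlib.AlgebraicGeometry.Morphisms.Smooth

/-!
# The charts of a Grassmannian are affine spaces
-/

set_option autoImplicit false

universe u

open AlgebraicGeometry CategoryTheory CategoryTheory.Limits Module
open Groth.L13.LG

namespace Groth.L18.Pluecker

variable {R : Type u} [CommRing R] {d r : ℕ} (f g : Fin 0 → ((Fin d → R) →ₗ[R] (Fin d → R))) (J : Fin r ↪ Fin d)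

/-- the free coordinates of a chart -/
abbrev Free : Type := Fin r × {c : Fin d // c ∉ Set.range J}

/-- the coordinates of the chart as polynomials in the free ones -/
noncomputable def coordPoly (v : WVar d 0 r) : MvPolynomial (Free J) R :=
  haveI := Classical.propDecidable
  if h : v.2.2 ∈ Set.range J then (1 : Matrix (Fin r) (Fin r) (MvPolynomial (Free J) R)) v.2.1 h.choose
  else MvPolynomial.X (v.2.1, ⟨v.2.2, h⟩)

theorem coordPoly_J (i : Fin 1) (l m : Fin r) :
    coordPoly (R := R) J (i, l, J m) = (1 : Matrix (Fin r) (Fin r) (MvPolynomial (Free J) R)) l m := by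
  have hm : J m ∈ Set.range J := ⟨m, rfl⟩
  simp only [coordPoly, dif_pos hm]
  rw [show hm.choose = m from J.injective hm.choose_spec]
  simp [Matrix.one_apply]

/-- chart to affine space -/
noncomputable def toPoly : WRing f g (fun _ => J) →ₐ[R] MvPolynomial (Free J) R :=
  Ideal.Quotient.liftₐ _ (MvPolynomial.aeval (coordPoly J)) fun x hx => by
    refine (RingHom.mem_ker (f := (MvPolynomial.aeval (coordPoly (R := R) J)).toRingHom)).1 ?_
    refine Ideal.span_le.2 ?_ hx
    rintro _ ⟨e, rfl⟩
    show MvPolynomial.aeval (coordPoly J) (weqn f g (fun _ => J) MvPolynomial.X e) = 0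
    rw [map_weqn]
    rcases e with ⟨i, l, m⟩ | ⟨i, -⟩ | ⟨i, -⟩
    · simp only [weqn, wrow, Function.comp_apply, MvPolynomial.aeval_X, coordPoly_J, sub_self]
    · exact i.elim0
    · exact i.elim0

/-- affine space to chart -/
noncomputable def fromPoly : MvPolynomial (Free J) R →ₐ[R] WRing f g (fun _ => J) :=
  MvPolynomial.aeval fun v => wuniv f g (fun _ => J) (0, v.1, v.2.1)

theorem fromPoly_coordPoly (v : WVar d 0 r) : fromPoly f g J (coordPoly J v) = wuniv f g (fun _ => J) v := by
  obtain ⟨i, l, c⟩ := v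
  obtain rfl : i = 0 := Fin.ext (by have := i.2; simp)
  by_cases h : c ∈ Set.range J
  · obtain ⟨m, rfl⟩ := h
    rw [coordPoly_J]
    refine Eq.trans ?_ (wrow_proj (weqn_wuniv (f := f) (g := g) (J := fun _ => J)) (le_refl 0) l m).symm
    rw [Matrix.one_apply, Matrix.one_apply]
    split_ifs <;> simp
  · rw [coordPoly, dif_neg h]
    exact MvPolynomial.aeval_X _ _

/-- the chart is affine space -/
noncomputable def wringEquiv : WRing f g (fun _ => J) ≃ₐ[R] MvPolynomial (Free J) R :=
  AlgEquiv.ofAlgHom (toPoly f g J) (fromPoly f g J)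
    (MvPolynomial.algHom_ext fun v => by
      show toPoly f g J (fromPoly f g J (MvPolynomial.X v)) = MvPolynomial.X v
      rw [fromPoly, MvPolynomial.aeval_X]
      show MvPolynomial.aeval (coordPoly J) (MvPolynomial.X ((0 : Fin 1), v.1, v.2.1)) = _
      rw [MvPolynomial.aeval_X, coordPoly, dif_neg v.2.2])
    (Ideal.Quotient.algHom_ext _ (MvPolynomial.algHom_ext fun v => by
      show fromPoly f g J (MvPolynomial.aeval (coordPoly J) (MvPolynomial.X v)) = wuniv f g (fun _ => J) v
      rw [MvPolynomial.aeval_X, fromPoly_coordPoly]))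

theorem card_free : Nat.card (Free J) = r * (d - r) := by
  classical
  rw [Nat.card_eq_fintype_card, Fintype.card_prod, Fintype.card_fin]
  congr 1
  show Fintype.card {c : Fin d // ¬ c ∈ Set.range J} = d - r
  rw [Fintype.card_subtype_compl, Fintype.card_fin]
  congr 1
  exact (Fintype.card_congr (Equiv.ofInjective J J.injective).symm).trans (Fintype.card_fin r)

/-- the chart is isomorphic to affine space over the base -/
theorem exists_specIso : ∃ e : Spec (CommRingCat.of (WRing f g fun _ => J)) ≅
      𝔸(ULift.{u} (Fin (r * (d - r))); Spec (CommRingCat.of R)),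
    e.hom ≫ (𝔸(ULift.{u} (Fin (r * (d - r))); Spec (CommRingCat.of R)) ↘ Spec (CommRingCat.of R)) =
      Spec.map (CommRingCat.ofHom (algebraMap R (WRing f g fun _ => J))) := by
  let e1 : MvPolynomial (ULift.{u} (Fin (r * (d - r)))) R ≃ₐ[R] WRing f g (fun _ => J) :=
    (MvPolynomial.renameEquiv R (Equiv.ulift.trans (Finite.equivFinOfCardEq (card_free J)).symm)).trans
      (wringEquiv f g J).symm
  let e2 : Spec (CommRingCat.of (WRing f g fun _ => J)) ≅
      Spec (CommRingCat.of (MvPolynomial (ULift.{u} (Fin (r * (d - r)))) R)) :=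
    Scheme.Spec.mapIso e1.toRingEquiv.toCommRingCatIso.op
  refine ⟨e2 ≪≫ (AffineSpace.SpecIso _ (CommRingCat.of R)).symm, ?_⟩
  rw [Iso.trans_hom, Iso.symm_hom, Category.assoc, AffineSpace.SpecIso_inv_over]
  show Spec.map (CommRingCat.ofHom e1.toRingHom) ≫ _ = _
  rw [← Spec.map_comp, ← CommRingCat.ofHom_comp]
  congr 2
  exact e1.toAlgHom.comp_algebraMap

variable {f g} (D : Rep r f g)

theorem smoothOfRelativeDimension (hrd : r ≤ d) : SmoothOfRelativeDimension (r * (d - r)) D.X.hom := by
  obtain ⟨ks, hks⟩ := exists_covers (d := d) (r := r) hrd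
  refine IsZariskiLocalAtSource.of_openCover (P := @SmoothOfRelativeDimension (r * (d - r)))
    (cover ks D hks hrd).openCover fun k => ?_
  show SmoothOfRelativeDimension (r * (d - r)) (chartMap ks D k ≫ D.X.hom)
  rw [chartMap_hom, HasRingHomProperty.Spec_iff (P := @SmoothOfRelativeDimension (r * (d - r)))]
  refine RingHom.locally_of RingHom.isStandardSmoothOfRelativeDimension_respectsIso _ ?_
  have h := Groth.L16.isStandardSmoothOfRelativeDimension_mvPolynomial R (Free (ks k))
  rw [card_free] at h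
  show RingHom.IsStandardSmoothOfRelativeDimension (r * (d - r)) (algebraMap R (WRing f g fun _ => ks k))
  rw [RingHom.isStandardSmoothOfRelativeDimension_algebraMap]
  haveI := h
  exact Algebra.IsStandardSmoothOfRelativeDimension.of_algEquiv _ (wringEquiv f g (ks k)).symm

theorem exists_affine_cover (hrd : r ≤ d) :
    ∃ (ι : Type) (_ : Finite ι) (U : ι → D.X.left.Opens), ⨆ i, U i = ⊤ ∧
      ∀ i, Nonempty (Over.mk ((U i).ι ≫ D.X.hom) ≅
        Over.mk (𝔸(ULift.{u} (Fin (r * (d - r))); Spec (CommRingCat.of R)) ↘ Spec (CommRingCat.of R))) := by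
  obtain ⟨ks, hks⟩ := exists_covers (d := d) (r := r) hrd
  refine ⟨_, inferInstance, fun k => (chartMap ks D k).opensRange, eq_top_iff.2 fun p _ => ?_, fun k => ?_⟩
  · obtain ⟨k, hk⟩ := exists_mem_range ks D hks hrd p
    exact TopologicalSpace.Opens.mem_iSup.2 ⟨k, hk⟩
  · obtain ⟨e, he⟩ := exists_specIso f g (ks k)
    refine ⟨Over.isoMk ((chartMap ks D k).isoOpensRange.symm ≪≫ e) ?_⟩
    simp only [Over.mk_hom, Iso.trans_hom, Iso.symm_hom, Category.assoc]
    rw [he, ← chartMap_hom ks D k, Scheme.Hom.isoOpensRange_inv_comp_assoc]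

end Groth.L18.Pluecker
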