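import Groth.Agent.L18.Grass.Comap

/-!
# Grassmannians of a quotient module sit as closed subschemes
-/

set_option autoImplicit false

universe u

open AlgebraicGeometry CategoryTheory CategoryTheory.Limits Module TensorProduct
open Groth.L18.GrassAff Groth.L18.GrassComap

namespace Groth.L18.GrassClosed

variable {R : Type u} [CommRing R] {M₁ M₂ : Type u} [AddCommGroup M₁] [Module R M₁] [AddCommGroup M₂] [Module R M₂]
  {v : M₁ →ₗ[R] M₂} (hv : Function.Surjective v) {k : ℕ} {X₁ X₂ : Over (Spec (CommRingCat.of R))}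
  (e₁ : ∀ A : CommAlgCat.{u} R, (pt A ⟶ X₁) ≃ (Module.Grassmannian.functor (R := R) (M := M₁) k).obj A)
  (he₁ : ∀ (A B : CommAlgCat.{u} R) (φ : A ⟶ B) (g : pt A ⟶ X₁) (g' : pt B ⟶ X₁),
      g'.left = Spec.map (CommRingCat.ofHom φ.hom.toRingHom) ≫ g.left →
        e₁ B g' = (Module.Grassmannian.functor (R := R) (M := M₁) k).map φ (e₁ A g))
  (e₂ : ∀ A : CommAlgCat.{u} R, (pt A ⟶ X₂) ≃ (Module.Grassmannian.functor (R := R) (M := M₂) k).obj A)
  (he₂ : ∀ (A B : CommAlgCat.{u} R) (φ : A ⟶ B) (g : pt A ⟶ X₂) (g' : pt B ⟶ X₂),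
      g'.left = Spec.map (CommRingCat.ofHom φ.hom.toRingHom) ≫ g.left →
        e₂ B g' = (Module.Grassmannian.functor (R := R) (M := M₂) k).map φ (e₂ A g))

/-- restriction of a point along an algebra map -/
noncomputable def res {X : Over (Spec (CommRingCat.of R))} {A B : CommAlgCat.{u} R} (φ : A ⟶ B) (x : pt A ⟶ X) :
    pt B ⟶ X :=
  Over.homMk (Spec.map (CommRingCat.ofHom φ.hom.toRingHom) ≫ x.left) (by
    have := Over.w x
    simp only [Over.mk_hom] at this ⊢
    rw [Category.assoc, this, ← Spec.map_comp, ← CommRingCat.ofHom_comp]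
    exact congrArg (fun h => Spec.map (CommRingCat.ofHom h)) φ.hom.comp_algebraMap)

include hv he₁ he₂ in
theorem exists_comap_hom : ∃ c : X₂ ⟶ X₁, ∀ (A : CommAlgCat.{u} R) (g : pt A ⟶ X₂),
    (e₁ A (g ≫ c)).toSubmodule = (e₂ A g).toSubmodule.comap (v.baseChange A) := by
  obtain ⟨c, hc⟩ := GrassAff.exists_hom (X := X₂) (Y := X₁)
    (fun A g => (e₁ A).symm (comapPt hv A (e₂ A g))) (fun A B φ x x' h => by
      have h1 : (e₁ B).symm (comapPt hv B (e₂ B x')) = res φ ((e₁ A).symm (comapPt hv A (e₂ A x))) := by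
        rw [Equiv.symm_apply_eq, he₁ A B φ _ _ rfl, Equiv.apply_symm_apply, he₂ A B φ x x' h]
        exact (comapPt_map hv φ.hom (e₂ A x)).symm
      exact congrArg (fun t => t.left) h1)
  refine ⟨c, fun A g => ?_⟩
  rw [hc, Equiv.apply_symm_apply]
  rfl

include hv he₁ he₂ in
theorem isClosedImmersion_chart (c : X₂ ⟶ X₁)
    (hc : ∀ (A : CommAlgCat.{u} R) (g : pt A ⟶ X₂), e₁ A (g ≫ c) = comapPt hv A (e₂ A g))
    (A : CommAlgCat.{u} R) (x : pt A ⟶ X₁) (q : Spec (CommRingCat.of A) ⟶ X₁.left) (hq : q = x.left) :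
    IsClosedImmersion (pullback.snd c.left q) := by
  classical
  let N₁ := e₁ A x
  let I := locus (R := R) v N₁
  let AI : CommAlgCat.{u} R := CommAlgCat.of R ((A : Type u) ⧸ I)
  let mk : A ⟶ AI := CommAlgCat.ofHom (Ideal.Quotient.mkₐ R I)
  let π : Spec (CommRingCat.of AI) ⟶ Spec (CommRingCat.of A) := Spec.map (CommRingCat.ofHom mk.hom.toRingHom)
  haveI : IsClosedImmersion π := IsClosedImmersion.spec_of_surjective _ Ideal.Quotient.mk_surjective
  have hI : I ≤ RingHom.ker mk.hom.toRingHom := fun a ha => Ideal.Quotient.eq_zero_iff_mem.2 ha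
  obtain ⟨N₂, hN₂⟩ := (exists_comapPt_iff hv _).1 ((le_ker_iff mk.hom N₁).1 hI)
  let z : pt AI ⟶ X₂ := (e₂ AI).symm N₂
  have hz : z.left ≫ c.left = π ≫ q := by
    have h1 : z ≫ c = res mk x := (e₁ AI).injective (by
      rw [hc, Equiv.apply_symm_apply, hN₂, he₁ A AI mk x (res mk x) rfl]
      rfl)
    rw [hq]
    exact congrArg (fun t => t.left) h1
  have hb : ∀ {B : CommRingCat.{u}} (b : Spec B ⟶ pullback c.left q),
      ∃ ψ : CommRingCat.of AI ⟶ B, Spec.map ψ ≫ π = b ≫ pullback.snd c.left q ∧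
        Spec.map ψ ≫ z.left = b ≫ pullback.fst c.left q := by
    intro B b
    obtain ⟨_, y, hy⟩ := exists_alg (X := X₂) (b ≫ pullback.fst c.left q)
    have hyw : y.left ≫ X₂.hom = Spec.map (CommRingCat.ofHom (algebraMap R _)) := Over.w y
    have hxw : x.left ≫ X₁.hom = Spec.map (CommRingCat.ofHom (algebraMap R A)) := Over.w x
    obtain ⟨φ, hφ⟩ := exists_algHom (A := A) (B := CommAlgCat.of R B) (b ≫ pullback.snd c.left q) (by
      rw [← hxw, ← hyw, hy, ← hq, ← Over.w c]
      simp only [Category.assoc, pullback.condition_assoc])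
    have h1 : y ≫ c = res φ x := Over.OverMorphism.ext (by
      show y.left ≫ c.left = Spec.map (CommRingCat.ofHom φ.hom.toRingHom) ≫ x.left
      rw [hy, hφ, ← hq]
      simp only [Category.assoc, pullback.condition])
    have h2 : comapPt hv _ (e₂ _ y) = Module.Grassmannian.map φ.hom N₁ := by
      rw [← hc, h1, he₁ A _ φ x (res φ x) rfl]
      rfl
    have h3 : I ≤ RingHom.ker φ.hom.toRingHom :=
      (le_ker_iff φ.hom N₁).2 ((exists_comapPt_iff hv _).2 ⟨_, h2⟩)
    let ψa : AI ⟶ CommAlgCat.of R B := CommAlgCat.ofHom (Ideal.Quotient.liftₐ I φ.hom h3)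
    have hcomp : mk ≫ ψa = φ := CommAlgCat.hom_ext (AlgHom.ext fun a => rfl)
    refine ⟨CommRingCat.ofHom ψa.hom.toRingHom, ?_, ?_⟩
    · rw [← hφ, ← hcomp, ← Spec.map_comp]
      rfl
    · rw [← hy]
      refine congrArg (fun t => t.left) (?_ : res ψa z = y)
      apply (e₂ _).injective
      apply comapPt_injective hv
      rw [h2, he₂ AI _ ψa z (res ψa z) rfl]
      refine (comapPt_map hv ψa.hom (e₂ AI z)).symm.trans ?_
      rw [Equiv.apply_symm_apply, hN₂, ← Module.Grassmannian.map_comp]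
      rfl
  choose ψ hψπ hψz using fun j => hb ((pullback c.left q).affineCover.f j)
  let l : pullback c.left q ⟶ Spec (CommRingCat.of AI) :=
    (pullback c.left q).affineCover.glueMorphisms (fun j => Spec.map (ψ j)) fun i j => by
      refine (cancel_mono π).1 ?_
      exact (Category.assoc _ _ _).trans (((congrArg (_ ≫ ·) (hψπ i)).trans ((Category.assoc _ _ _).symm.trans
        ((congrArg (· ≫ pullback.snd c.left q) pullback.condition).trans ((Category.assoc _ _ _).trans
          (congrArg (_ ≫ ·) (hψπ j)).symm)))).trans (Category.assoc _ _ _).symm)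
  have hlπ : l ≫ π = pullback.snd c.left q := Scheme.Cover.hom_ext (pullback c.left q).affineCover _ _ fun j => by
    exact (Category.assoc _ _ _).symm.trans ((congrArg (· ≫ π) (Scheme.Cover.ι_glueMorphisms _ _ _ j)).trans (hψπ j))
  have hlz : l ≫ z.left = pullback.fst c.left q := Scheme.Cover.hom_ext (pullback c.left q).affineCover _ _ fun j => by
    exact (Category.assoc _ _ _).symm.trans ((congrArg (· ≫ z.left) (Scheme.Cover.ι_glueMorphisms _ _ _ j)).trans (hψz j))
  let s : Spec (CommRingCat.of AI) ⟶ pullback c.left q := pullback.lift z.left π hz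
  haveI : IsIso l := ⟨s, pullback.hom_ext (by rw [Category.assoc, pullback.lift_fst, hlz, Category.id_comp])
      (by rw [Category.assoc, pullback.lift_snd, hlπ, Category.id_comp]),
    by rw [← cancel_mono π, Category.assoc, hlπ, pullback.lift_snd, Category.id_comp]⟩
  rw [← hlπ]
  infer_instance

include hv he₁ he₂ in
theorem isClosedImmersion (c : X₂ ⟶ X₁)
    (hc : ∀ (A : CommAlgCat.{u} R) (g : pt A ⟶ X₂),
      (e₁ A (g ≫ c)).toSubmodule = (e₂ A g).toSubmodule.comap (v.baseChange A)) :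
    IsClosedImmersion c.left := by
  refine IsZariskiLocalAtTarget.of_openCover (P := @IsClosedImmersion) X₁.left.affineCover fun i => ?_
  obtain ⟨_, x, hx⟩ := exists_alg (X := X₁) (X₁.left.affineCover.f i)
  exact isClosedImmersion_chart hv e₁ he₁ e₂ he₂ c (fun A g => Module.Grassmannian.ext (hc A g)) _ x _ hx.symm

end Groth.L18.GrassClosed
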