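import Groth.Agent.L13.LG.Minor
import Mathlib.RingTheory.TensorProduct.IsBaseChangePi
import Mathlib.Algebra.Module.LocalizedModule.Submodule
import Mathlib.RingTheory.LocalProperties.FinitePresentation
import Mathlib.RingTheory.Flat.Localization
import Mathlib.RingTheory.Flat.EquationalCriterion
import Mathlib.RingTheory.Localization.Away.Basic

/-!
# Subbundles of free modules, locally on the spectrum
-/

set_option autoImplicit false

universe u

open Module Groth.L13.LG

namespace Groth.L18.LocalSub

variable {A : Type u} [CommRing A] {d r : ℕ}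

/-- coordinatewise localisation -/
noncomputable def vlin (B : Type u) [CommRing B] [Algebra A B] : (Fin d → A) →ₗ[A] (Fin d → B) :=
  LinearMap.pi fun c => Algebra.linearMap A B ∘ₗ LinearMap.proj c

theorem vlin_apply (B : Type u) [CommRing B] [Algebra A B] (v : Fin d → A) :
    vlin B v = vmap (algebraMap A B) v := rfl

variable (S : Submonoid A) (B : Type u) [CommRing B] [Algebra A B] [IsLocalization S B]

include S in
theorem isLocalized_vlin : IsLocalizedModule S (vlin (d := d) (A := A) B) := by
  haveI : ∀ _ : Fin d, IsLocalizedModule S (Algebra.linearMap A B) := fun _ => inferInstance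
  exact IsLocalizedModule.pi S (ι := Fin d) (M := fun _ => A) (M' := fun _ => B) fun _ => Algebra.linearMap A B

theorem localized'_eq (N : Submodule A (Fin d → A)) :
    haveI := isLocalized_vlin (d := d) S B
    N.localized' B S (vlin B) = mapV (algebraMap A B) N := by
  haveI := isLocalized_vlin (d := d) S B
  rw [Submodule.localized'_eq_span]
  rfl

theorem mem_mapV_iff (N : Submodule A (Fin d → A)) (v : Fin d → A) :
    vmap (algebraMap A B) v ∈ mapV (algebraMap A B) N ↔ ∃ s ∈ S, s • v ∈ N := by
  haveI := isLocalized_vlin (d := d) S B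
  constructor
  · intro h
    rw [← localized'_eq S B N, Submodule.mem_localized'] at h
    obtain ⟨m, hm, s, hs⟩ := h
    have h1 : vlin B m = s • vlin (A := A) B v := IsLocalizedModule.mk'_eq_iff.1 (hs.trans (vlin_apply B v).symm)
    rw [Submonoid.smul_def, ← map_smul, IsLocalizedModule.eq_iff_exists S (vlin B)] at h1
    obtain ⟨c, hc⟩ := h1
    refine ⟨c * s, S.mul_mem c.2 s.2, ?_⟩
    rw [mul_smul]
    simp only [Submonoid.smul_def] at hc ⊢
    rw [← hc]
    exact N.smul_mem _ hm
  · rintro ⟨s, hs, h⟩
    have h1 := vmap_mem (algebraMap A B) h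
    rw [vmap_smul] at h1
    obtain ⟨u, hu⟩ := IsLocalization.map_units B ⟨s, hs⟩
    have h2 := (mapV (algebraMap A B) N).smul_mem (↑u⁻¹ : B) h1
    rwa [smul_smul, show algebraMap A B s = (u : B) from hu.symm, Units.inv_mul, one_smul] at h2

include S in
theorem exists_vmap (w : Fin d → B) : ∃ (v : Fin d → A) (s : S), algebraMap A B s • w = vmap (algebraMap A B) v := by
  haveI := isLocalized_vlin (d := d) S B
  obtain ⟨⟨v, s⟩, h⟩ := IsLocalizedModule.surj S (vlin (A := A) B) w
  refine ⟨v, s, ?_⟩
  rw [← vlin_apply, ← h, Submonoid.smul_def, algebraMap_smul]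

omit S B

/-- equality of submodules is local -/
theorem eq_of_local {N N' : Submodule A (Fin d → A)}
    (h : ∀ p : PrimeSpectrum A, ∃ h ∉ p.asIdeal,
      mapV (algebraMap A (Localization.Away h)) N = mapV (algebraMap A (Localization.Away h)) N') : N = N' := by
  suffices H : ∀ {N N' : Submodule A (Fin d → A)}, (∀ p : PrimeSpectrum A, ∃ h ∉ p.asIdeal,
      mapV (algebraMap A (Localization.Away h)) N ≤ mapV (algebraMap A (Localization.Away h)) N') → N ≤ N' from
    le_antisymm (H fun p => (h p).elim fun a ha => ⟨a, ha.1, ha.2.le⟩)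
      (H fun p => (h p).elim fun a ha => ⟨a, ha.1, ha.2.ge⟩)
  intro N N' h v hv
  let I : Ideal A := N'.comap (LinearMap.toSpanSingleton A (Fin d → A) v)
  by_contra hc
  have hI : I ≠ ⊤ := fun h1 => hc (by
    have : (1 : A) • v ∈ N' := (h1.ge (Submodule.mem_top (x := (1 : A))) : _)
    rwa [one_smul] at this)
  obtain ⟨M, hM, hIM⟩ := Ideal.exists_le_maximal I hI
  obtain ⟨a, ha, hle⟩ := h ⟨M, hM.isPrime⟩
  obtain ⟨s, ⟨n, rfl⟩, hs⟩ := (mem_mapV_iff (Submonoid.powers a) (Localization.Away a) N' v).1
    (hle (vmap_mem _ hv))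
  exact ha (hM.isPrime.mem_of_pow_mem n (hIM hs))

/-- a submodule which is locally a bundle is a bundle -/
theorem isBundle_of_local {N : Submodule A (Fin d → A)} (s : Set A) (hs : Ideal.span s = ⊤)
    (h : ∀ g : s, IsBundle r (mapV (algebraMap A (Localization.Away g.1)) N)) : IsBundle r N := by
  classical
  haveI : ∀ g : s, IsLocalizedModule (Submonoid.powers g.1) (vlin (d := d) (A := A) (Localization.Away g.1)) :=
    fun g => isLocalized_vlin _ _
  let f : ∀ g : s, ((Fin d → A) ⧸ N) →ₗ[A]
      ((Fin d → Localization.Away g.1) ⧸ N.localized' (Localization.Away g.1) (Submonoid.powers g.1) (vlin (Localization.Away g.1))) :=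
    fun g => N.toLocalizedQuotient' (Localization.Away g.1) (Submonoid.powers g.1) (vlin (Localization.Away g.1))
  haveI hf : ∀ g : s, IsLocalizedModule (Submonoid.powers g.1) (f g) := fun g =>
    IsLocalizedModule.toLocalizedQuotient' (Localization.Away g.1) (Submonoid.powers g.1) (vlin (Localization.Away g.1)) N
  have hb : ∀ g : s, IsBundle r (N.localized' (Localization.Away g.1) (Submonoid.powers g.1) (vlin (Localization.Away g.1))) :=
    fun g => by rw [localized'_eq]; exact h g
  have hproj := fun g => (hb g).1
  have hfp : ∀ g : s, Module.FinitePresentation (Localization.Away g.1)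
      ((Fin d → Localization.Away g.1) ⧸ N.localized' (Localization.Away g.1) (Submonoid.powers g.1) (vlin (Localization.Away g.1))) :=
    fun g => by haveI := hproj g; exact Module.finitePresentation_of_projective _ _
  haveI : Module.FinitePresentation A ((Fin d → A) ⧸ N) :=
    Module.FinitePresentation.of_localizationSpan' (Rₚ := fun g : s => Localization.Away g.1) s hs f hfp
  haveI : Module.Flat A ((Fin d → A) ⧸ N) := by
    refine Module.flat_of_isLocalized_span (R := A) (S := A) (M := (Fin d → A) ⧸ N) s hs _ f fun g => ?_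
    haveI := hproj g
    haveI : Module.Flat A (Localization.Away g.1) := IsLocalization.flat _ (Submonoid.powers g.1)
    exact Module.Flat.trans A (Localization.Away g.1) _
  haveI : Module.Projective A ((Fin d → A) ⧸ N) := Module.Flat.projective_of_finitePresentation
  refine ⟨inferInstance, fun p => ?_⟩
  have hex : ∃ g : s, g.1 ∉ p.asIdeal := by
    by_contra hc
    simp only [not_exists, not_not] at hc
    exact p.isPrime.ne_top (top_le_iff.1 (hs ▸ Ideal.span_le.2 fun a ha => hc ⟨a, ha⟩))
  obtain ⟨g, hg⟩ := hex
  obtain ⟨q, hq⟩ : p ∈ Set.range (PrimeSpectrum.comap (algebraMap A (Localization.Away g.1))) := by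
    rw [PrimeSpectrum.localization_away_comap_range (Localization.Away g.1) g.1]
    exact hg
  have e := (IsLocalizedModule.isBaseChange (Submonoid.powers g.1) (Localization.Away g.1) (f g)).equiv
  rw [← hq, ← rankAtStalk_baseChange, congrFun (rankAtStalk_eq_of_equiv e) q]
  exact (hb g).2 q

end Groth.L18.LocalSub
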