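import Groth.Agent.L18.Grass.Pluecker
import Groth.Agent.L16.ProjSpace.BaseChange
import Mathlib.LinearAlgebra.FiniteDimensional.Basic

/-!
# The Plücker embedding for schemes representing Mathlib's Grassmannian functor
-/

set_option autoImplicit false

universe u

open AlgebraicGeometry CategoryTheory CategoryTheory.Limits Module TensorProduct

namespace Groth.L18.Pluecker

/-- the representing data in the language of linked Grassmannians of length zero -/
theorem exists_rep {R : Type u} [CommRing R] {d r k : ℕ} (hk : k = d - r) (X : Over (Spec (CommRingCat.of R)))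
    (e : ∀ A : CommAlgCat.{u} R,
      (Over.mk (Spec.map (CommRingCat.ofHom (algebraMap R A))) ⟶ X) ≃
        (Module.Grassmannian.functor (R := R) (M := Fin d → R) k).obj A)
    (he : ∀ (A B : CommAlgCat.{u} R) (φ : A ⟶ B)
      (g : Over.mk (Spec.map (CommRingCat.ofHom (algebraMap R A))) ⟶ X)
      (g' : Over.mk (Spec.map (CommRingCat.ofHom (algebraMap R B))) ⟶ X),
      g'.left = Spec.map (CommRingCat.ofHom φ.hom.toRingHom) ≫ g.left →
        e B g' = (Module.Grassmannian.functor (R := R) (M := Fin d → R) k).map φ (e A g)) :
    ∃ D : Groth.L13.LG.Rep (R := R) (d := d) (n := 0) r (fun i => i.elim0) (fun i => i.elim0), D.X = X := by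
  subst hk
  let e' : ∀ A : CommAlgCat.{u} R, (Over.mk (Groth.L13.LG.str A) ⟶ X) ≃
      W4c1limliniiii.LGPoints R d r 0 (fun i => i.elim0) (fun i => i.elim0) A := fun A =>
    { toFun := fun x => ⟨fun _ => e A x, fun i => i.elim0⟩
      invFun := fun V => (e A).symm (V.1 0)
      left_inv := fun x => (e A).symm_apply_apply x
      right_inv := fun V => Subtype.ext (funext fun i => by
        obtain rfl : i = 0 := Fin.ext (by have := i.2; simp)
        exact (e A).apply_symm_apply (V.1 0)) }
  exact ⟨⟨X, e', fun A B φ x x' h _ => he A B φ x x' h⟩, rfl⟩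

/-- The Plücker embedding into projective space over the base. -/
theorem exists_closedImmersion_over {R : Type u} [CommRing R] {d q : ℕ} (hqd : q ≤ d)
    (X : Over (Spec (CommRingCat.of R)))
    (e : ∀ A : CommAlgCat.{u} R,
      (Over.mk (Spec.map (CommRingCat.ofHom (algebraMap R A))) ⟶ X) ≃
        (Module.Grassmannian.functor (R := R) (M := Fin d → R) q).obj A)
    (he : ∀ (A B : CommAlgCat.{u} R) (φ : A ⟶ B)
      (g : Over.mk (Spec.map (CommRingCat.ofHom (algebraMap R A))) ⟶ X)
      (g' : Over.mk (Spec.map (CommRingCat.ofHom (algebraMap R B))) ⟶ X),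
      g'.left = Spec.map (CommRingCat.ofHom φ.hom.toRingHom) ≫ g.left →
        e B g' = (Module.Grassmannian.functor (R := R) (M := Fin d → R) q).map φ (e A g)) :
    ∃ c : X.left ⟶ CohB1.ProjSpaceOver (d.choose q - 1) (Spec (CommRingCat.of R)),
      IsClosedImmersion c ∧
        c ≫ CohB1.ProjSpaceOver.toBase (d.choose q - 1) (Spec (CommRingCat.of R)) = X.hom := by
  obtain ⟨D, hD⟩ := exists_rep (r := d - q) (by omega) X e he
  subst hD
  obtain ⟨ks, hks⟩ := exists_covers (d := d) (r := d - q) (by omega)
  obtain ⟨φ, h1, h2⟩ := exists_closedImmersion ks D hks (by omega)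
  rw [← Nat.choose_symm hqd]
  exact ⟨φ ≫ (Groth.L16.ProjSpace.isoOver _ R).hom, inferInstance,
    by rw [Category.assoc, Groth.L16.ProjSpace.isoOver_hom_toBase, h2]⟩

section congr

variable {R : Type u} [CommRing R] {M M' : Type u} [AddCommGroup M] [Module R M] [AddCommGroup M'] [Module R M']
  (v : M ≃ₗ[R] M') (k : ℕ)

/-- transport of points of the Grassmannian along an isomorphism of modules -/
noncomputable def grCongr (A : Type u) [CommRing A] [Algebra R A] :
    Module.Grassmannian A (A ⊗[R] M) k ≃ Module.Grassmannian A (A ⊗[R] M') k where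
  toFun N :=
    { toSubmodule := N.toSubmodule.map (v.baseChange R A).toLinearMap
      finite_quotient := Module.Finite.equiv (Submodule.Quotient.equiv N.toSubmodule _ (v.baseChange R A) rfl)
      projective_quotient := Module.Projective.of_equiv (Submodule.Quotient.equiv N.toSubmodule _ (v.baseChange R A) rfl)
      rankAtStalk_eq := fun p => by
        rw [← congrFun (rankAtStalk_eq_of_equiv (Submodule.Quotient.equiv N.toSubmodule _ (v.baseChange R A) rfl)) p]
        exact N.rankAtStalk_eq p }
  invFun N :=
    { toSubmodule := N.toSubmodule.map (v.baseChange R A).symm.toLinearMap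
      finite_quotient :=
        Module.Finite.equiv (Submodule.Quotient.equiv N.toSubmodule _ (v.baseChange R A).symm rfl)
      projective_quotient :=
        Module.Projective.of_equiv (Submodule.Quotient.equiv N.toSubmodule _ (v.baseChange R A).symm rfl)
      rankAtStalk_eq := fun p => by
        rw [← congrFun (rankAtStalk_eq_of_equiv (Submodule.Quotient.equiv N.toSubmodule _ (v.baseChange R A).symm rfl)) p]
        exact N.rankAtStalk_eq p }
  left_inv N := Module.Grassmannian.ext (by
    refine (Submodule.map_comp _ _ N.toSubmodule).symm.trans ?_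
    exact (congrArg (fun f => Submodule.map f N.toSubmodule)
      (LinearMap.ext fun x => (v.baseChange R A).symm_apply_apply x)).trans (Submodule.map_id _))
  right_inv N := Module.Grassmannian.ext (by
    refine (Submodule.map_comp _ _ N.toSubmodule).symm.trans ?_
    exact (congrArg (fun f => Submodule.map f N.toSubmodule)
      (LinearMap.ext fun x => (v.baseChange R A).apply_symm_apply x)).trans (Submodule.map_id _))

theorem grCongr_map {A B : Type u} [CommRing A] [Algebra R A] [CommRing B] [Algebra R B] (φ : A →ₐ[R] B)
    (N : Module.Grassmannian A (A ⊗[R] M) k) :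
    Module.Grassmannian.map φ (grCongr v k A N) = grCongr v k B (Module.Grassmannian.map φ N) := by
  apply Module.Grassmannian.ext
  show _ = Submodule.map _ (Module.Grassmannian.map φ N).toSubmodule
  rw [Module.Grassmannian.map_toSubmodule, Module.Grassmannian.map_toSubmodule]
  algebraize [φ.toRingHom]
  haveI : IsScalarTower R A B := IsScalarTower.of_algebraMap_eq' φ.comp_algebraMap.symm
  set q := Submodule.Quotient.equiv N.toSubmodule (grCongr v k A N).toSubmodule (v.baseChange R A) rfl
  have key : Module.Grassmannian.baseChangeMkQ B (grCongr v k A N).toSubmodule ∘ₗ (v.baseChange R B).toLinearMap =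
      (q.baseChange A B).toLinearMap ∘ₗ Module.Grassmannian.baseChangeMkQ B N.toSubmodule := by
    refine LinearMap.ext fun z => ?_
    induction z with
    | zero => simp
    | tmul b m =>
      simp [q, Module.Grassmannian.baseChangeMkQ]
    | add x y hx hy => simp only [map_add, hx, hy]
  have h := congrArg LinearMap.ker key
  rw [LinearEquiv.ker_comp, LinearMap.ker_comp] at h
  rw [← h]
  exact (Submodule.map_comap_eq_of_surjective (v.baseChange R B).surjective _).symm

end congr

end Groth.L18.Pluecker
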