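import Groth.Agent.L18.Grass.Model
import Groth.Agent.L18.Grass.LocalSub
import Groth.Agent.L18.Grass.PlueckerFunctor

/-!
# The model represents the Grassmannian functor
-/

set_option autoImplicit false

universe u

open AlgebraicGeometry CategoryTheory CategoryTheory.Limits Module
open Groth.L13.LG Groth.L18.Pluecker Groth.L18.GrassModel

namespace Groth.L18.GrassPoints

variable {R : Type u} [CommRing R] {d r N : ℕ} {ks : Fin (N + 1) → (Fin r ↪ Fin d)}

/-- the model over the base -/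
noncomputable def toSp : X R ks ⟶ Spec (CommRingCat.of R) := GrassModel.ι R ks ≫ CohB1.ProjSpace.toSpec N R

theorem m_toSp (k : Fin (N + 1)) :
    m R ks k ≫ toSp = Spec.map (CommRingCat.ofHom (algebraMap R (W R ks k))) := by
  rw [toSp, ← Category.assoc, m_ι, plk_toSpec]

/-- a ring map between algebras as a map of spectra -/
noncomputable abbrev sp {A B : Type u} [CommRing A] [CommRing B] (φ : A →+* B) :
    Spec (CommRingCat.of B) ⟶ Spec (CommRingCat.of A) := Spec.map (CommRingCat.ofHom φ)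

theorem sp_comp {A B C : Type u} [CommRing A] [CommRing B] [CommRing C] (φ : A →+* B) (ψ : B →+* C) :
    sp ψ ≫ sp φ = sp (ψ.comp φ) := (Spec.map_comp _ _).symm

theorem sp_sp {A B C : Type u} [CommRing A] [CommRing B] [CommRing C] (φ : A →+* B) (ψ : B →+* C)
    {Z : Scheme.{u}} (x : Spec (CommRingCat.of A) ⟶ Z) : sp ψ ≫ sp φ ≫ x = sp (ψ.comp φ) ≫ x := by
  rw [← Category.assoc, sp_comp]

/-- the localisation map -/
noncomputable abbrev loc {A : Type u} [CommRing A] (h : A) : A →+* Localization.Away h := algebraMap A _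

theorem m_agree (hks : Covers ks) {k l : Fin (N + 1)} {C : Type u} [CommRing C] [Algebra R C]
    (a : W R ks k →ₐ[R] C) (b : W R ks l →ₐ[R] C) :
    sp a.toRingHom ≫ m R ks k = sp b.toRingHom ≫ m R ks l ↔ rows R ks a.toRingHom = rows R ks b.toRingHom := by
  rw [← cancel_mono (GrassModel.ι R ks), Category.assoc, Category.assoc, m_ι, m_ι]
  exact ⟨rows_eq_of_plk_eq R ks hks (CommRingCat.ofHom a.toRingHom) (CommRingCat.ofHom b.toRingHom),
    plk_agree R ks (CommRingCat.ofHom a.toRingHom) (CommRingCat.ofHom b.toRingHom)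
      (a.comp_algebraMap.trans b.comp_algebraMap.symm)⟩

theorem hom_eq_of_local {A : Type u} [CommRing A] {Z : Scheme.{u}} {x y : Spec (CommRingCat.of A) ⟶ Z}
    (h : ∀ p : PrimeSpectrum A, ∃ a ∉ p.asIdeal, sp (loc a) ≫ x = sp (loc a) ≫ y) : x = y := by
  choose a ha e using h
  have hs : Ideal.span (Set.range a) = (⊤ : Ideal A) := by
    by_contra hc
    obtain ⟨M, hM, hle⟩ := Ideal.exists_le_maximal _ hc
    exact ha ⟨M, hM.isPrime⟩ (hle (Ideal.subset_span ⟨_, rfl⟩))
  exact Scheme.Cover.hom_ext (Scheme.affineOpenCoverOfSpanRangeEqTop (R := CommRingCat.of A) a hs).openCover _ _ e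

variable {A : Type u} [CommRing A] [Algebra R A]

theorem isBundle_map {B : Type u} [CommRing B] [Algebra R B] (φ : A →ₐ[R] B) {V : Submodule A (Fin d → A)}
    (h : IsBundle r V) : IsBundle r (mapV φ.toRingHom V) := by
  have hpt : IsPt (f0 R) (f0 R) r A (fun _ => V) :=
    ⟨fun _ _ => h, fun i hi => absurd hi (by omega), fun i hi => absurd hi (by omega)⟩
  exact (IsPt.map hpt φ).bundle 0 le_rfl

/-- points and bundles correspond -/
def Rel (x : Spec (CommRingCat.of A) ⟶ X R ks) (V : Submodule A (Fin d → A)) : Prop :=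
  ∀ (k : Fin (N + 1)) (C : Type u) [CommRing C] [Algebra R C] (φ : A →ₐ[R] C) (b : W R ks k →ₐ[R] C),
    sp φ.toRingHom ≫ x = sp b.toRingHom ≫ m R ks k ↔ mapV φ.toRingHom V = rows R ks b.toRingHom

theorem exists_piece_of_hom (hks : Covers ks) (x : Spec (CommRingCat.of A) ⟶ X R ks)
    (hx : x ≫ toSp = Spec.map (CommRingCat.ofHom (algebraMap R A))) (p : PrimeSpectrum A) :
    ∃ h ∉ p.asIdeal, ∃ (k : Fin (N + 1)) (b : W R ks k →ₐ[R] Localization.Away h),
      sp (loc h) ≫ x = sp b.toRingHom ≫ m R ks k := by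
  obtain ⟨k, hk⟩ := TopologicalSpace.Opens.mem_iSup.mp
    ((PS.iSup_chart (n := N) (R := R)).ge (x := GrassModel.ι R ks (x p)) trivial)
  obtain ⟨hopen, hrange⟩ := isOpenImmersion_m R ks hks k
  haveI := hopen
  have hp : (p : Spec (CommRingCat.of A)) ∈ ((x ⁻¹ᵁ (GrassModel.ι R ks ⁻¹ᵁ D R k)) : Set (Spec (CommRingCat.of A))) := hk
  obtain ⟨_, ⟨h, rfl⟩, hph, hsub⟩ := PrimeSpectrum.isTopologicalBasis_basic_opens.exists_subset_of_mem_open hp
    (x ⁻¹ᵁ (GrassModel.ι R ks ⁻¹ᵁ D R k)).isOpen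
  refine ⟨h, hph, k, ?_⟩
  have hr : Set.range (sp (loc h) ≫ x) ⊆ Set.range (m R ks k) := by
    rw [hrange]
    rintro _ ⟨y, rfl⟩
    exact hsub ((PrimeSpectrum.localization_away_comap_range (Localization.Away h) h).le ⟨y, rfl⟩)
  let t := IsOpenImmersion.lift (m R ks k) (sp (loc h) ≫ x) hr
  have ht : t ≫ m R ks k = sp (loc h) ≫ x := IsOpenImmersion.lift_fac _ _ _
  obtain ⟨b, hb⟩ := Spec.map_surjective t
  have hcomm : ∀ a, b.hom (algebraMap R (W R ks k) a) = algebraMap R (Localization.Away h) a := by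
    have e1 := congrArg (· ≫ toSp) ht
    simp only [Category.assoc, m_toSp, hx, ← hb] at e1
    rw [← Spec.map_comp, ← Spec.map_comp] at e1
    intro a
    have e2 := RingHom.congr_fun (congrArg CommRingCat.Hom.hom (Spec.map_injective e1)) a
    exact e2.trans (IsScalarTower.algebraMap_apply R A (Localization.Away h) a).symm
  exact ⟨⟨b.hom, hcomm⟩, by rw [← ht, ← hb]; rfl⟩

theorem exists_piece_of_bundle (hks : Covers ks) (hrd : r ≤ d) {V : Submodule A (Fin d → A)} (hV : IsBundle r V)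
    (p : PrimeSpectrum A) :
    ∃ h ∉ p.asIdeal, ∃ (k : Fin (N + 1)) (b : W R ks k →ₐ[R] Localization.Away h),
      mapV (loc h) V = rows R ks b.toRingHom := by
  let K := p.asIdeal.ResidueField
  have hK : IsBundle r (mapV (IsScalarTower.toAlgHom R A K).toRingHom V) := isBundle_map _ hV
  have hr := hK.finrank_eq hrd
  let bs := Module.finBasisOfFinrankEq K _ hr
  have hli : LinearIndependent K fun l => (bs l : Fin d → K) :=
    bs.linearIndependent.map' (mapV (IsScalarTower.toAlgHom R A K).toRingHom V).subtype (Submodule.ker_subtype _)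
  obtain ⟨J, hJ⟩ := exists_minor _ hli
  obtain ⟨k, σ, hσ⟩ := hks J
  have h2 : IsUnit (sqm J fun l => (bs l : Fin d → K)).det := hJ
  rw [det_eq_sign_mul ks hσ] at h2
  obtain ⟨v, hv, hdet⟩ := exists_det_ne_zero (IsScalarTower.toAlgHom R A K).toRingHom (J := ks k) (V := V)
    ⟨fun l => (bs l : Fin d → K), fun l => (bs l).2, isUnit_of_mul_isUnit_right h2⟩
  set h := (sqm (ks k) v).det
  refine ⟨h, fun hm => hdet (Ideal.algebraMap_residueField_eq_zero.2 hm), k, ?_⟩
  obtain ⟨φ, hφ⟩ := exists_chart_pt R ks (isBundle_map (IsScalarTower.toAlgHom R A (Localization.Away h)) hV)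
    (k := k) ⟨fun l => vmap (loc h) (v l), fun l => vmap_mem _ (hv l), by
      rw [det_sqm_vmap]; exact IsLocalization.Away.algebraMap_isUnit h⟩
  exact ⟨φ, hφ.symm⟩

theorem rel_of_pieces (hks : Covers ks) {x : Spec (CommRingCat.of A) ⟶ X R ks} {V : Submodule A (Fin d → A)}
    (hp : ∀ p : PrimeSpectrum A, ∃ h ∉ p.asIdeal, ∃ (k : Fin (N + 1)) (b : W R ks k →ₐ[R] Localization.Away h),
      sp (loc h) ≫ x = sp b.toRingHom ≫ m R ks k ∧ mapV (loc h) V = rows R ks b.toRingHom) : Rel x V := by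
  intro k C _ _ φ b
  have key : ∀ q : PrimeSpectrum C, ∃ a ∉ q.asIdeal,
      (sp (loc a) ≫ sp φ.toRingHom ≫ x = sp (loc a) ≫ sp b.toRingHom ≫ m R ks k ↔
        mapV (loc a) (mapV φ.toRingHom V) = mapV (loc a) (rows R ks b.toRingHom)) := by
    intro q
    obtain ⟨h, hh, l, bl, e1, e2⟩ := hp (PrimeSpectrum.comap φ.toRingHom q)
    refine ⟨φ h, hh, ?_⟩
    let C' := Localization.Away (φ h)
    have hu : IsUnit (((loc (φ h)).comp φ.toRingHom) h) := IsLocalization.Away.algebraMap_isUnit (φ h)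
    let ψ : Localization.Away h →ₐ[R] C' := ⟨IsLocalization.Away.lift h hu, fun a => by
      show IsLocalization.Away.lift h hu (algebraMap R (Localization.Away h) a) = _
      rw [IsScalarTower.algebraMap_apply R A (Localization.Away h), IsLocalization.Away.lift_eq]
      show loc (φ h) (φ (algebraMap R A a)) = _
      rw [φ.commutes, ← IsScalarTower.algebraMap_apply]⟩
    have hψ : ψ.toRingHom.comp (loc h) = (loc (φ h)).comp φ.toRingHom := IsLocalization.Away.lift_comp h hu
    rw [sp_sp, sp_sp, mapV_mapV, mapV_rows, ← hψ, ← sp_sp (loc h) ψ.toRingHom, e1, ← mapV_mapV (loc h) ψ.toRingHom, e2,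
      mapV_rows, sp_sp]
    exact m_agree hks (ψ.comp bl) ((IsScalarTower.toAlgHom R C C').comp b)
  constructor
  · intro h
    refine LocalSub.eq_of_local fun q => ?_
    obtain ⟨a, ha, hiff⟩ := key q
    exact ⟨a, ha, hiff.1 (congrArg _ h)⟩
  · intro h
    refine hom_eq_of_local fun q => ?_
    obtain ⟨a, ha, hiff⟩ := key q
    exact ⟨a, ha, hiff.2 (congrArg _ h)⟩

theorem exists_hom (hks : Covers ks) (hrd : r ≤ d) {V : Submodule A (Fin d → A)} (hV : IsBundle r V) :
    ∃ x : Spec (CommRingCat.of A) ⟶ X R ks,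
      x ≫ toSp = Spec.map (CommRingCat.ofHom (algebraMap R A)) ∧ Rel x V := by
  choose h hh k b hb using fun p => exists_piece_of_bundle (R := R) (ks := ks) hks hrd hV p
  have hs : Ideal.span (Set.range h) = (⊤ : Ideal A) := by
    by_contra hc
    obtain ⟨M, hM, hle⟩ := Ideal.exists_le_maximal _ hc
    exact hh ⟨M, hM.isPrime⟩ (hle (Ideal.subset_span ⟨_, rfl⟩))
  let 𝒰 := (Scheme.affineOpenCoverOfSpanRangeEqTop (R := CommRingCat.of A) h hs).openCover
  let g : ∀ p, 𝒰.X p ⟶ X R ks := fun p => sp (b p).toRingHom ≫ m R ks (k p)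
  have hagree : ∀ (p q : PrimeSpectrum A) {C : CommRingCat.{u}} (s : Spec C ⟶ Spec (CommRingCat.of (Localization.Away (h p))))
      (t : Spec C ⟶ Spec (CommRingCat.of (Localization.Away (h q)))),
      s ≫ sp (loc (h p)) = t ≫ sp (loc (h q)) →
        s ≫ sp (b p).toRingHom ≫ m R ks (k p) = t ≫ sp (b q).toRingHom ≫ m R ks (k q) := by
    intro p q C s t hst
    obtain ⟨s, rfl⟩ := Spec.map_surjective s
    obtain ⟨t, rfl⟩ := Spec.map_surjective t
    rw [← Spec.map_comp, ← Spec.map_comp] at hst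
    have hst' : s.hom.comp (loc (h p)) = t.hom.comp (loc (h q)) := congrArg CommRingCat.Hom.hom (Spec.map_injective hst)
    letI : Algebra R C := ((s.hom.comp (loc (h p))).comp (algebraMap R A)).toAlgebra
    let a1 : W R ks (k p) →ₐ[R] C := ⟨s.hom.comp (b p).toRingHom, fun a => by
      show s.hom ((b p) (algebraMap R _ a)) = _
      rw [(b p).commutes, IsScalarTower.algebraMap_apply R A (Localization.Away (h p))]
      rfl⟩
    let a2 : W R ks (k q) →ₐ[R] C := ⟨t.hom.comp (b q).toRingHom, fun a => by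
      show t.hom ((b q) (algebraMap R _ a)) = s.hom.comp (loc (h p)) (algebraMap R A a)
      rw [(b q).commutes, IsScalarTower.algebraMap_apply R A (Localization.Away (h q)), hst']
      rfl⟩
    have e := (m_agree hks a1 a2).2 (by
      show rows R ks (s.hom.comp (b p).toRingHom) = rows R ks (t.hom.comp (b q).toRingHom)
      rw [← mapV_rows, ← mapV_rows, ← hb, ← hb, mapV_mapV, mapV_mapV, hst'])
    show sp s.hom ≫ sp (b p).toRingHom ≫ m R ks (k p) = sp t.hom ≫ sp (b q).toRingHom ≫ m R ks (k q)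
    rw [sp_sp, sp_sp]
    exact e
  have hg : ∀ p q, pullback.fst (𝒰.f p) (𝒰.f q) ≫ g p = pullback.snd (𝒰.f p) (𝒰.f q) ≫ g q := fun p q =>
    Scheme.Cover.hom_ext (pullback (𝒰.f p) (𝒰.f q)).affineCover _ _ fun j =>
      (Category.assoc _ _ _).symm.trans ((hagree p q ((pullback (𝒰.f p) (𝒰.f q)).affineCover.f j ≫ pullback.fst _ _)
        ((pullback (𝒰.f p) (𝒰.f q)).affineCover.f j ≫ pullback.snd _ _)
        ((Category.assoc _ _ _).trans ((congrArg _ pullback.condition).trans (Category.assoc _ _ _).symm))).trans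
          (Category.assoc _ _ _))
  let x : Spec (CommRingCat.of A) ⟶ X R ks := 𝒰.glueMorphisms g hg
  have hx : ∀ p, sp (loc (h p)) ≫ x = sp (b p).toRingHom ≫ m R ks (k p) := fun p =>
    Scheme.Cover.ι_glueMorphisms 𝒰 g hg p
  refine ⟨x, hom_eq_of_local fun p => ⟨h p, hh p, ?_⟩, rel_of_pieces hks fun p =>
    ⟨h p, hh p, k p, b p, hx p, hb p⟩⟩
  rw [← Category.assoc, hx, Category.assoc, m_toSp]
  show Spec.map _ ≫ Spec.map _ = Spec.map _ ≫ Spec.map _
  rw [← Spec.map_comp, ← Spec.map_comp]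
  congr 1
  ext a
  show (b p) (algebraMap R (W R ks (k p)) a) = algebraMap A (Localization.Away (h p)) (algebraMap R A a)
  rw [(b p).commutes]
  exact IsScalarTower.algebraMap_apply R A (Localization.Away (h p)) a

theorem exists_bundle (hks : Covers ks) (x : Spec (CommRingCat.of A) ⟶ X R ks)
    (hx : x ≫ toSp = Spec.map (CommRingCat.ofHom (algebraMap R A))) :
    ∃ V : Submodule A (Fin d → A), IsBundle r V ∧ Rel x V := by
  classical
  let T : Set A := {h | ∃ (k : Fin (N + 1)) (b : W R ks k →ₐ[R] Localization.Away h),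
    sp (loc h) ≫ x = sp b.toRingHom ≫ m R ks k}
  have hT : Ideal.span T = ⊤ := by
    by_contra hc
    obtain ⟨M, hM, hle⟩ := Ideal.exists_le_maximal _ hc
    obtain ⟨h, hh, hmem⟩ := exists_piece_of_hom hks x hx ⟨M, hM.isPrime⟩
    exact hh (hle (Ideal.subset_span hmem))
  obtain ⟨t, ht, htop⟩ := (Ideal.span_eq_top_iff_finite T).1 hT
  choose k b hb using fun g : t => ht g.2
  let V : Submodule A (Fin d → A) := ⨅ g : t,
    ((rows R ks (b g).toRingHom).restrictScalars A).comap (LocalSub.vlin (d := d) (Localization.Away g.1))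
  have hmem : ∀ {v : Fin d → A}, v ∈ V ↔ ∀ g : t, vmap (loc g.1) v ∈ rows R ks (b g).toRingHom := by
    intro v
    simp only [V, Submodule.mem_iInf, Submodule.mem_comap]
    rfl
  have hmap : ∀ g : t, mapV (loc g.1) V = rows R ks (b g).toRingHom := by
    intro i
    refine le_antisymm (Submodule.span_le.2 (Set.image_subset_iff.2 fun v hv => hmem.1 hv i)) fun w hw => ?_
    obtain ⟨v, ⟨s, n, rfl⟩, hs⟩ := LocalSub.exists_vmap (Submonoid.powers i.1) (Localization.Away i.1) w
    have hvi : vmap (loc i.1) v ∈ rows R ks (b i).toRingHom := by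
      rw [← hs]; exact Submodule.smul_mem _ _ hw
    have hj : ∀ j : t, ∃ M : ℕ, vmap (loc j.1) (i.1 ^ M • v) ∈ rows R ks (b j).toRingHom := by
      intro j
      let Aj := Localization.Away j.1
      let hi : Aj := loc j.1 i.1
      let C := Localization.Away hi
      letI : Algebra R C := ((algebraMap Aj C).comp (algebraMap R Aj)).toAlgebra
      have hu : IsUnit (((algebraMap Aj C).comp (loc j.1)) i.1) := IsLocalization.Away.algebraMap_isUnit hi
      let ψi : Localization.Away i.1 →ₐ[R] C := ⟨IsLocalization.Away.lift i.1 hu, fun a => by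
        show IsLocalization.Away.lift i.1 hu (algebraMap R (Localization.Away i.1) a) = _
        rw [IsScalarTower.algebraMap_apply R A (Localization.Away i.1), IsLocalization.Away.lift_eq]
        show algebraMap Aj C (loc j.1 (algebraMap R A a)) = algebraMap Aj C (algebraMap R Aj a)
        rw [← IsScalarTower.algebraMap_apply R A Aj]⟩
      let ψj : Aj →ₐ[R] C := ⟨algebraMap Aj C, fun _ => rfl⟩
      have hψ : ψi.toRingHom.comp (loc i.1) = (algebraMap Aj C).comp (loc j.1) :=
        IsLocalization.Away.lift_comp i.1 hu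
      have e : rows R ks (ψi.comp (b i)).toRingHom = rows R ks (ψj.comp (b j)).toRingHom := by
        refine (m_agree hks _ _).1 ?_
        show sp (ψi.toRingHom.comp (b i).toRingHom) ≫ _ = sp ((algebraMap Aj C).comp (b j).toRingHom) ≫ _
        rw [← sp_sp, ← sp_sp, ← hb, ← hb, sp_sp, sp_sp, hψ]
      have h1 : vmap (algebraMap Aj C) (vmap (loc j.1) v) ∈ mapV (algebraMap Aj C) (rows R ks (b j).toRingHom) := by
        have h2 := vmap_mem ψi.toRingHom hvi
        rw [mapV_rows] at h2
        rw [mapV_rows]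
        have h3 : vmap ψi.toRingHom (vmap (loc i.1) v) = vmap (algebraMap Aj C) (vmap (loc j.1) v) :=
          funext fun c => RingHom.congr_fun hψ (v c)
        rw [h3] at h2
        exact e ▸ h2
      obtain ⟨z, ⟨M, rfl⟩, hz⟩ := (LocalSub.mem_mapV_iff (Submonoid.powers hi) C _ _).1 h1
      refine ⟨M, ?_⟩
      rw [vmap_smul, map_pow]
      exact hz
    choose M hM using hj
    have hv' : i.1 ^ (∑ j, M j) • v ∈ V := hmem.2 fun j => by
      obtain ⟨c, hc⟩ := Nat.exists_eq_add_of_le (Finset.single_le_sum (fun j _ => Nat.zero_le (M j)) (Finset.mem_univ j))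
      rw [hc, pow_add, mul_comm, mul_smul, vmap_smul]
      exact Submodule.smul_mem _ _ (hM j)
    have h4 := vmap_mem (loc i.1) hv'
    rw [vmap_smul, ← hs, smul_smul, ← map_mul] at h4
    obtain ⟨u, hu⟩ := IsLocalization.map_units (Localization.Away i.1)
      (⟨i.1 ^ (∑ j, M j) * i.1 ^ n, Submonoid.mul_mem _ ⟨_, rfl⟩ ⟨_, rfl⟩⟩ : Submonoid.powers i.1)
    have h5 := (mapV (loc i.1) V).smul_mem (↑u⁻¹ : Localization.Away i.1) h4
    rw [smul_smul] at h5
    rwa [show loc i.1 (i.1 ^ (∑ j, M j) * i.1 ^ n) = (u : Localization.Away i.1) from hu.symm, Units.inv_mul,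
      one_smul] at h5
  refine ⟨V, LocalSub.isBundle_of_local (t : Set A) htop fun g => ?_, rel_of_pieces hks fun p => ?_⟩
  · rw [hmap g]
    exact isBundle_rows R ks _
  · have : ∃ g : t, g.1 ∉ p.asIdeal := by
      by_contra hc
      simp only [not_exists, not_not] at hc
      exact p.isPrime.ne_top (top_le_iff.1 (htop ▸ Ideal.span_le.2 fun a ha => hc ⟨a, ha⟩))
    obtain ⟨g, hg⟩ := this
    exact ⟨g.1, hg, k g, b g, hb g, hmap g⟩

theorem Rel.unique_bundle (hks : Covers ks) {x : Spec (CommRingCat.of A) ⟶ X R ks}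
    (hx : x ≫ toSp = Spec.map (CommRingCat.ofHom (algebraMap R A))) {V V' : Submodule A (Fin d → A)}
    (h : Rel x V) (h' : Rel x V') : V = V' := by
  refine LocalSub.eq_of_local fun p => ?_
  obtain ⟨a, ha, k, b, e⟩ := exists_piece_of_hom hks x hx p
  refine ⟨a, ha, ?_⟩
  show mapV (IsScalarTower.toAlgHom R A (Localization.Away a)).toRingHom V = mapV (IsScalarTower.toAlgHom R A (Localization.Away a)).toRingHom V'
  rw [(h k _ (IsScalarTower.toAlgHom R A _) b).1 e, (h' k _ (IsScalarTower.toAlgHom R A _) b).1 e]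

theorem Rel.unique_hom (hks : Covers ks) (hrd : r ≤ d) {x x' : Spec (CommRingCat.of A) ⟶ X R ks}
    {V : Submodule A (Fin d → A)} (hV : IsBundle r V) (h : Rel x V) (h' : Rel x' V) : x = x' := by
  refine hom_eq_of_local fun p => ?_
  obtain ⟨a, ha, k, b, e⟩ := exists_piece_of_bundle (R := R) (ks := ks) hks hrd hV p
  refine ⟨a, ha, ?_⟩
  exact ((h k _ (IsScalarTower.toAlgHom R A _) b).2 e).trans ((h' k _ (IsScalarTower.toAlgHom R A _) b).2 e).symm

theorem Rel.map {B : Type u} [CommRing B] [Algebra R B] {x : Spec (CommRingCat.of A) ⟶ X R ks}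
    {V : Submodule A (Fin d → A)} (h : Rel x V) (φ : A →ₐ[R] B) :
    Rel (sp φ.toRingHom ≫ x) (mapV φ.toRingHom V) := by
  intro k C _ _ ψ b
  rw [sp_sp, mapV_mapV]
  exact h k C (ψ.comp φ) b

theorem rel_map_iff (hks : Covers ks) {B : Type u} [CommRing B] [Algebra R B] {x : Spec (CommRingCat.of A) ⟶ X R ks}
    {x' : Spec (CommRingCat.of B) ⟶ X R ks} (hx' : x' ≫ toSp = Spec.map (CommRingCat.ofHom (algebraMap R B)))
    {V : Submodule A (Fin d → A)} {V' : Submodule B (Fin d → B)} (h : Rel x V) (h' : Rel x' V') (φ : A →ₐ[R] B)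
    (e : x' = sp φ.toRingHom ≫ x) : V' = mapV φ.toRingHom V :=
  h'.unique_bundle hks hx' (e ▸ h.map φ)

/-- The Grassmannian of `R^d` exists and is proper. -/
theorem exists_rep_free (hks : Covers ks) (hrd : r ≤ d) :
    ∃ D : Rep (R := R) (d := d) (n := 0) r (f0 R) (f0 R), IsProper D.X.hom := by
  let Xo : Over (Spec (CommRingCat.of R)) := Over.mk (toSp (ks := ks))
  have hw : ∀ {A : CommAlgCat.{u} R} (x : Over.mk (str A) ⟶ Xo),
      x.left ≫ toSp (ks := ks) = Spec.map (CommRingCat.ofHom (algebraMap R A)) := fun x => Over.w x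
  choose Vof hVb hVr using fun (A : CommAlgCat.{u} R) (x : Over.mk (str A) ⟶ Xo) => exists_bundle hks x.left (hw x)
  choose Pof hP0 using fun (A : CommAlgCat.{u} R) (x : Over.mk (str A) ⟶ Xo) =>
    exists_sub (f := f0 R) (g := f0 R) (A := A) (r := r) (W := fun _ => Vof A x)
      ⟨fun _ _ => hVb A x, fun i hi => absurd hi (by omega), fun i hi => absurd hi (by omega)⟩
  have hsub : ∀ (A : CommAlgCat.{u} R) (x : Over.mk (str A) ⟶ Xo), sub (Pof A x) 0 = Vof A x := fun A x =>
    (hP0 A x).2 0 le_rfl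
  choose Xof hXw hXr using fun (A : CommAlgCat.{u} R) (V : W4c1limliniiii.LGPoints R d r 0 (f0 R) (f0 R) A) =>
    exists_hom (R := R) (ks := ks) hks hrd ((isPt_sub V.1 V.2).bundle 0 le_rfl)
  let e : ∀ A : CommAlgCat.{u} R, (Over.mk (str A) ⟶ Xo) ≃ W4c1limliniiii.LGPoints R d r 0 (f0 R) (f0 R) A :=
    fun A =>
    { toFun := fun x => ⟨Pof A x, (hP0 A x).1⟩
      invFun := fun V => Over.homMk (Xof A V) (hXw A V)
      left_inv := fun x => Over.OverMorphism.ext (Rel.unique_hom hks hrd
        ((isPt_sub (Pof A x) (hP0 A x).1).bundle 0 le_rfl) (hXr A ⟨Pof A x, (hP0 A x).1⟩)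
        (by rw [hsub]; exact hVr A x))
      right_inv := fun V => Subtype.ext (sub_injective fun i hi => by
        obtain rfl : i = 0 := Nat.le_zero.1 hi
        show sub (Pof A (Over.homMk (Xof A V) (hXw A V))) 0 = sub V.1 0
        rw [hsub]
        exact Rel.unique_bundle hks (hXw A V) (hVr A (Over.homMk (Xof A V) (hXw A V))) (hXr A V)) }
  refine ⟨⟨Xo, e, fun A B φ x x' h i => ?_⟩, ?_⟩
  · have key : Pof B x' = fun j => Module.Grassmannian.map φ.hom (Pof A x j) := sub_injective fun j hj => by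
      obtain rfl : j = 0 := Nat.le_zero.1 hj
      rw [sub_map φ.hom (Pof A x) _ (fun _ => rfl) le_rfl, hsub, hsub]
      exact rel_map_iff hks (hw x') (hVr A x) (hVr B x') φ.hom h
    exact congrFun key i
  · show IsProper (GrassModel.ι R ks ≫ CohB1.ProjSpace.toSpec N R)
    infer_instance

/-- the Grassmannian of quotients of rank `q` of `R^d` -/
theorem exists_representing (R : Type u) [CommRing R] (d q : ℕ) (hqd : q ≤ d) :
    ∃ (X : Over (Spec (CommRingCat.of R)))
      (e : ∀ A : CommAlgCat.{u} R,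
        (Over.mk (Spec.map (CommRingCat.ofHom (algebraMap R A))) ⟶ X) ≃
          (Module.Grassmannian.functor (R := R) (M := Fin d → R) q).obj A),
      IsProper X.hom ∧
      ∀ (A B : CommAlgCat.{u} R) (φ : A ⟶ B)
        (g : Over.mk (Spec.map (CommRingCat.ofHom (algebraMap R A))) ⟶ X)
        (g' : Over.mk (Spec.map (CommRingCat.ofHom (algebraMap R B))) ⟶ X),
        g'.left = Spec.map (CommRingCat.ofHom φ.hom.toRingHom) ≫ g.left →
          e B g' = (Module.Grassmannian.functor (R := R) (M := Fin d → R) q).map φ (e A g) := by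
  obtain ⟨r, hr, hq⟩ : ∃ r ≤ d, q = d - r := ⟨d - q, by omega, by omega⟩
  subst hq
  obtain ⟨ks, hks⟩ := exists_covers hr
  obtain ⟨D, hD⟩ := exists_rep_free (R := R) hks hr
  let eq : ∀ A : CommAlgCat.{u} R, W4c1limliniiii.LGPoints R d r 0 (f0 R) (f0 R) A ≃
      Module.Grassmannian A (TensorProduct R A (Fin d → R)) (d - r) := fun A =>
    { toFun := fun V => V.1 0
      invFun := fun P => ⟨fun _ => P, fun i => i.elim0⟩
      left_inv := fun V => Subtype.ext (funext fun i => by
        obtain rfl : i = 0 := Fin.ext (by have := i.2; simp)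
        rfl)
      right_inv := fun _ => rfl }
  exact ⟨D.X, fun A => (D.e A).trans (eq A), hD, fun A B φ g g' h => D.he A B φ g g' h 0⟩

end Groth.L18.GrassPoints
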