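import Groth.Agent.L18.Grass.LeftIdeal
import Groth.Agent.L18.Grass.Points

/-!
# Representable closed subfunctors
-/

set_option autoImplicit false

universe u

open AlgebraicGeometry CategoryTheory CategoryTheory.Limits Module TensorProduct
open Groth.L18.GrassAff Groth.L18.GrassClosed

namespace Groth.L18.GrassSub

variable {R : Type u} [CommRing R]

section

variable {X : Over (Spec (CommRingCat.of R))}
  {F : CommAlgCat.{u} R → Type u} (mapF : ∀ {B C : CommAlgCat.{u} R}, (B ⟶ C) → F B → F C)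
  (e : ∀ B : CommAlgCat.{u} R, (pt B ⟶ X) ≃ F B)
  (he : ∀ (B C : CommAlgCat.{u} R) (φ : B ⟶ C) (g : pt B ⟶ X) (g' : pt C ⟶ X),
      g'.left = Spec.map (CommRingCat.ofHom φ.hom.toRingHom) ≫ g.left → e C g' = mapF φ (e B g))
  (Cond : ∀ B : CommAlgCat.{u} R, F B → Prop) (locus : ∀ B : CommAlgCat.{u} R, F B → Ideal B)
  (hlocus : ∀ (B C : CommAlgCat.{u} R) (φ : B ⟶ C) (N : F B),
      Cond C (mapF φ N) ↔ locus B N ≤ RingHom.ker φ.hom.toRingHom)

include he hlocus in
theorem stable_of_factor {B C : CommAlgCat.{u} R} (x : pt B ⟶ X) (y : pt C ⟶ X)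
    (q : Spec (CommRingCat.of C) ⟶ Spec (CommRingCat.of B)) (hq : y.left = q ≫ x.left) :
    ∃ φ : B ⟶ C, Spec.map (CommRingCat.ofHom φ.hom.toRingHom) = q ∧
      (Cond C (e C y) ↔ locus B (e B x) ≤ RingHom.ker φ.hom.toRingHom) := by
  have hx : x.left ≫ X.hom = Spec.map (CommRingCat.ofHom (algebraMap R B)) := Over.w x
  have hy : y.left ≫ X.hom = Spec.map (CommRingCat.ofHom (algebraMap R C)) := Over.w y
  obtain ⟨φ, hφ⟩ := exists_algHom (A := B) (B := C) q (by rw [← hx, ← hy, hq, Category.assoc])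
  exact ⟨φ, hφ, by rw [he B C φ x y (by rw [hq, hφ]), hlocus]⟩

include he hlocus in
theorem exists_closedImmersion :
    ∃ (Z : Scheme.{u}) (ι : Z ⟶ X.left), IsClosedImmersion ι ∧
      ∀ (B : CommAlgCat.{u} R) (g : pt B ⟶ X),
        (∃ h : (pt B).left ⟶ Z, h ≫ ι = g.left) ↔ Cond B (e B g) := by
  let P : ∀ (Y : Scheme.{u}), (Y ⟶ X.left) → Prop := fun Y g => ∀ (B : CommAlgCat.{u} R) (x : pt B ⟶ X)
    (h : Spec (CommRingCat.of B) ⟶ Y), h ≫ g = x.left → Cond B (e B x)
  obtain ⟨Z, ι, hι, hZ⟩ := Groth.L13.FixedLocus.exists_closedImmersion_of_affine P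
    (fun Y Z h g hP B x t ht => hP B x (t ≫ h) (by rw [Category.assoc]; exact ht))
    (fun Y g hloc B x t ht => by
      choose W hW hPW using hloc
      obtain ⟨φ, hφ, hst⟩ := stable_of_factor mapF e he Cond locus hlocus x x (𝟙 _) (Category.id_comp _).symm
      rw [hst]
      set J := locus B (e B x)
      let π : Spec (CommRingCat.of (B ⧸ J)) ⟶ Spec (CommRingCat.of B) :=
        Spec.map (CommRingCat.ofHom (Ideal.Quotient.mk J))
      haveI : IsClosedImmersion π := IsClosedImmersion.spec_of_surjective _ Ideal.Quotient.mk_surjective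
      have hb : ∀ {C : CommRingCat.{u}} (b : Spec C ⟶ Spec (CommRingCat.of B)) (y : Y) (w : Spec C ⟶ (W y).toScheme),
          w ≫ (W y).ι = b ≫ t → ∃ σ, σ ≫ π = b := by
        intro C b y w hw
        obtain ⟨_, z, hz⟩ := exists_alg (X := X) (b ≫ x.left)
        obtain ⟨ψ, hψ, hψst⟩ := stable_of_factor mapF e he Cond locus hlocus x z b hz
        have h2 := hψst.1 (hPW y _ z w (by rw [← Category.assoc, hw, hz, Category.assoc]; exact congrArg _ ht))
        refine ⟨Spec.map (CommRingCat.ofHom (Ideal.Quotient.lift J ψ.hom.toRingHom h2)), ?_⟩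
        rw [← hψ, ← Spec.map_comp]
        rfl
      let 𝒰 : (Spec (CommRingCat.of B)).OpenCover := Scheme.openCoverOfIsOpenCover _ (fun y : Y => t ⁻¹ᵁ W y)
        (eq_top_iff.2 fun p _ => TopologicalSpace.Opens.mem_iSup.2 ⟨t p, hW (t p)⟩)
      have hloc' : ∀ (i : 𝒰.I₀) (j : (𝒰.X i).affineCover.I₀), ∃ σ, σ ≫ π = (𝒰.X i).affineCover.f j ≫ 𝒰.f i :=
        fun i j => hb _ i ((𝒰.X i).affineCover.f j ≫ (t ∣_ W i)) (by
          exact (Category.assoc _ _ _).trans ((congrArg ((𝒰.X i).affineCover.f j ≫ ·) (morphismRestrict_ι t (W i))).trans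
            (Category.assoc _ _ _).symm))
      choose σ hσ using hloc'
      let gi : ∀ i, 𝒰.X i ⟶ Spec (CommRingCat.of (B ⧸ J)) := fun i =>
        (𝒰.X i).affineCover.glueMorphisms (σ i) fun j l => (cancel_mono π).1 (by
          refine (Category.assoc _ _ _).trans (((congrArg (_ ≫ ·) (hσ i j)).trans ?_).trans
            ((congrArg (_ ≫ ·) (hσ i l)).symm.trans (Category.assoc _ _ _).symm))
          rw [← Category.assoc, pullback.condition, Category.assoc])
      have hgi : ∀ i, gi i ≫ π = 𝒰.f i := fun i => Scheme.Cover.hom_ext (𝒰.X i).affineCover _ _ fun j =>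
        (Category.assoc _ _ _).symm.trans
          ((congrArg (· ≫ π) (Scheme.Cover.ι_glueMorphisms _ _ _ j)).trans (hσ i j))
      let G : Spec (CommRingCat.of B) ⟶ Spec (CommRingCat.of (B ⧸ J)) :=
        𝒰.glueMorphisms gi fun i l => (cancel_mono π).1 (by
          rw [Category.assoc, Category.assoc, hgi, hgi, pullback.condition])
      have hG : G ≫ π = 𝟙 _ := Scheme.Cover.hom_ext 𝒰 _ _ fun i =>
        (Category.assoc _ _ _).symm.trans ((congrArg (· ≫ π) (Scheme.Cover.ι_glueMorphisms _ _ _ i)).trans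
          ((hgi i).trans (Category.comp_id _).symm))
      obtain ⟨s, hs⟩ := Spec.map_surjective G
      rw [← hs, ← Spec.map_comp, ← Spec.map_id] at hG
      have hG' := RingHom.congr_fun (congrArg CommRingCat.Hom.hom (Spec.map_injective hG))
      intro a ha
      have ha' : a = 0 := (hG' a).symm.trans ((congrArg s.hom (Ideal.Quotient.eq_zero_iff_mem.2 ha)).trans (map_zero _))
      rw [ha']
      exact zero_mem _)
    (fun U => by
      obtain ⟨_, x, hx⟩ := exists_alg (X := X) U.2.fromSpec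
      refine ⟨locus _ (e _ x), fun C φ => ⟨fun hP => ?_, fun hle B y t ht => ?_⟩⟩
      · obtain ⟨_, y, hy⟩ := exists_alg (X := X) (Spec.map φ ≫ U.2.fromSpec)
        obtain ⟨ψ, hψ, hst⟩ := stable_of_factor mapF e he Cond locus hlocus x y (Spec.map φ) (by rw [hy, hx])
        have := hst.1 (hP _ y (𝟙 _) (by rw [hy]; exact Category.id_comp _))
        rw [show φ.hom = ψ.hom.toRingHom from congrArg CommRingCat.Hom.hom (Spec.map_injective hψ).symm]
        exact this
      · obtain ⟨ψ, hψ, hst⟩ := stable_of_factor mapF e he Cond locus hlocus x y (t ≫ Spec.map φ) (by rw [← ht, hx, Category.assoc])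
        refine hst.2 fun a ha => ?_
        obtain ⟨s, rfl⟩ := Spec.map_surjective t
        rw [← Spec.map_comp] at hψ
        have e1 : ψ.hom.toRingHom a = s.hom (φ.hom a) :=
          RingHom.congr_fun (congrArg CommRingCat.Hom.hom (Spec.map_injective hψ)) a
        rw [RingHom.mem_ker, e1, RingHom.mem_ker.1 (hle ha), map_zero])
  refine ⟨Z, ι, hι, fun B g => (hZ _ g.left).trans ⟨fun hP => hP B g (𝟙 _) (Category.id_comp _),
    fun hst B' x' t ht => ?_⟩⟩
  obtain ⟨φ, hφ, hst'⟩ := stable_of_factor mapF e he Cond locus hlocus g x' t ht.symm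
  obtain ⟨φ₁, hφ₁, hst₁⟩ := stable_of_factor mapF e he Cond locus hlocus g g (𝟙 _) (Category.id_comp _).symm
  refine hst'.2 fun a ha => ?_
  have h0 := RingHom.mem_ker.1 (hst₁.1 hst ha)
  have e1 : φ₁.hom.toRingHom = RingHom.id B := by
    have := (hφ₁.trans (Spec.map_id _).symm)
    exact congrArg CommRingCat.Hom.hom (Spec.map_injective this)
  rw [e1] at h0
  rw [show a = 0 from h0]
  exact zero_mem _


end

section MapLocus

variable {M M' : Type u} [AddCommGroup M] [Module R M] [AddCommGroup M'] [Module R M'] (L : M →ₗ[R] M') {k k' : ℕ}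
  {B C : Type u} [CommRing B] [Algebra R B] [CommRing C] [Algebra R C]

/-- the ideal of the locus where a map carries one point into another -/
noncomputable def mapLocus (N : Module.Grassmannian B (B ⊗[R] M) k) (N' : Module.Grassmannian B (B ⊗[R] M') k') :
    Ideal B :=
  Ideal.span {c | ∃ (l : ((B ⊗[R] M') ⧸ N'.toSubmodule) →ₗ[B] B) (x : B ⊗[R] M),
    x ∈ N.toSubmodule ∧ l (N'.toSubmodule.mkQ (L.baseChange B x)) = c}

theorem mapLocus_le_ker_iff (φ : B →ₐ[R] C) (N : Module.Grassmannian B (B ⊗[R] M) k)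
    (N' : Module.Grassmannian B (B ⊗[R] M') k') :
    mapLocus L N N' ≤ RingHom.ker φ.toRingHom ↔
      (Module.Grassmannian.map φ N).toSubmodule.map (L.baseChange C) ≤ (Module.Grassmannian.map φ N').toSubmodule := by
  rw [Module.Grassmannian.map_toSubmodule, Module.Grassmannian.map_toSubmodule]
  algebraize [φ.toRingHom]
  haveI : IsScalarTower R B C := IsScalarTower.of_algebraMap_eq' φ.comp_algebraMap.symm
  set c := AlgebraTensorModule.cancelBaseChange R B C C M
  set c' := AlgebraTensorModule.cancelBaseChange R B C C M'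
  have hq : ∀ y, Module.Grassmannian.baseChangeMkQ C N'.toSubmodule (c' ((1 : C) ⊗ₜ[B] y)) =
      (1 : C) ⊗ₜ[B] N'.toSubmodule.mkQ y := fun y => by
    show N'.toSubmodule.mkQ.baseChange C (c'.symm (c' ((1 : C) ⊗ₜ[B] y))) = _
    rw [LinearEquiv.symm_apply_apply, LinearMap.baseChange_tmul]
  have hL : ∀ x : B ⊗[R] M,
      L.baseChange C (c ((1 : C) ⊗ₜ[B] x)) = c' ((1 : C) ⊗ₜ[B] (L.baseChange B x)) := by
    intro x
    induction x with
    | zero => simp
    | tmul b m =>
      simp only [c, c', AlgebraTensorModule.cancelBaseChange_tmul, LinearMap.baseChange_tmul]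
    | add x y hx hy => simp only [TensorProduct.tmul_add, map_add, hx, hy]
  constructor
  · intro h
    rintro _ ⟨y, hy, rfl⟩
    have hex : Function.Exact (LinearMap.lTensor C N.toSubmodule.subtype) (LinearMap.lTensor C N.toSubmodule.mkQ) :=
      lTensor_exact C (LinearMap.exact_subtype_mkQ _) (Submodule.mkQ_surjective _)
    obtain ⟨t, ht⟩ := (hex (c.symm y)).1 hy
    have hy' : y = c (LinearMap.lTensor C N.toSubmodule.subtype t) := by rw [ht, LinearEquiv.apply_symm_apply]
    subst hy'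
    clear hy ht
    induction t with
    | zero => simp
    | tmul b x =>
      rw [LinearMap.lTensor_tmul, show b ⊗ₜ[B] (N.toSubmodule.subtype x) = b • ((1 : C) ⊗ₜ[B] (x : B ⊗[R] M)) by
        rw [TensorProduct.smul_tmul', smul_eq_mul, mul_one]; rfl, map_smul, map_smul, hL]
      refine Submodule.smul_mem _ b ?_
      show Module.Grassmannian.baseChangeMkQ C N'.toSubmodule _ = 0
      rw [hq]
      obtain ⟨n, f, g, -, -, hfg⟩ := Module.Finite.exists_comp_eq_id_of_projective B ((B ⊗[R] M') ⧸ N'.toSubmodule)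
      set z := N'.toSubmodule.mkQ (L.baseChange B (x : B ⊗[R] M))
      have hz : z = ∑ i, g z i • f (Pi.single i 1) := by
        conv_lhs => rw [show z = f (g z) from (LinearMap.congr_fun hfg z).symm, pi_eq_sum_univ' (g z)]
        simp only [map_sum, map_smul]
      rw [hz, TensorProduct.tmul_sum]
      refine Finset.sum_eq_zero fun i _ => ?_
      have h0 : φ.toRingHom (g z i) = 0 := h (Ideal.subset_span ⟨(LinearMap.proj i).comp g, _, x.2, rfl⟩)
      rw [← TensorProduct.smul_tmul, Algebra.smul_def, show algebraMap B C (g z i) = 0 from h0, zero_mul,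
        TensorProduct.zero_tmul]
    | add x y hx hy => rw [map_add, map_add, map_add]; exact add_mem hx hy
  · intro h
    refine Ideal.span_le.2 ?_
    rintro _ ⟨l, x, hx, rfl⟩
    have hx' : c ((1 : C) ⊗ₜ[B] x) ∈ (Module.Grassmannian.baseChangeMkQ C N.toSubmodule).ker := by
      show N.toSubmodule.mkQ.baseChange C (c.symm (c ((1 : C) ⊗ₜ[B] x))) = 0
      rw [LinearEquiv.symm_apply_apply, LinearMap.baseChange_tmul, Submodule.mkQ_apply,
        (Submodule.Quotient.mk_eq_zero _).2 hx, TensorProduct.tmul_zero]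
    have h1 := h ⟨_, hx', rfl⟩
    rw [hL] at h1
    have h2 := congrArg (fun z => TensorProduct.rid B C (LinearMap.lTensor C l z)) ((hq _).symm.trans h1)
    simp only [LinearMap.lTensor_tmul, TensorProduct.rid_tmul, map_zero] at h2
    rw [Algebra.smul_def, mul_one] at h2
    exact h2

end MapLocus

/-- Grassmannians of finitely generated modules exist. -/
theorem exists_representing_finite (M : Type u) [AddCommGroup M] [Module R M] [Module.Finite R M] (k : ℕ) :
    ∃ (X : Over (Spec (CommRingCat.of R)))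
      (e : ∀ A : CommAlgCat.{u} R, (pt A ⟶ X) ≃ (Module.Grassmannian.functor (R := R) (M := M) k).obj A),
      IsProper X.hom ∧
      ∀ (A B : CommAlgCat.{u} R) (φ : A ⟶ B) (g : pt A ⟶ X) (g' : pt B ⟶ X),
        g'.left = Spec.map (CommRingCat.ofHom φ.hom.toRingHom) ≫ g.left →
          e B g' = (Module.Grassmannian.functor (R := R) (M := M) k).map φ (e A g) := by
  obtain ⟨d, p, hp⟩ := Module.Finite.exists_fin' R M
  let v : (Fin (d + k) → R) →ₗ[R] M := p.comp (LinearMap.funLeft R R (Fin.castAdd k))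
  have hv : Function.Surjective v :=
    hp.comp (LinearMap.funLeft_surjective_of_injective R R _ (Fin.castAdd_injective d k))
  obtain ⟨X₁, e₁, hX₁, he₁⟩ := GrassPoints.exists_representing R (d + k) k (Nat.le_add_left k d)
  let Cond : ∀ A : CommAlgCat.{u} R, Module.Grassmannian A (A ⊗[R] (Fin (d + k) → R)) k → Prop :=
    fun A N => ∀ m, v m = 0 → (1 : A) ⊗ₜ[R] m ∈ N.toSubmodule
  obtain ⟨Z, ι, hι, hZ⟩ := exists_closedImmersion (X := X₁) (F := fun A => Module.Grassmannian A (A ⊗[R] (Fin (d + k) → R)) k)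
    (fun φ N => Module.Grassmannian.map φ.hom N) e₁ he₁ Cond (fun A N => GrassComap.locus (R := R) v N)
    (fun A B φ N => (GrassComap.le_ker_iff φ.hom N).symm)
  let X₂ : Over (Spec (CommRingCat.of R)) := Over.mk (ι ≫ X₁.hom)
  let j : X₂ ⟶ X₁ := Over.homMk ι rfl
  have hcond : ∀ A (x : pt A ⟶ X₂), ∃ N₂, GrassComap.comapPt hv A N₂ = e₁ A (x ≫ j) := fun A x =>
    (GrassComap.exists_comapPt_iff hv _).1 ((hZ A (x ≫ j)).1 ⟨x.left, rfl⟩)
  choose Φ hΦ using hcond
  have hbij : ∀ A, Function.Bijective (Φ A) := fun A => ⟨fun x y h => by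
    have h1 : e₁ A (x ≫ j) = e₁ A (y ≫ j) := by rw [← hΦ, ← hΦ, h]
    exact Over.OverMorphism.ext ((cancel_mono ι).1 (congrArg (fun t => t.left) ((e₁ A).injective h1))), fun N => by
    let g := (e₁ A).symm (GrassComap.comapPt hv A N)
    obtain ⟨h, hh⟩ := (hZ A g).2 ((GrassComap.exists_comapPt_iff hv _).2
      ⟨N, ((e₁ A).apply_symm_apply _).symm⟩)
    refine ⟨Over.homMk h (by
      show h ≫ ι ≫ X₁.hom = _
      rw [← Category.assoc, hh]; exact Over.w g), GrassComap.comapPt_injective hv A ?_⟩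
    rw [hΦ]
    refine (congrArg (e₁ A) (Over.OverMorphism.ext hh)).trans ((e₁ A).apply_symm_apply _)⟩
  refine ⟨X₂, fun A => Equiv.ofBijective (Φ A) (hbij A), ?_, fun A B φ g g' h => ?_⟩
  · show IsProper (ι ≫ X₁.hom)
    infer_instance
  · apply GrassComap.comapPt_injective hv
    show GrassComap.comapPt hv B (Φ B g') = GrassComap.comapPt hv B (Module.Grassmannian.map φ.hom (Φ A g))
    rw [hΦ, ← GrassComap.comapPt_map, hΦ]
    exact he₁ A B φ (g ≫ j) (g' ≫ j) (by
      show g'.left ≫ ι = _ ≫ g.left ≫ ι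
      rw [h, Category.assoc])

/-- products of a proper representing scheme -/
theorem exists_power {M : Type u} [AddCommGroup M] [Module R M] {k : ℕ} (X : Over (Spec (CommRingCat.of R)))
    (e : ∀ A : CommAlgCat.{u} R, (pt A ⟶ X) ≃ (Module.Grassmannian.functor (R := R) (M := M) k).obj A)
    (he : ∀ (A B : CommAlgCat.{u} R) (φ : A ⟶ B) (g : pt A ⟶ X) (g' : pt B ⟶ X),
      g'.left = Spec.map (CommRingCat.ofHom φ.hom.toRingHom) ≫ g.left →
        e B g' = (Module.Grassmannian.functor (R := R) (M := M) k).map φ (e A g))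
    (hX : IsProper X.hom) (m : ℕ) :
    ∃ (Y : Over (Spec (CommRingCat.of R)))
      (eY : ∀ A : CommAlgCat.{u} R, (pt A ⟶ Y) ≃ (Fin m → Module.Grassmannian A (A ⊗[R] M) k)),
      IsProper Y.hom ∧
      ∀ (A B : CommAlgCat.{u} R) (φ : A ⟶ B) (g : pt A ⟶ Y) (g' : pt B ⟶ Y),
        g'.left = Spec.map (CommRingCat.ofHom φ.hom.toRingHom) ≫ g.left →
          eY B g' = fun i => Module.Grassmannian.map φ.hom (eY A g i) := by
  induction m with
  | zero =>
    refine ⟨Over.mk (𝟙 _), fun A =>
      { toFun := fun _ i => i.elim0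
        invFun := fun _ => Over.homMk (Spec.map (CommRingCat.ofHom (algebraMap R A))) (Category.comp_id _)
        left_inv := fun x => Over.OverMorphism.ext ((Over.w x).symm.trans (Category.comp_id _))
        right_inv := fun _ => funext fun i => i.elim0 }, ?_, fun A B φ g g' _ => funext fun i => i.elim0⟩
    show IsProper (𝟙 _)
    infer_instance
  | succ m ih =>
    obtain ⟨Y, eY, hY, heY⟩ := ih
    haveI := hX
    haveI := hY
    let P : Over (Spec (CommRingCat.of R)) := Over.mk (pullback.fst X.hom Y.hom ≫ X.hom)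
    let p₁ : P ⟶ X := Over.homMk (pullback.fst X.hom Y.hom) rfl
    let p₂ : P ⟶ Y := Over.homMk (pullback.snd X.hom Y.hom) pullback.condition.symm
    refine ⟨P, fun A =>
      ({ toFun := fun x => (x ≫ p₁, x ≫ p₂)
         invFun := fun y => Over.homMk (pullback.lift y.1.left y.2.left ((Over.w y.1).trans (Over.w y.2).symm))
          (by show pullback.lift _ _ _ ≫ pullback.fst X.hom Y.hom ≫ X.hom = _
              rw [pullback.lift_fst_assoc]; exact Over.w y.1)
         left_inv := fun x => Over.OverMorphism.ext (pullback.hom_ext (pullback.lift_fst _ _ _) (pullback.lift_snd _ _ _))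
         right_inv := fun y => Prod.ext (Over.OverMorphism.ext (pullback.lift_fst _ _ _))
          (Over.OverMorphism.ext (pullback.lift_snd _ _ _)) } : (pt A ⟶ P) ≃ (pt A ⟶ X) × (pt A ⟶ Y)).trans
        (((e A).prodCongr (eY A)).trans (Fin.consEquiv fun _ => Module.Grassmannian A (A ⊗[R] M) k)), ?_,
      fun A B φ g g' h => ?_⟩
    · show IsProper (pullback.fst X.hom Y.hom ≫ X.hom)
      infer_instance
    · funext i
      refine Fin.cases ?_ (fun l => ?_) i
      · exact he A B φ (g ≫ p₁) (g' ≫ p₁) (by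
          show g'.left ≫ _ = _ ≫ g.left ≫ _
          rw [h, Category.assoc])
      · exact congrFun (heY A B φ (g ≫ p₂) (g' ≫ p₂) (by
          show g'.left ≫ _ = _ ≫ g.left ≫ _
          rw [h, Category.assoc])) l

/-- Linked Grassmannians exist and are proper. -/
theorem exists_linked (d r n : ℕ) (f g : Fin n → ((Fin d → R) →ₗ[R] (Fin d → R))) :
    ∃ (X : Over (Spec (CommRingCat.of R)))
      (e : ∀ A : CommAlgCat.{u} R, (pt A ⟶ X) ≃ W4c1limliniiii.LGPoints R d r n f g A),
      (∀ (A B : CommAlgCat.{u} R) (φ : A ⟶ B) (x : pt A ⟶ X) (x' : pt B ⟶ X),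
          x'.left = Spec.map (CommRingCat.ofHom φ.hom.toRingHom) ≫ x.left →
            ∀ i, (e B x').1 i = Module.Grassmannian.map φ.hom ((e A x).1 i)) ∧
      IsProper X.hom := by
  obtain ⟨X₀, e₀, hX₀, he₀⟩ := GrassPoints.exists_representing R d (d - r) (Nat.sub_le d r)
  obtain ⟨Y, eY, hY, heY⟩ := exists_power X₀ e₀ he₀ hX₀ (n + 1)
  haveI := hY
  let I : ∀ A : CommAlgCat.{u} R, (Fin (n + 1) → Module.Grassmannian A (A ⊗[R] (Fin d → R)) (d - r)) → Ideal A :=
    fun A V => ⨆ i : Fin n, mapLocus (f i) (V i.castSucc) (V i.succ) ⊔ mapLocus (g i) (V i.succ) (V i.castSucc)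
  obtain ⟨Z, ι, hι, hZ⟩ := exists_closedImmersion (X := Y)
    (F := fun A => Fin (n + 1) → Module.Grassmannian A (A ⊗[R] (Fin d → R)) (d - r))
    (fun φ V i => Module.Grassmannian.map φ.hom (V i)) eY heY
    (fun A V => V ∈ W4c1limliniiii.LGPoints R d r n f g A) I (fun A B φ V => by
      show (∀ i : Fin n, _ ∧ _) ↔ _
      rw [iSup_le_iff]
      refine forall_congr' fun i => ?_
      rw [sup_le_iff, mapLocus_le_ker_iff, mapLocus_le_ker_iff])
  let X₂ : Over (Spec (CommRingCat.of R)) := Over.mk (ι ≫ Y.hom)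
  let j : X₂ ⟶ Y := Over.homMk ι rfl
  let Φ : ∀ A, (pt A ⟶ X₂) → W4c1limliniiii.LGPoints R d r n f g A := fun A x =>
    ⟨eY A (x ≫ j), (hZ A (x ≫ j)).1 ⟨x.left, rfl⟩⟩
  have hbij : ∀ A, Function.Bijective (Φ A) := fun A => ⟨fun x y h => Over.OverMorphism.ext
    ((cancel_mono ι).1 (congrArg (fun t => t.left) ((eY A).injective (congrArg Subtype.val h)))), fun V => by
    obtain ⟨h, hh⟩ := (hZ A ((eY A).symm V.1)).2 (((eY A).apply_symm_apply V.1).symm ▸ V.2)
    refine ⟨Over.homMk h (by
      show h ≫ ι ≫ Y.hom = _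
      rw [← Category.assoc, hh]; exact Over.w ((eY A).symm V.1)), Subtype.ext ?_⟩
    exact (congrArg (eY A) (Over.OverMorphism.ext hh)).trans ((eY A).apply_symm_apply _)⟩
  refine ⟨X₂, fun A => Equiv.ofBijective (Φ A) (hbij A), fun A B φ x x' h i => ?_, ?_⟩
  · exact congrFun (heY A B φ (x ≫ j) (x' ≫ j) (by
      show x'.left ≫ ι = _ ≫ x.left ≫ ι
      rw [h, Category.assoc])) i
  · show IsProper (ι ≫ Y.hom)
    infer_instance

end Groth.L18.GrassSub
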