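import Groth.Agent.L18.Grass.AffineHom
import Mathlib.RingTheory.Grassmannian
import Mathlib.LinearAlgebra.TensorProduct.RightExactness
import Mathlib.RingTheory.Ideal.Quotient.Operations
import Mathlib.RingTheory.Finiteness.Projective
import Mathlib.AlgebraicGeometry.Morphisms.ClosedImmersion

/-!
# Functoriality of Grassmannians in surjections of modules
-/

set_option autoImplicit false

universe u

open AlgebraicGeometry CategoryTheory CategoryTheory.Limits Module TensorProduct

namespace Groth.L18.GrassComap

variable {R : Type u} [CommRing R] {M₁ M₂ : Type u} [AddCommGroup M₁] [Module R M₁] [AddCommGroup M₂] [Module R M₂]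
  {v : M₁ →ₗ[R] M₂} (hv : Function.Surjective v) {k : ℕ} (A : Type u) [CommRing A] [Algebra R A]

include hv in
theorem baseChange_surj : Function.Surjective (v.baseChange A) := by
  intro z
  obtain ⟨y, hy⟩ := LinearMap.lTensor_surjective A hv z
  exact ⟨y, hy⟩

/-- the quotient by a pulled back submodule -/
noncomputable def quotComap (N : Submodule A (A ⊗[R] M₂)) :
    ((A ⊗[R] M₁) ⧸ N.comap (v.baseChange A)) ≃ₗ[A] (A ⊗[R] M₂) ⧸ N :=
  (Submodule.quotEquivOfEq _ _ (by rw [LinearMap.ker_comp, Submodule.ker_mkQ])).trans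
    (LinearMap.quotKerEquivOfSurjective (N.mkQ ∘ₗ v.baseChange A)
      ((Submodule.mkQ_surjective N).comp (baseChange_surj hv A)))

theorem quotComap_mk (N : Submodule A (A ⊗[R] M₂)) (y : A ⊗[R] M₁) :
    quotComap hv A N (Submodule.Quotient.mk y) = Submodule.Quotient.mk (v.baseChange A y) := rfl

/-- pull back of points along a surjection -/
noncomputable def comapPt (N : Module.Grassmannian A (A ⊗[R] M₂) k) : Module.Grassmannian A (A ⊗[R] M₁) k where
  toSubmodule := N.toSubmodule.comap (v.baseChange A)
  finite_quotient := Module.Finite.equiv (quotComap hv A N.toSubmodule).symm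
  projective_quotient := Module.Projective.of_equiv (quotComap hv A N.toSubmodule).symm
  rankAtStalk_eq p := by rw [congrFun (rankAtStalk_eq_of_equiv (quotComap hv A N.toSubmodule)) p, N.rankAtStalk_eq p]

theorem comapPt_injective : Function.Injective (comapPt (k := k) hv A) := fun _ _ h =>
  Module.Grassmannian.ext
    (Submodule.comap_injective_of_surjective (baseChange_surj hv A) (congrArg Module.Grassmannian.toSubmodule h))

variable {A} {B : Type u} [CommRing B] [Algebra R B]

theorem comapPt_map (φ : A →ₐ[R] B) (N : Module.Grassmannian A (A ⊗[R] M₂) k) :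
    Module.Grassmannian.map φ (comapPt hv A N) = comapPt hv B (Module.Grassmannian.map φ N) := by
  apply Module.Grassmannian.ext
  show _ = Submodule.comap _ (Module.Grassmannian.map φ N).toSubmodule
  rw [Module.Grassmannian.map_toSubmodule, Module.Grassmannian.map_toSubmodule]
  algebraize [φ.toRingHom]
  haveI : IsScalarTower R A B := IsScalarTower.of_algebraMap_eq' φ.comp_algebraMap.symm
  set q := quotComap hv A N.toSubmodule
  have key : Module.Grassmannian.baseChangeMkQ B N.toSubmodule ∘ₗ v.baseChange B =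
      (q.baseChange A B).toLinearMap ∘ₗ Module.Grassmannian.baseChangeMkQ B (comapPt hv A N).toSubmodule := by
    refine LinearMap.ext fun z => ?_
    induction z with
    | zero => simp
    | tmul b m =>
      simp [Module.Grassmannian.baseChangeMkQ, q, comapPt]
      rfl
    | add x y hx hy => simp only [map_add, hx, hy]
  have h := congrArg LinearMap.ker key
  rw [LinearEquiv.ker_comp, LinearMap.ker_comp] at h
  exact h.symm

/-- the ideal of the locus where a point comes from the quotient module -/
noncomputable def locus (v : M₁ →ₗ[R] M₂) (N : Module.Grassmannian A (A ⊗[R] M₁) k) : Ideal A :=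
  Ideal.span {a | ∃ (l : ((A ⊗[R] M₁) ⧸ N.toSubmodule) →ₗ[A] A) (m : M₁),
    v m = 0 ∧ l (N.toSubmodule.mkQ ((1 : A) ⊗ₜ[R] m)) = a}

theorem le_ker_iff (φ : A →ₐ[R] B) (N : Module.Grassmannian A (A ⊗[R] M₁) k) :
    locus v N ≤ RingHom.ker φ.toRingHom ↔
      ∀ m, v m = 0 → (1 : B) ⊗ₜ[R] m ∈ (Module.Grassmannian.map φ N).toSubmodule := by
  rw [Module.Grassmannian.map_toSubmodule]
  algebraize [φ.toRingHom]
  haveI : IsScalarTower R A B := IsScalarTower.of_algebraMap_eq' φ.comp_algebraMap.symm
  have hval : ∀ m : M₁, Module.Grassmannian.baseChangeMkQ B N.toSubmodule ((1 : B) ⊗ₜ[R] m) =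
      (1 : B) ⊗ₜ[A] N.toSubmodule.mkQ ((1 : A) ⊗ₜ[R] m) := fun m => by
    simp [Module.Grassmannian.baseChangeMkQ]
  constructor
  · intro h m hm
    show Module.Grassmannian.baseChangeMkQ B N.toSubmodule _ = 0
    rw [hval]
    obtain ⟨n, f, g, -, -, hfg⟩ := Module.Finite.exists_comp_eq_id_of_projective A ((A ⊗[R] M₁) ⧸ N.toSubmodule)
    set x := N.toSubmodule.mkQ ((1 : A) ⊗ₜ[R] m)
    have hx : x = ∑ i, g x i • f (Pi.single i 1) := by
      conv_lhs => rw [show x = f (g x) from (LinearMap.congr_fun hfg x).symm, pi_eq_sum_univ' (g x)]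
      simp only [map_sum, map_smul]
    rw [hx, TensorProduct.tmul_sum]
    refine Finset.sum_eq_zero fun i _ => ?_
    have h0 : φ.toRingHom (g x i) = 0 := h (Ideal.subset_span ⟨(LinearMap.proj i).comp g, m, hm, rfl⟩)
    rw [← TensorProduct.smul_tmul, Algebra.smul_def, show algebraMap A B (g x i) = 0 from h0, zero_mul,
      TensorProduct.zero_tmul]
  · intro h
    refine Ideal.span_le.2 ?_
    rintro _ ⟨l, m, hm, rfl⟩
    have h1 : (1 : B) ⊗ₜ[A] N.toSubmodule.mkQ ((1 : A) ⊗ₜ[R] m) = 0 := (hval m).symm.trans (h m hm)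
    have h2 := congrArg (fun z => TensorProduct.rid A B (LinearMap.lTensor B l z)) h1
    simp only [LinearMap.lTensor_tmul, TensorProduct.rid_tmul, map_zero] at h2
    rw [Algebra.smul_def, mul_one] at h2
    exact h2

include hv in
theorem exists_comapPt_iff (N : Module.Grassmannian A (A ⊗[R] M₁) k) :
    (∀ m, v m = 0 → (1 : A) ⊗ₜ[R] m ∈ N.toSubmodule) ↔ ∃ N₂, comapPt hv A N₂ = N := by
  constructor
  · intro h
    have hker : LinearMap.ker (v.baseChange A) ≤ N.toSubmodule := by
      intro z hz
      obtain ⟨y, rfl⟩ := (lTensor_exact A (LinearMap.exact_subtype_ker_map v) hv z).1 hz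
      clear hz
      induction y with
      | zero => simp
      | tmul a y =>
        rw [LinearMap.lTensor_tmul, show a ⊗ₜ[R] ((LinearMap.ker v).subtype y) = a • ((1 : A) ⊗ₜ[R] (y : M₁)) by
          rw [TensorProduct.smul_tmul', smul_eq_mul, mul_one]; rfl]
        exact N.toSubmodule.smul_mem a (h y y.2)
      | add x y hx hy => rw [map_add]; exact add_mem hx hy
    have hcm : (N.toSubmodule.map (v.baseChange A)).comap (v.baseChange A) = N.toSubmodule :=
      Submodule.comap_map_eq_self hker
    let e : ((A ⊗[R] M₁) ⧸ N.toSubmodule) ≃ₗ[A] (A ⊗[R] M₂) ⧸ N.toSubmodule.map (v.baseChange A) :=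
      (Submodule.quotEquivOfEq _ _ hcm.symm).trans (quotComap hv A _)
    refine ⟨{ toSubmodule := N.toSubmodule.map (v.baseChange A)
              finite_quotient := Module.Finite.equiv e
              projective_quotient := Module.Projective.of_equiv e
              rankAtStalk_eq := fun p => by
                rw [← congrFun (rankAtStalk_eq_of_equiv e) p, N.rankAtStalk_eq p] }, Module.Grassmannian.ext hcm⟩
  · rintro ⟨N₂, rfl⟩ m hm
    show v.baseChange A ((1 : A) ⊗ₜ[R] m) ∈ N₂.toSubmodule
    rw [LinearMap.baseChange_tmul, hm, TensorProduct.tmul_zero]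
    exact zero_mem _

end Groth.L18.GrassComap
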