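import Groth.Agent.L18.Grass.MapEpi
import Groth.Agent.L29.DCoh.QCohLocal
import Mathlib.AlgebraicGeometry.ResidueField

/-!
# Away from a sub-bundle the tautological quotient restricts to a quotient of the kernel
-/

set_option backward.isDefEq.respectTransparency false
set_option backward.isDefEq.respectTransparency.types false

universe u

open CategoryTheory CategoryTheory.Limits AlgebraicGeometry Opposite TopologicalSpace

noncomputable section

namespace Groth.L18.Disjoint

/-- A morphism out of an invertible module killing a unit section vanishes where that section is a unit. -/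
theorem app_eq_zero_of_unit {T : Scheme.{u}} {M L Z : T.Modules} (σ : M ⟶ L)
    (t : L ≅ Coh.structureModule T) (k : L ⟶ Z) (h : σ ≫ k = 0) (m : Γ(M, ⊤)) {V : T.Opens}
    (hV : V ≤ T.basicOpen ((σ ≫ t.hom).app ⊤ m)) (s : Γ(L, V)) : k.app V s = 0 := by
  let a : Γ(T, ⊤) := (σ ≫ t.hom).app ⊤ m
  let m' : Γ(M, V) := M.presheaf.map (homOfLE le_top).op m
  let a' : Γ(T, V) := T.presheaf.map (homOfLE le_top).op a
  let c : Γ(T, V) := t.hom.app V s
  have hu : IsUnit a' := by
    have h1 := (T.toRingedSpace.isUnit_res_basicOpen a).map (T.presheaf.map (homOfLE hV).op).hom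
    have e : a' = T.presheaf.map (homOfLE hV).op (T.presheaf.map (homOfLE (le_top : T.basicOpen a ≤ ⊤)).op a) :=
      ConcreteCategory.congr_hom (T.presheaf.map_comp (homOfLE (le_top : T.basicOpen a ≤ ⊤)).op (homOfLE hV).op) a
    rw [e]
    exact h1
  have hm : t.hom.app V (σ.app V m') = a' :=
    congr($((σ ≫ t.hom).mapPresheaf.naturality (homOfLE (le_top : V ≤ ⊤)).op) m)
  have hinv : ∀ y : Γ(L, V), t.inv.app V (t.hom.app V y) = y := fun y =>
    congrArg (fun q : L ⟶ L => q.app V y) t.hom_inv_id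
  have hs : s = (c * ↑hu.unit⁻¹) • σ.app V m' := by
    rw [← hinv s, ← hinv ((c * ↑hu.unit⁻¹) • σ.app V m')]
    refine congrArg (t.inv.app V) ?_
    rw [Scheme.Modules.Hom.app_smul, hm]
    show c = c * ↑hu.unit⁻¹ * a'
    rw [_root_.mul_assoc, IsUnit.val_inv_mul, _root_.mul_one]
  rw [hs, Scheme.Modules.Hom.app_smul]
  have h0 : k.app V (σ.app V m') = 0 := congrArg (fun q : M ⟶ Z => q.app V m') h
  rw [h0, smul_zero]

theorem epi_restrict_comp {X P PB : Scheme.{u}} {π : P ⟶ X} {πB : PB ⟶ X} {E B A : X.Modules}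
    {O1 : P.Modules} {q : (Scheme.Modules.pullback π).obj E ⟶ O1} (hP : Grass.IsGrass π E 1 O1 q)
    {O1B : PB.Modules} {qB : (Scheme.Modules.pullback πB).obj B ⟶ O1B} (hPB : Grass.IsGrass πB B 1 O1B qB)
    (g : E ⟶ B) [Epi g] (i : A ⟶ E) [Coh.IsQCoh A] (hi : ∃ θ : kernel g ⟶ A, θ ≫ i = kernel.ι g)
    (W : P.Opens) (hW : Disjoint (W : Set P) (Set.range (hP.mapOfEpi hPB g).base)) :
    Epi ((Scheme.Modules.pullback W.ι).map ((Scheme.Modules.pullback π).map i ≫ q)) := by
  let σ := (Scheme.Modules.pullback π).map i ≫ q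
  let adj := Scheme.Modules.pullbackPushforwardAdjunction W.ι
  haveI : Coh.IsQCoh ((Scheme.Modules.pullback π).obj A) := Groth.L16.AffineBC.isQCoh_pullback π A
  refine Preadditive.epi_of_cancel_zero _ fun {Z} k hk => ?_
  obtain ⟨k', rfl⟩ : ∃ k', (adj.homEquiv _ _).symm k' = k := ⟨_, (adj.homEquiv _ _).symm_apply_apply k⟩
  have hk' : σ ≫ k' = 0 := by
    apply (adj.homEquiv _ _).symm.injective
    rw [Adjunction.homEquiv_naturality_left_symm]
    refine hk.trans ?_
    rw [Adjunction.homEquiv_counit, Functor.map_zero, zero_comp]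
  have hloc : ∀ x ∈ W, ∃ D : P.Opens, x ∈ D ∧ ∀ U : P.Opens, U ≤ D → ∀ s : Γ(O1, U), k'.app U s = 0 := by
    intro x hxW
    obtain ⟨U₀, hxU, ⟨iU⟩⟩ := hP.rank x
    obtain ⟨_, ⟨W₀, hW₀, rfl⟩, hxW', hWU⟩ :=
      P.isBasis_affineOpens.exists_subset_of_mem_open (show x ∈ ((W ⊓ U₀ : P.Opens) : Set P) from ⟨hxW, hxU⟩)
        (W ⊓ U₀).isOpen
    obtain ⟨T, rfl⟩ : ∃ T : P.Opens, T = W₀ := ⟨W₀, rfl⟩
    haveI : IsAffine T := hW₀
    obtain ⟨iT⟩ := Groth.L29.LocFree.restrict_le (show T ≤ U₀ from fun y hy => (hWU hy).2) iU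
    let e₁ : FlatMod.freeMod (↑T) 1 ≅ Coh.structureModule ↑T :=
      { hom := Groth.L18.MapEpi.coord ↑T 1 0
        inv := Sigma.ι (fun _ : Fin 1 => Coh.structureModule (↑T : Scheme.{u})) 0
        hom_inv_id := by
          have := Groth.L18.MapEpi.sum_coord (↑T : Scheme.{u}) 1
          rwa [Fin.sum_univ_one] at this
        inv_hom_id := by simp [Groth.L18.MapEpi.coord] }
    let t : O1.restrict T.ι ≅ Coh.structureModule ↑T := iT ≪≫ e₁
    let R := Scheme.Modules.restrictFunctor T.ι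
    let ρ := Scheme.Modules.restrictFunctorIsoPullback T.ι
    haveI : Coh.IsQCoh (R.obj ((Scheme.Modules.pullback π).obj A)) := by
      haveI : Coh.IsQCoh ((Scheme.Modules.pullback T.ι).obj ((Scheme.Modules.pullback π).obj A)) :=
        Groth.L16.AffineBC.isQCoh_pullback _ _
      exact Groth.L29.DC.isQCoh_of_iso' (ρ.app _).symm inferInstance
    let x' : (T : Scheme.{u}) := ⟨x, hxW'⟩
    let p : Spec ((T : Scheme.{u}).residueField x') ⟶ T := (T : Scheme.{u}).fromSpecResidueField x'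
    obtain ⟨m, hm⟩ : ∃ m, p.appTop ((R.map σ ≫ t.hom).app ⊤ m) ≠ 0 := by
      by_contra! hall
      have h1 : (Scheme.Modules.pullback p).map (R.map σ) = 0 := by
        have h2 := (Groth.L18.MapEpi.map_eq_zero_iff_app (R.map σ ≫ t.hom) p).2 hall
        rw [Functor.map_comp] at h2
        exact zero_of_comp_mono _ h2
      have h3 : (Scheme.Modules.pullback p).map ((Scheme.Modules.pullback T.ι).map σ) = 0 := by
        apply zero_of_epi_comp ((Scheme.Modules.pullback p).map (ρ.hom.app _))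
        rw [← Functor.map_comp, ← ρ.hom.naturality σ, Functor.map_comp, h1, zero_comp]
      have h4 : (Scheme.Modules.pullback (p ≫ T.ι)).map σ = 0 := by
        have n := (Scheme.Modules.pullbackComp p T.ι).hom.naturality σ
        rw [Functor.comp_map, h3, zero_comp] at n
        exact zero_of_epi_comp _ n.symm
      obtain ⟨θ, hθ⟩ := hi
      obtain ⟨b, hb⟩ := Groth.L18.MapEpi.exists_factor hP hPB g (p ≫ T.ι) (by
        rw [← hθ, Functor.map_comp (Scheme.Modules.pullback π), Category.assoc, Functor.map_comp, h4, comp_zero])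
      let z : Spec ((T : Scheme.{u}).residueField x') := IsLocalRing.closedPoint _
      refine Set.disjoint_left.1 hW hxW ⟨b.base z, ?_⟩
      show (b ≫ hP.mapOfEpi hPB g).base z = x
      rw [hb]
      show T.ι (p z) = x
      rw [Scheme.fromSpecResidueField_apply]
      rfl
    let a := (R.map σ ≫ t.hom).app ⊤ m
    refine ⟨T.ι ''ᵁ ((T : Scheme.{u}).basicOpen a), ?_, fun U hU s => ?_⟩
    · refine ⟨x', ?_, rfl⟩
      have hu : IsUnit (p.appTop a) := by
        let φ := (Scheme.ΓSpecIso ((T : Scheme.{u}).residueField x')).commRingCatIsoToRingEquiv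
        have h1 : φ (p.appTop a) ≠ 0 := fun h => hm (φ.injective (h.trans (map_zero φ).symm))
        have h2 := (IsUnit.mk0 _ h1).map φ.symm
        rwa [RingEquiv.symm_apply_apply] at h2
      have h3 : IsLocalRing.closedPoint _ ∈ p ⁻¹ᵁ (T : Scheme.{u}).basicOpen a := by
        rw [Scheme.preimage_basicOpen_top, Scheme.basicOpen_of_isUnit _ hu]
        trivial
      have h4 : p (IsLocalRing.closedPoint _) ∈ (T : Scheme.{u}).basicOpen a := h3
      rwa [Scheme.fromSpecResidueField_apply] at h4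
    · obtain ⟨V, hV, rfl⟩ : ∃ V, V ≤ (T : Scheme.{u}).basicOpen a ∧ T.ι ''ᵁ V = U :=
        ⟨T.ι ⁻¹ᵁ U, fun y hy => by
          obtain ⟨y', hy', e⟩ := hU hy
          obtain rfl : y' = y := T.ι.isOpenEmbedding.injective e
          exact hy',
          TopologicalSpace.Opens.ext (Set.image_preimage_eq_of_subset fun y hy => by
            obtain ⟨y', -, e⟩ := hU hy
            exact ⟨y', e⟩)⟩
      exact app_eq_zero_of_unit (R.map σ) t (R.map k') (by rw [← Functor.map_comp, hk', Functor.map_zero]) m hV s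
  have : k' = 0 := by
    refine Scheme.Modules.hom_ext _ _ fun U => ConcreteCategory.hom_ext _ _ fun s => ?_
    show k'.app U s = 0
    refine TopCat.Presheaf.section_ext ⟨Z.presheaf, Z.isSheaf⟩ (W.ι ⁻¹ᵁ U) _ _ fun y hy => ?_
    obtain ⟨D, hxD, hD⟩ := hloc (W.ι y) y.2
    have hUD : U ⊓ D ≤ U := inf_le_left
    have e1 := congr($(k'.mapPresheaf.naturality (homOfLE hUD).op) s)
    have e2 : k'.app (U ⊓ D) (O1.presheaf.map (homOfLE hUD).op s) = 0 := hD _ inf_le_right _
    have e3 : Z.presheaf.map (homOfLE (W.ι.preimage_mono hUD)).op (k'.app U s) = 0 := e1.symm.trans e2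
    have hy' : y ∈ W.ι ⁻¹ᵁ (U ⊓ D) := ⟨hy, hxD⟩
    refine ((TopCat.Presheaf.germ_res_apply Z.presheaf (homOfLE (W.ι.preimage_mono hUD)) y hy' _).symm.trans ?_).trans
      (map_zero _).symm
    exact (congrArg (Z.presheaf.germ (W.ι ⁻¹ᵁ (U ⊓ D)) y hy') e3).trans (map_zero _)
  rw [this, Adjunction.homEquiv_counit, Functor.map_zero, zero_comp]

end Groth.L18.Disjoint
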