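import Groth.Agent.L18.Grass.MapEpi

/-!
# One more step of a flag scheme is a Grassmannian over the truncated flag scheme
-/

set_option backward.isDefEq.respectTransparency false
set_option backward.isDefEq.respectTransparency.types false

universe u

open CategoryTheory CategoryTheory.Limits AlgebraicGeometry Opposite

noncomputable section

namespace Groth.L18.FlagGrass

open Groth.L18.MapEpi

theorem quotBC_trans {X G H T : Scheme.{u}} {π : G ⟶ X} {π' : H ⟶ X} {c : H ⟶ G} (hc : c ≫ π = π')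
    {a : T ⟶ H} {g : T ⟶ X} (ha : a ≫ π' = g) {h : T ⟶ G} (hg : a ≫ c = h) (hh : h ≫ π = g)
    {E : X.Modules} {Q : G.Modules} {R : H.Modules} (q : (Scheme.Modules.pullback π).obj E ⟶ Q)
    (Φ : (Scheme.Modules.pullback c).obj Q ⟶ R) :
    Grass.quotBC hh q ≫ Grass.quotBC hg Φ = Grass.quotBC ha (Grass.quotBC hc q ≫ Φ) := by
  subst hg
  rw [quotBC_comp_right, ← quotBC_quotBC hc ha hh]
  simp [Grass.quotBC, Scheme.Modules.pullbackCongr]

theorem isIso_quotBC {X G T : Scheme.{u}} {π : G ⟶ X} {E : X.Modules} {Q : G.Modules} {h : T ⟶ G}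
    {g : T ⟶ X} (hg : h ≫ π = g) (q : (Scheme.Modules.pullback π).obj E ⟶ Q) [IsIso q] :
    IsIso (Grass.quotBC hg q) := by
  unfold Grass.quotBC
  infer_instance

theorem isGrass_of_isFlag {X F F' : Scheme.{u}} {π : F ⟶ X} {π' : F' ⟶ X} {E : X.Modules} {m : ℕ}
    {n : Fin (m + 2) → ℕ} {Q : Fin (m + 1) → F.Modules} {q : ∀ i, (Scheme.Modules.pullback π).obj E ⟶ Q i}
    (hF : Grass.IsFlag π E (fun i => n (Fin.castSucc i)) Q q)
    {Q' : Fin (m + 2) → F'.Modules} {q' : ∀ i, (Scheme.Modules.pullback π').obj E ⟶ Q' i}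
    (hF' : Grass.IsFlag π' E n Q' q') (c : F' ⟶ F) (hc : c ≫ π = π')
    (θ : ∀ i, (Scheme.Modules.pullback c).obj (Q i) ≅ Q' (Fin.castSucc i))
    (hθ : ∀ i, Grass.quotBC hc (q i) ≫ (θ i).hom = q' (Fin.castSucc i))
    (t : Q' (Fin.castSucc (Fin.last m)) ⟶ Q' (Fin.last (m + 1)))
    (ht : q' (Fin.castSucc (Fin.last m)) ≫ t = q' (Fin.last (m + 1))) :
    Grass.IsGrass c (Q (Fin.last m)) (n (Fin.last (m + 1))) (Q' (Fin.last (m + 1)))
      ((θ (Fin.last m)).hom ≫ t) where
  rank := hF'.rank _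
  epi := by
    haveI : Epi (q' (Fin.castSucc (Fin.last m)) ≫ t) := ht ▸ hF'.epi _
    haveI := epi_of_epi (q' (Fin.castSucc (Fin.last m))) t
    infer_instance
  univ := by
    intro T h L hL s hs
    let P := Σ A : T.Modules, (Scheme.Modules.pullback (h ≫ π)).obj E ⟶ A
    let s₀ : ∀ i, (Scheme.Modules.pullback (h ≫ π)).obj E ⟶ (Scheme.Modules.pullback h).obj (Q i) :=
      fun i => Grass.quotBC (rfl : h ≫ π = h ≫ π) (q i)
    haveI hs₀ : ∀ i, Epi (s₀ i) := fun i => haveI := hF.epi i; epi_quotBC _ _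
    let p : Fin (m + 2) → P := Fin.lastCases (motive := fun _ => P) ⟨L, s₀ (Fin.last m) ≫ s⟩
      (fun i => ⟨(Scheme.Modules.pullback h).obj (Q i), s₀ i⟩)
    have p_last : p (Fin.last (m + 1)) = ⟨L, s₀ (Fin.last m) ≫ s⟩ := Fin.lastCases_last
    have p_cast : ∀ i, p (Fin.castSucc i) = ⟨(Scheme.Modules.pullback h).obj (Q i), s₀ i⟩ :=
      fun i => Fin.lastCases_castSucc i
    have hrank : ∀ i, FlatMod.IsFinLocFreeOfRank (n i) (p i).1 := fun i => by
      refine Fin.lastCases ?_ (fun j => ?_) i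
      · rw [p_last]; exact hL
      · rw [p_cast]; exact isFinLocFreeOfRank_pullback h (hF.rank j)
    have hepi : ∀ i, Epi (p i).2 := fun i => by
      refine Fin.lastCases ?_ (fun j => ?_) i
      · rw [p_last]; exact epi_comp _ _
      · rw [p_cast]; exact hs₀ j
    have hnest : ∀ i j, i ≤ j → ∃ u : (p i).1 ⟶ (p j).1, (p i).2 ≫ u = (p j).2 := by
      intro i
      refine Fin.lastCases ?_ (fun i' => ?_) i
      · intro j hj
        rw [Fin.last_le_iff] at hj
        subst hj
        exact ⟨𝟙 _, Category.comp_id _⟩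
      · intro j hij
        revert hij
        refine Fin.lastCases ?_ (fun j' => ?_) j
        · intro _
          obtain ⟨u, hu⟩ := hF.nested i' (Fin.last m) (Fin.le_last _)
          rw [p_cast, p_last]
          exact ⟨(Scheme.Modules.pullback h).map u ≫ s,
            by rw [← Category.assoc, ← quotBC_comp_right, hu]⟩
        · intro hij
          obtain ⟨u, hu⟩ := hF.nested i' j' (Fin.castSucc_le_castSucc_iff.1 hij)
          rw [p_cast, p_cast]
          exact ⟨(Scheme.Modules.pullback h).map u, by rw [← quotBC_comp_right, hu]⟩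
    obtain ⟨a, ⟨ha, e, he⟩, huniq⟩ :=
      hF'.univ T (h ≫ π) (fun i => (p i).1) hrank (fun i => (p i).2) hepi hnest
    have hcast : ∀ i, ∃ e₀ : (Scheme.Modules.pullback a).obj (Q' (Fin.castSucc i)) ≅
        (Scheme.Modules.pullback h).obj (Q i), Grass.quotBC ha (q' (Fin.castSucc i)) ≫ e₀.hom = s₀ i := fun i => by
      have h1 : ∃ e₀ : (Scheme.Modules.pullback a).obj (Q' (Fin.castSucc i)) ≅ (p (Fin.castSucc i)).1,
          Grass.quotBC ha (q' (Fin.castSucc i)) ≫ e₀.hom = (p (Fin.castSucc i)).2 := ⟨e _, he _⟩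
      rw [p_cast] at h1
      exact h1
    choose e₀ he₀ using hcast
    have hac : (a ≫ c) ≫ π = h ≫ π := by rw [Category.assoc, hc, ha]
    have hah : a ≫ c = h := by
      refine (hF.univ T (h ≫ π) _ (fun i => isFinLocFreeOfRank_pullback h (hF.rank i)) s₀ hs₀ ?_).unique
        ⟨hac, fun i => ((Scheme.Modules.pullbackComp a c).app (Q i)).symm ≪≫
          (Scheme.Modules.pullback a).mapIso (θ i) ≪≫ e₀ i, fun i => ?_⟩
        ⟨rfl, fun i => Iso.refl _, fun i => Category.comp_id _⟩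
      · intro i j hij
        obtain ⟨u, hu⟩ := hF.nested i j hij
        exact ⟨(Scheme.Modules.pullback h).map u, by rw [← quotBC_comp_right, hu]⟩
      · rw [← he₀ i, ← hθ i, quotBC_comp_right, ← quotBC_quotBC hc ha hac]
        simp only [Iso.trans_hom, Iso.symm_hom, Iso.app_inv, Functor.mapIso_hom, Category.assoc]
        erw [Iso.hom_inv_id_app_assoc]
    have key : ∀ (b : T ⟶ F') (hb : b ≫ π' = h ≫ π) (hbc : b ≫ c = h),
        s₀ (Fin.last m) ≫ Grass.quotBC hbc ((θ (Fin.last m)).hom ≫ t) =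
          Grass.quotBC hb (q' (Fin.last (m + 1))) := fun b hb hbc => by
      rw [quotBC_trans hc hb hbc rfl, ← Category.assoc, hθ, ht]
    refine ⟨a, ⟨hah, ?_⟩, ?_⟩
    · have h1 : ∃ e₁ : (Scheme.Modules.pullback a).obj (Q' (Fin.last (m + 1))) ≅ (p (Fin.last (m + 1))).1,
          Grass.quotBC ha (q' (Fin.last (m + 1))) ≫ e₁.hom = (p (Fin.last (m + 1))).2 := ⟨e _, he _⟩
      rw [p_last] at h1
      obtain ⟨e₁, he₁⟩ := h1
      refine ⟨e₁, ?_⟩
      rw [← cancel_epi (s₀ (Fin.last m)), ← Category.assoc, key a ha hah, he₁]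
    · rintro b ⟨hbc, e', he'⟩
      have hb : b ≫ π' = h ≫ π := by rw [← hc, ← Category.assoc, hbc]
      have hE : ∀ i, ∃ ei : (Scheme.Modules.pullback b).obj (Q' i) ≅ (p i).1,
          Grass.quotBC hb (q' i) ≫ ei.hom = (p i).2 := fun i => by
        refine Fin.lastCases ?_ (fun j => ?_) i
        · rw [p_last]
          exact ⟨e', (congrArg (· ≫ e'.hom) (key b hb hbc)).symm.trans
            ((Category.assoc _ _ _).trans (congrArg (s₀ (Fin.last m) ≫ ·) he'))⟩
        · rw [p_cast]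
          haveI : IsIso (Grass.quotBC hbc (θ j).hom) := isIso_quotBC _ _
          refine ⟨(asIso (Grass.quotBC hbc (θ j).hom)).symm, ?_⟩
          rw [Iso.symm_hom, asIso_inv, IsIso.comp_inv_eq, quotBC_trans hc hb hbc rfl, hθ]
      choose ei hei using hE
      exact huniq b ⟨hb, ei, hei⟩

end Groth.L18.FlagGrass
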