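import Groth.Agent.L18.Grass.Flag
import Groth.Agent.L18.Grass.QuotExist
import Groth.Agent.L29.DCoh.PCQCoh

/-!
# Partial flag schemes exist
-/

set_option autoImplicit false
set_option linter.style.haveILetI false
set_option backward.isDefEq.respectTransparency false
set_option backward.isDefEq.respectTransparency.types false

universe u

open CategoryTheory CategoryTheory.Limits AlgebraicGeometry

noncomputable section

namespace Groth.L18.FlagBuild

open Groth.L18.MapEpi Groth.L18.FlagGrass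

theorem isQCoh_of_rank {X : Scheme.{u}} {M : X.Modules} {r : ℕ} (h : FlatMod.IsFinLocFreeOfRank r M) :
    Coh.IsQCoh M :=
  Groth.L29.DC.PCQCoh.isQCoh_of_isFinLocFree fun y => (h y).imp fun _ hO => ⟨r, hO⟩

theorem isGrass_of_isFlag_one {X F : Scheme.{u}} {π : F ⟶ X} {E : X.Modules} {n : Fin 1 → ℕ} {Q : Fin 1 → F.Modules}
    {q : ∀ i, (Scheme.Modules.pullback π).obj E ⟶ Q i} (hF : Grass.IsFlag π E n Q q) :
    Grass.IsGrass π E (n 0) (Q 0) (q 0) where
  rank := hF.rank 0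
  epi := hF.epi 0
  univ T g L hL s hs := by
    obtain ⟨h, ⟨hg, e, he⟩, huniq⟩ := hF.univ T g (fun _ => L) (fun i => by rwa [Subsingleton.elim i 0]) (fun _ => s)
      (fun _ => hs) (fun _ _ _ => ⟨𝟙 _, Category.comp_id _⟩)
    refine ⟨h, ⟨hg, e 0, he 0⟩, fun h' hh' => ?_⟩
    obtain ⟨hg', e', he'⟩ := hh'
    refine huniq h' ⟨hg', fun i => Fin.cases (motive := fun i => (Scheme.Modules.pullback h').obj (Q i) ≅ L) e'
      (fun j => j.elim0) i, fun i => ?_⟩
    exact Fin.cases he' (fun j => j.elim0) i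

theorem chain {C : Type*} [Category C] {a b c d x : C} (A : a ⟶ b) (B : b ⟶ c) (e : c ≅ d) (f : c ⟶ x) :
    (A ≫ B ≫ e.hom) ≫ e.inv ≫ f = A ≫ B ≫ f := by simp

/-- The empty flag scheme is the base. -/
theorem isFlag_empty (X : Scheme.{u}) (E : X.Modules) {n : Fin 0 → ℕ} (Q : Fin 0 → X.Modules)
    (q : ∀ i, (Scheme.Modules.pullback (𝟙 X)).obj E ⟶ Q i) : Grass.IsFlag (𝟙 X) E n Q q where
  rank i := i.elim0
  epi i := i.elim0
  nested i := i.elim0
  univ T g L hL s hs hn := ⟨g, ⟨Category.comp_id g, fun i => i.elim0, fun i => i.elim0⟩,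
    fun h ⟨hg, _⟩ => (Category.comp_id h).symm.trans hg⟩

/-- A Grassmannian of the last quotient over a flag scheme is a flag scheme. -/
theorem isFlag_of_isGrass {X F F' : Scheme.{u}} {π : F ⟶ X} {π' : F' ⟶ X} {E : X.Modules} {m : ℕ}
    {n : Fin (m + 2) → ℕ} {Q : Fin (m + 1) → F.Modules} {q : ∀ i, (Scheme.Modules.pullback π).obj E ⟶ Q i}
    (hF : Grass.IsFlag π E (fun i => n (Fin.castSucc i)) Q q)
    (c : F' ⟶ F) (hc : c ≫ π = π') {R : F'.Modules}
    {φ : (Scheme.Modules.pullback c).obj (Q (Fin.last m)) ⟶ R}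
    (hR : Grass.IsGrass c (Q (Fin.last m)) (n (Fin.last (m + 1))) R φ)
    (Q' : Fin (m + 2) → F'.Modules) (q' : ∀ i, (Scheme.Modules.pullback π').obj E ⟶ Q' i)
    (hlast : ∃ ε : R ≅ Q' (Fin.last (m + 1)),
      (Grass.quotBC hc (q (Fin.last m)) ≫ φ) ≫ ε.hom = q' (Fin.last (m + 1)))
    (hcast : ∀ i, ∃ θ : (Scheme.Modules.pullback c).obj (Q i) ≅ Q' (Fin.castSucc i),
      Grass.quotBC hc (q i) ≫ θ.hom = q' (Fin.castSucc i)) :
    Grass.IsFlag π' E n Q' q' := by
  obtain ⟨ε, hε⟩ := hlast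
  choose θ hθ using hcast
  haveI := hR.epi
  have hrank : ∀ i, FlatMod.IsFinLocFreeOfRank (n i) (Q' i) := fun i => by
    refine Fin.lastCases ?_ (fun j => ?_) i
    · exact fun y => (hR.rank y).imp fun O h => ⟨h.1, h.2.map fun i =>
        (Scheme.Modules.restrictFunctor O.ι).mapIso ε.symm ≪≫ i⟩
    · exact fun y => (isFinLocFreeOfRank_pullback c (hF.rank j) y).imp fun O h => ⟨h.1, h.2.map fun i =>
        (Scheme.Modules.restrictFunctor O.ι).mapIso (θ j).symm ≪≫ i⟩
  have hepi : ∀ i, Epi (q' i) := fun i => by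
    refine Fin.lastCases ?_ (fun j => ?_) i
    · rw [← hε]
      haveI := hF.epi (Fin.last m)
      haveI := epi_quotBC hc (q (Fin.last m))
      infer_instance
    · rw [← hθ]
      haveI := hF.epi j
      haveI := epi_quotBC hc (q j)
      infer_instance
  have hnested : ∀ i j, i ≤ j → ∃ t : Q' i ⟶ Q' j, q' i ≫ t = q' j := by
    intro i
    refine Fin.lastCases ?_ (fun i' => ?_) i
    · intro j hj
      rw [Fin.last_le_iff] at hj
      subst hj
      exact ⟨𝟙 _, Category.comp_id _⟩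
    · intro j
      refine Fin.lastCases ?_ (fun j' => ?_) j
      · intro _
        obtain ⟨u, hu⟩ := hF.nested i' (Fin.last m) (Fin.le_last _)
        refine ⟨(θ i').inv ≫ (Scheme.Modules.pullback c).map u ≫ φ ≫ ε.hom, ?_⟩
        rw [← hθ, ← hε, ← hu, quotBC_comp_right]
        simp only [Category.assoc, Iso.hom_inv_id_assoc]
      · intro hij
        obtain ⟨u, hu⟩ := hF.nested i' j' (Fin.castSucc_le_castSucc_iff.1 hij)
        refine ⟨(θ i').inv ≫ (Scheme.Modules.pullback c).map u ≫ (θ j').hom, ?_⟩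
        rw [← hθ, ← hθ, ← hu, quotBC_comp_right]
        simp only [Category.assoc, Iso.hom_inv_id_assoc]
  refine ⟨hrank, hepi, hnested, fun T g L hL s hs hn => ?_⟩
  have hn' : ∀ i j, i ≤ j → ∃ t : L (Fin.castSucc i) ⟶ L (Fin.castSucc j), s (Fin.castSucc i) ≫ t = s (Fin.castSucc j) :=
    fun i j h => hn _ _ (Fin.castSucc_le_castSucc_iff.2 h)
  obtain ⟨h, ⟨hh, e, he⟩, hhu⟩ := hF.univ T g (fun i => L (Fin.castSucc i)) (fun i => hL _)
    (fun i => s (Fin.castSucc i)) (fun i => hs _) hn'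
  obtain ⟨t, ht⟩ := hn (Fin.castSucc (Fin.last m)) (Fin.last (m + 1)) (Fin.le_last _)
  haveI hte : Epi t := by
    haveI : Epi (s (Fin.castSucc (Fin.last m)) ≫ t) := ht ▸ hs _
    exact epi_of_epi (s (Fin.castSucc (Fin.last m))) t
  obtain ⟨a, ⟨ha, θa, hθa⟩, hau⟩ := hR.univ T h (L (Fin.last (m + 1))) (hL _) ((e (Fin.last m)).hom ≫ t) inferInstance
  have ha' : a ≫ π' = g := by rw [← hc, ← Category.assoc, ha, hh]
  have key : ∀ (b : T ⟶ F') (hb : b ≫ π' = g) (hbc : b ≫ c = h),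
      Grass.quotBC hb (q' (Fin.last (m + 1))) =
        Grass.quotBC hh (q (Fin.last m)) ≫ Grass.quotBC hbc φ ≫ (Scheme.Modules.pullback b).map ε.hom :=
    fun b hb hbc => by rw [← hε, quotBC_comp_right, ← quotBC_trans hc hb hbc hh, Category.assoc]
  have hA : ∀ i, ∃ ei : (Scheme.Modules.pullback a).obj (Q' i) ≅ L i, Grass.quotBC ha' (q' i) ≫ ei.hom = s i := fun i => by
    refine Fin.lastCases ?_ (fun j => ?_) i
    · refine ⟨(Scheme.Modules.pullback a).mapIso ε.symm ≪≫ θa, ?_⟩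
      rw [key a ha' ha]
      refine (chain _ _ ((Scheme.Modules.pullback a).mapIso ε) θa.hom).trans ?_
      rw [hθa, ← Category.assoc, he, ht]
    · refine ⟨(Scheme.Modules.pullback a).mapIso (θ j).symm ≪≫ (Scheme.Modules.pullbackComp a c).app (Q j) ≪≫
        (Scheme.Modules.pullbackCongr ha).app (Q j) ≪≫ e j, ?_⟩
      rw [← hθ, quotBC_comp_right, ← he j]
      subst ha
      rw [Iso.trans_hom, Iso.trans_hom, Iso.trans_hom, Functor.mapIso_hom, Iso.symm_hom, Category.assoc,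
        ← (Scheme.Modules.pullback a).map_comp_assoc, Iso.hom_inv_id, CategoryTheory.Functor.map_id,
        Category.id_comp]
      rw [show ((Scheme.Modules.pullbackCongr (rfl : a ≫ c = a ≫ c)).app (Q j)).hom = 𝟙 _ by
        simp [Scheme.Modules.pullbackCongr], Category.id_comp, Iso.app_hom, ← Category.assoc, quotBC_quotBC hc ha' hh]
  choose ea hea using hA
  refine ⟨a, ⟨ha', ea, hea⟩, fun b ⟨hb, eb, heb⟩ => ?_⟩
  have hbc : b ≫ c = h := hhu (b ≫ c) ⟨by rw [Category.assoc, hc, hb], fun j =>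
    ((Scheme.Modules.pullbackComp b c).app (Q j)).symm ≪≫ (Scheme.Modules.pullback b).mapIso (θ j) ≪≫
      eb (Fin.castSucc j), fun j => by
      rw [← heb (Fin.castSucc j), ← hθ j, quotBC_comp_right,
        ← quotBC_quotBC hc hb (show (b ≫ c) ≫ π = g by rw [Category.assoc, hc, hb])]
      simp only [Iso.trans_hom, Iso.symm_hom, Iso.app_inv, Functor.mapIso_hom, Category.assoc]
      erw [Iso.hom_inv_id_app_assoc]⟩
  refine hau b ⟨hbc, (Scheme.Modules.pullback b).mapIso ε ≪≫ eb (Fin.last (m + 1)), ?_⟩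
  haveI := hF.epi (Fin.last m)
  haveI := epi_quotBC hh (q (Fin.last m))
  rw [← cancel_epi (Grass.quotBC hh (q (Fin.last m))), Iso.trans_hom, Functor.mapIso_hom]
  rw [show Grass.quotBC hh (q (Fin.last m)) ≫ Grass.quotBC hbc φ ≫ (Scheme.Modules.pullback b).map ε.hom ≫
    (eb (Fin.last (m + 1))).hom = Grass.quotBC hb (q' (Fin.last (m + 1))) ≫ (eb (Fin.last (m + 1))).hom by
      rw [key b hb hbc]; simp only [Category.assoc]]
  rw [heb, ← Category.assoc, he, ht]

/-- Flag schemes of locally free modules exist. -/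
theorem exists_isFlag {X : Scheme.{u}} (E : X.Modules) [Coh.IsQCoh E] : ∀ {m : ℕ} (n : Fin m → ℕ),
    ∃ (F : Scheme.{u}) (π : F ⟶ X) (Q : Fin m → F.Modules) (q : ∀ i, (Scheme.Modules.pullback π).obj E ⟶ Q i),
      Grass.IsFlag π E n Q q
  | 0, n => ⟨X, 𝟙 X, fun i => i.elim0, fun i => i.elim0, isFlag_empty X E _ _⟩
  | 1, n => by
    obtain ⟨F, π, Q, q, h⟩ := Groth.L18.QuotExist.exists_isGrass E (n 0)
    refine ⟨F, π, fun _ => Q, fun _ => q, ?_⟩
    have hn : n = ![n 0] := funext fun i => by rw [Subsingleton.elim i 0]; rfl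
    rw [hn]
    exact Grass.IsFlag.of_isGrass h
  | m + 2, n => by
    obtain ⟨F, π, Q, q, hF⟩ := exists_isFlag E (fun i : Fin (m + 1) => n (Fin.castSucc i))
    haveI := isQCoh_of_rank (hF.rank (Fin.last m))
    obtain ⟨F', c, R, φ, hR⟩ := Groth.L18.QuotExist.exists_isGrass (Q (Fin.last m)) (n (Fin.last (m + 1)))
    let P := Σ A : F'.Modules, (Scheme.Modules.pullback (c ≫ π)).obj E ⟶ A
    let p : Fin (m + 2) → P := Fin.lastCases (motive := fun _ => P) ⟨R, Grass.quotBC rfl (q (Fin.last m)) ≫ φ⟩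
      (fun i => ⟨(Scheme.Modules.pullback c).obj (Q i), Grass.quotBC rfl (q i)⟩)
    have p_last : p (Fin.last (m + 1)) = ⟨R, Grass.quotBC rfl (q (Fin.last m)) ≫ φ⟩ := Fin.lastCases_last
    have p_cast : ∀ i, p (Fin.castSucc i) = ⟨(Scheme.Modules.pullback c).obj (Q i), Grass.quotBC rfl (q i)⟩ :=
      fun i => Fin.lastCases_castSucc i
    refine ⟨F', c ≫ π, fun i => (p i).1, fun i => (p i).2, isFlag_of_isGrass hF c rfl hR _ _ ?_ fun i => ?_⟩
    · rw [p_last]
      exact ⟨Iso.refl _, Category.comp_id _⟩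
    · rw [p_cast]
      exact ⟨Iso.refl _, Category.comp_id _⟩

end Groth.L18.FlagBuild
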