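import Groth.Agent.L18.Grass.FlagBuild
import Groth.Agent.L18.Grass.GrassProper

/-!
# Flag schemes of locally free modules as towers of Grassmannians
-/

set_option autoImplicit false
set_option linter.style.haveILetI false
set_option backward.isDefEq.respectTransparency false
set_option backward.isDefEq.respectTransparency.types false

universe u

open CategoryTheory CategoryTheory.Limits AlgebraicGeometry

noncomputable section

namespace Groth.L18.FlagTower

open Groth.L18.MapEpi Groth.L18.FlagGrass Groth.L18.FlagBuild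

/-- Smooth of relative dimension `d`, proper and surjective. -/
def Good (d : ℕ) {X Y : Scheme.{u}} (f : X ⟶ Y) : Prop :=
  SmoothOfRelativeDimension d f ∧ IsProper f ∧ Surjective f

theorem Good.comp {a b : ℕ} {X Y Z : Scheme.{u}} {f : X ⟶ Y} {g : Y ⟶ Z} (hf : Good a f) (hg : Good b g) :
    Good (a + b) (f ≫ g) := by
  obtain ⟨h1, h2, h3⟩ := hf
  obtain ⟨k1, k2, k3⟩ := hg
  exact ⟨inferInstance, inferInstance, inferInstance⟩

theorem good_of_isIso {X Y : Scheme.{u}} (f : X ⟶ Y) [IsIso f] : Good 0 f :=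
  ⟨inferInstance, inferInstance, inferInstance⟩

theorem good_of_isGrass {X G : Scheme.{u}} {π : G ⟶ X} {E : X.Modules} {e N : ℕ} {Q : G.Modules}
    {q : (Scheme.Modules.pullback π).obj E ⟶ Q} (hG : Grass.IsGrass π E e Q q)
    (hE : FlatMod.IsFinLocFreeOfRank N E) (he : e ≤ N) : Good ((N - e) * e) π :=
  haveI := isQCoh_of_rank hE
  ⟨Groth.L18.GrassGeom.smoothOfRelativeDimension hG hE, Groth.L18.GrassProper.isProper hG hE he,
    Groth.L18.GrassGeom.surjective hG hE he⟩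

section lift

variable {X : Scheme.{u}} {E : X.Modules} {m : ℕ} {n : Fin m → ℕ}

/-- Two flag schemes of the same type are isomorphic. -/
theorem isIso_lift {F F₀ : Scheme.{u}} {π : F ⟶ X} {π₀ : F₀ ⟶ X}
    {Q : Fin m → F.Modules} {q : ∀ i, (Scheme.Modules.pullback π).obj E ⟶ Q i} (hF : Grass.IsFlag π E n Q q)
    {Q₀ : Fin m → F₀.Modules} {q₀ : ∀ i, (Scheme.Modules.pullback π₀).obj E ⟶ Q₀ i}
    (hF₀ : Grass.IsFlag π₀ E n Q₀ q₀) : IsIso (hF₀.lift π Q hF.rank q hF.epi hF.nested) := by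
  have key : ∀ {A B : Scheme.{u}} {a : A ⟶ X} {b : B ⟶ X} {R : Fin m → A.Modules}
      {r : ∀ i, (Scheme.Modules.pullback a).obj E ⟶ R i} (hA : Grass.IsFlag a E n R r)
      {R' : Fin m → B.Modules} {r' : ∀ i, (Scheme.Modules.pullback b).obj E ⟶ R' i}
      (hB : Grass.IsFlag b E n R' r'),
      hA.lift b R' hB.rank r' hB.epi hB.nested ≫ hB.lift a R hA.rank r hA.epi hA.nested = 𝟙 B := by
    intro A B a b R r hA R' r' hB
    set c := hA.lift b R' hB.rank r' hB.epi hB.nested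
    set d := hB.lift a R hA.rank r hA.epi hA.nested
    refine (hB.univ B b R' hB.rank r' hB.epi hB.nested).unique
      ⟨by rw [Category.assoc, hB.lift_comp, hA.lift_comp], fun i =>
        ((Scheme.Modules.pullbackComp c d).app (R' i)).symm ≪≫
          (Scheme.Modules.pullback c).mapIso (hB.liftIso a R hA.rank r hA.epi hA.nested i) ≪≫
            hA.liftIso b R' hB.rank r' hB.epi hB.nested i, fun i => ?_⟩
      ⟨Category.id_comp b, fun i => (Scheme.Modules.pullbackId B).app (R' i),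
        fun i => Groth.L18.QuotFam.quotBC_id _ _⟩
    rw [show Grass.quotBC _ (r' i) = _ from (quotBC_quotBC (hB.lift_comp a R hA.rank r hA.epi hA.nested)
      (hA.lift_comp b R' hB.rank r' hB.epi hB.nested) (by rw [Category.assoc, hB.lift_comp, hA.lift_comp]) (r' i)).symm]
    conv_rhs => rw [← hA.quotBC_liftIso b R' hB.rank r' hB.epi hB.nested i,
      ← hB.quotBC_liftIso a R hA.rank r hA.epi hA.nested i, quotBC_comp_right]
    simp only [Iso.trans_hom, Iso.symm_hom, Iso.app_inv, Functor.mapIso_hom, Category.assoc]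
    erw [Iso.hom_inv_id_app_assoc]
  exact ⟨hF.lift π₀ Q₀ hF₀.rank q₀ hF₀.epi hF₀.nested, key hF₀ hF, key hF hF₀⟩

end lift

/-- The forgetful morphism between flag schemes. -/
abbrev forget {X F F₀ : Scheme.{u}} {π : F ⟶ X} {π₀ : F₀ ⟶ X} {E : X.Modules} {m k : ℕ} {n : Fin m → ℕ} (hk : k ≤ m)
    {Q : Fin m → F.Modules} {q : ∀ i, (Scheme.Modules.pullback π).obj E ⟶ Q i} (hF : Grass.IsFlag π E n Q q)
    {Q₀ : Fin k → F₀.Modules} {q₀ : ∀ i, (Scheme.Modules.pullback π₀).obj E ⟶ Q₀ i}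
    (hF₀ : Grass.IsFlag π₀ E (fun i => n (Fin.castLE hk i)) Q₀ q₀) : F ⟶ F₀ :=
  hF₀.lift π (fun i => Q (Fin.castLE hk i)) (fun i => hF.rank (Fin.castLE hk i)) (fun i => q (Fin.castLE hk i))
    (fun i => hF.epi (Fin.castLE hk i))
    (fun i j hij => hF.nested (Fin.castLE hk i) (Fin.castLE hk j) ((Fin.castLE_le_castLE_iff hk).mpr hij))

theorem isIso_of_isFlag_zero {X F : Scheme.{u}} {π : F ⟶ X} {E : X.Modules} {n : Fin 0 → ℕ}
    {Q : Fin 0 → F.Modules} {q : ∀ i, (Scheme.Modules.pullback π).obj E ⟶ Q i}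
    (hF : Grass.IsFlag π E n Q q) : IsIso π := by
  obtain ⟨h, ⟨hh, -⟩, -⟩ := hF.univ X (𝟙 X) (fun i => i.elim0) (fun i => i.elim0) (fun i => i.elim0)
    (fun i => i.elim0) (fun i => i.elim0)
  refine ⟨h, (hF.univ F π (fun i => i.elim0) (fun i => i.elim0) (fun i => i.elim0)
    (fun i => i.elim0) (fun i => i.elim0)).unique ⟨?_, fun i => i.elim0, fun i => i.elim0⟩
      ⟨Category.id_comp π, fun i => i.elim0, fun i => i.elim0⟩, hh⟩
  rw [Category.assoc, hh, Category.comp_id]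

theorem forget_comp {X : Scheme.{u}} {E : X.Modules} {m k : ℕ} {n : Fin (m + 1) → ℕ} (hk : k ≤ m)
    {F F' F₀ : Scheme.{u}} {π : F ⟶ X} {π' : F' ⟶ X} {π₀ : F₀ ⟶ X}
    {Q : Fin (m + 1) → F.Modules} {q : ∀ i, (Scheme.Modules.pullback π).obj E ⟶ Q i} (hF : Grass.IsFlag π E n Q q)
    {Q' : Fin m → F'.Modules} {q' : ∀ i, (Scheme.Modules.pullback π').obj E ⟶ Q' i}
    (hF' : Grass.IsFlag π' E (fun i => n (Fin.castLE (Nat.le_succ m) i)) Q' q')
    {Q₀ : Fin k → F₀.Modules} {q₀ : ∀ i, (Scheme.Modules.pullback π₀).obj E ⟶ Q₀ i}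
    (hF₀ : Grass.IsFlag π₀ E (fun i => n (Fin.castLE (hk.trans (Nat.le_succ m)) i)) Q₀ q₀) :
    forget (hk.trans (Nat.le_succ m)) hF hF₀ =
      forget (Nat.le_succ m) hF hF' ≫ forget (n := fun i => n (Fin.castLE (Nat.le_succ m) i)) hk hF' hF₀ := by
  set c := forget (Nat.le_succ m) hF hF'
  set d := forget (n := fun i => n (Fin.castLE (Nat.le_succ m) i)) hk hF' hF₀
  have hd : d ≫ π₀ = π' := Grass.IsFlag.lift_comp ..
  have hc : c ≫ π' = π := Grass.IsFlag.lift_comp ..
  have hcd : (c ≫ d) ≫ π₀ = π := by rw [Category.assoc, hd, hc]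
  refine (Grass.IsFlag.lift_unique _ _ _ _ _ _ _ (c ≫ d) hcd (fun i =>
    ((Scheme.Modules.pullbackComp c d).app (Q₀ i)).symm ≪≫
      (Scheme.Modules.pullback c).mapIso (hF₀.liftIso π' _ (fun i => hF'.rank _) (fun i => q' (Fin.castLE hk i)) (fun i => hF'.epi _)
        (fun i j hij => hF'.nested _ _ ((Fin.castLE_le_castLE_iff hk).mpr hij)) i) ≪≫
      hF'.liftIso π _ (fun i => hF.rank _) (fun i => q (Fin.castLE (Nat.le_succ m) i)) (fun i => hF.epi _)
        (fun i j hij => hF.nested _ _ ((Fin.castLE_le_castLE_iff (Nat.le_succ m)).mpr hij)) (Fin.castLE hk i)) fun i => ?_).symm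
  rw [show Grass.quotBC hcd (q₀ i) = _ from (quotBC_quotBC hd hc hcd (q₀ i)).symm]
  conv_rhs => rw [show q (Fin.castLE (hk.trans (Nat.le_succ m)) i) = q (Fin.castLE (Nat.le_succ m) (Fin.castLE hk i)) from rfl,
    ← hF'.quotBC_liftIso π _ (fun i => hF.rank _) (fun i => q (Fin.castLE (Nat.le_succ m) i)) (fun i => hF.epi _)
      (fun i j hij => hF.nested _ _ ((Fin.castLE_le_castLE_iff (Nat.le_succ m)).mpr hij)) (Fin.castLE hk i),
    ← hF₀.quotBC_liftIso π' _ (fun i => hF'.rank _) (fun i => q' (Fin.castLE hk i)) (fun i => hF'.epi _)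
      (fun i j hij => hF'.nested _ _ ((Fin.castLE_le_castLE_iff hk).mpr hij)) i, quotBC_comp_right]
  simp only [Iso.trans_hom, Iso.symm_hom, Iso.app_inv, Functor.mapIso_hom, Category.assoc]
  erw [Iso.hom_inv_id_app_assoc]

theorem good_forget_succ {X : Scheme.{u}} {E : X.Modules} {m : ℕ} {n : Fin (m + 2) → ℕ}
    (hn : n (Fin.last (m + 1)) ≤ n (Fin.castSucc (Fin.last m)))
    {F F' : Scheme.{u}} {π : F ⟶ X} {π' : F' ⟶ X}
    {Q : Fin (m + 2) → F.Modules} {q : ∀ i, (Scheme.Modules.pullback π).obj E ⟶ Q i} (hF : Grass.IsFlag π E n Q q)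
    {Q' : Fin (m + 1) → F'.Modules} {q' : ∀ i, (Scheme.Modules.pullback π').obj E ⟶ Q' i}
    (hF' : Grass.IsFlag π' E (fun i => n (Fin.castLE (Nat.le_succ (m + 1)) i)) Q' q') :
    ∃ (M : F'.Modules) (R : F.Modules) (φ : (Scheme.Modules.pullback (forget (Nat.le_succ (m + 1)) hF hF')).obj M ⟶ R),
      FlatMod.IsFinLocFreeOfRank (n (Fin.castSucc (Fin.last m))) M ∧
      Grass.IsGrass (forget (Nat.le_succ (m + 1)) hF hF') M (n (Fin.last (m + 1))) R φ := by
  obtain ⟨t, ht⟩ := hF.nested (Fin.castSucc (Fin.last m)) (Fin.last (m + 1)) (Fin.le_last _)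
  refine ⟨Q' (Fin.last m), Q (Fin.last (m + 1)), _, hF'.rank (Fin.last m),
    isGrass_of_isFlag (n := n) hF' hF _ (Grass.IsFlag.lift_comp ..)
      (fun i => hF'.liftIso π _ (fun i => hF.rank _) (fun i => q (Fin.castLE (Nat.le_succ (m + 1)) i)) (fun i => hF.epi _)
        (fun i j hij => hF.nested _ _ ((Fin.castLE_le_castLE_iff (Nat.le_succ (m + 1))).mpr hij)) i)
      (fun i => hF'.quotBC_liftIso π _ (fun i => hF.rank _) (fun i => q (Fin.castLE (Nat.le_succ (m + 1)) i)) (fun i => hF.epi _)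
        (fun i j hij => hF.nested _ _ ((Fin.castLE_le_castLE_iff (Nat.le_succ (m + 1))).mpr hij)) i) t ht⟩

/-- The expected relative dimension. -/
def fdim (N : ℕ) {m : ℕ} (n : Fin m → ℕ) (k : ℕ) : ℕ :=
  ∑ i : Fin m, if k ≤ (i : ℕ) then n i * ((Fin.cons N n : Fin (m + 1) → ℕ) (Fin.castSucc i) - n i) else 0

theorem fdim_succ (N : ℕ) {m : ℕ} (n : Fin (m + 1) → ℕ) {k : ℕ} (hk : k ≤ m) :
    fdim N n k = fdim N (fun i => n (Fin.castLE (Nat.le_succ m) i)) k +
      n (Fin.last m) * ((Fin.cons N n : Fin (m + 2) → ℕ) (Fin.castSucc (Fin.last m)) - n (Fin.last m)) := by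
  unfold fdim
  rw [Fin.sum_univ_castSucc, Fin.val_last, if_pos hk]
  congr 1
  refine Finset.sum_congr rfl fun i _ => ?_
  rcases i with ⟨_ | v, hv⟩ <;> rfl

theorem good_forget {X : Scheme.{u}} {E : X.Modules} {N : ℕ} (hE : FlatMod.IsFinLocFreeOfRank N E) :
    ∀ (m : ℕ) (n : Fin m → ℕ), StrictAnti n → (∀ i, n i ≤ N) → ∀ (k : ℕ) (hk : k ≤ m) (F F₀ : Scheme.{u})
      (π : F ⟶ X) (π₀ : F₀ ⟶ X) (Q : Fin m → F.Modules) (q : ∀ i, (Scheme.Modules.pullback π).obj E ⟶ Q i)
      (hF : Grass.IsFlag π E n Q q) (Q₀ : Fin k → F₀.Modules) (q₀ : ∀ i, (Scheme.Modules.pullback π₀).obj E ⟶ Q₀ i)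
      (hF₀ : Grass.IsFlag π₀ E (fun i => n (Fin.castLE hk i)) Q₀ q₀), Good (fdim N n k) (forget hk hF hF₀) := by
  intro m
  induction m with
  | zero =>
    intro n _ _ k hk F F₀ π π₀ Q q hF Q₀ q₀ hF₀
    obtain rfl : k = 0 := Nat.le_zero.1 hk
    haveI := isIso_lift hF hF₀
    exact good_of_isIso (hF₀.lift π Q hF.rank q hF.epi hF.nested)
  | succ m ih =>
    intro n hn hN k hk F F₀ π π₀ Q q hF Q₀ q₀ hF₀
    rcases Nat.lt_or_ge k (m + 1) with hlt | hge
    swap
    · obtain rfl : k = m + 1 := le_antisymm hk hge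
      rw [show fdim N n (m + 1) = 0 from Finset.sum_eq_zero fun i _ => if_neg (not_le.2 i.2)]
      haveI := isIso_lift hF hF₀
      exact good_of_isIso (hF₀.lift π Q hF.rank q hF.epi hF.nested)
    have hkm : k ≤ m := Nat.lt_succ_iff.1 hlt
    rcases m with _ | m
    · obtain rfl : k = 0 := Nat.le_zero.1 hkm
      haveI := isIso_of_isFlag_zero hF₀
      have hc : forget hk hF hF₀ ≫ π₀ = π := Grass.IsFlag.lift_comp ..
      rw [show forget hk hF hF₀ = π ≫ inv π₀ from (IsIso.eq_comp_inv π₀).2 hc]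
      have h := (good_of_isGrass (isGrass_of_isFlag_one hF) hE (hN 0)).comp (good_of_isIso (inv π₀))
      have hd : fdim N n 0 = (N - n 0) * n 0 + 0 := by
        simp [fdim, mul_comm]
      rw [hd]
      exact h
    · haveI := isQCoh_of_rank hE
      obtain ⟨F', π', Q', q', hF'⟩ := exists_isFlag E (fun i => n (Fin.castLE (Nat.le_succ (m + 1)) i))
      obtain ⟨M, R, φ, hM, hR⟩ := good_forget_succ (hn.antitone (Fin.le_last _)) hF hF'
      have h1 := good_of_isGrass hR hM (hn.antitone (Fin.le_last _))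
      have h2 := ih (fun i => n (Fin.castLE (Nat.le_succ (m + 1)) i))
        (fun a b h => hn ((Fin.castLE_lt_castLE_iff _).2 h)) (fun i => hN _) k hkm F' F₀ π' π₀ Q' q' hF' Q₀ q₀ hF₀
      have h := h1.comp h2
      rw [show forget hk hF hF₀ = forget (hkm.trans (Nat.le_succ (m + 1))) hF hF₀ from rfl, forget_comp hkm hF hF' hF₀,
        fdim_succ N n hkm, add_comm,
        show n (Fin.last (m + 1)) * ((Fin.cons N n : Fin (m + 3) → ℕ) (Fin.castSucc (Fin.last (m + 1))) -
          n (Fin.last (m + 1))) = (n (Fin.castSucc (Fin.last m)) - n (Fin.last (m + 1))) * n (Fin.last (m + 1)) from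
          mul_comm _ _]
      exact h

/-- Flag schemes over an irreducible base are irreducible. -/
theorem irreducibleSpace {X : Scheme.{u}} {E : X.Modules} [IrreducibleSpace X] {N : ℕ}
    (hE : FlatMod.IsFinLocFreeOfRank N E) : ∀ (m : ℕ) (n : Fin m → ℕ), StrictAnti n → (∀ i, n i ≤ N) →
      ∀ (F : Scheme.{u}) (π : F ⟶ X) (Q : Fin m → F.Modules) (q : ∀ i, (Scheme.Modules.pullback π).obj E ⟶ Q i),
        Grass.IsFlag π E n Q q → IrreducibleSpace F := by
  haveI := isQCoh_of_rank hE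
  intro m
  induction m with
  | zero =>
    intro n _ _ F π Q q hF
    haveI := isIso_of_isFlag_zero hF
    exact Function.Surjective.irreducibleSpace (f := (Scheme.homeoOfIso (asIso π)).symm)
      (Scheme.homeoOfIso (asIso π)).symm.continuous (Scheme.homeoOfIso (asIso π)).symm.surjective
  | succ m ih =>
    intro n hn hN F π Q q hF
    rcases m with _ | m
    · exact Groth.L18.GrassGeom.irreducibleSpace (isGrass_of_isFlag_one hF) hE (hN 0)
    · obtain ⟨F', π', Q', q', hF'⟩ := exists_isFlag E (fun i => n (Fin.castLE (Nat.le_succ (m + 1)) i))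
      obtain ⟨M, R, φ, hM, hR⟩ := good_forget_succ (hn.antitone (Fin.le_last _)) hF hF'
      haveI := ih (fun i => n (Fin.castLE (Nat.le_succ (m + 1)) i))
        (fun a b h => hn ((Fin.castLE_lt_castLE_iff _).2 h)) (fun i => hN _) F' π' Q' q' hF'
      haveI := isQCoh_of_rank hM
      exact Groth.L18.GrassGeom.irreducibleSpace hR hM (hn.antitone (Fin.le_last _))

end Groth.L18.FlagTower
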