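import Groth.Agent.L18.Grass.QuotExist

/-!
# The charts of a given Grassmannian
-/

set_option autoImplicit false
set_option linter.style.haveILetI false
set_option backward.isDefEq.respectTransparency false
set_option backward.isDefEq.respectTransparency.types false

universe u

open CategoryTheory CategoryTheory.Limits AlgebraicGeometry TopologicalSpace Opposite

noncomputable section

namespace Groth.L18.GrassCharts

open Groth.L18.QuotFam Groth.L18.QuotChart
open Groth.L25.HomScheme

variable {X G : Scheme.{u}} {π : G ⟶ X} {E : X.Modules} {e : ℕ} {Q : G.Modules}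
  {q : (Scheme.Modules.pullback π).obj E ⟶ Q}

/-- The class of the universal quotient. -/
def univClass (hG : Grass.IsGrass π E e Q q) : (qFam E e).obj (Over.mk π) :=
  haveI := hG.epi
  mk (Over.mk π) hG.rank q

variable (hG : Grass.IsGrass π E e Q q)
include hG

theorem res_univClass_iff {T : Over X} (a : T ⟶ Over.mk π) {L : T.left.Modules}
    (hL : FlatMod.IsFinLocFreeOfRank e L) (s : (Scheme.Modules.pullback T.hom).obj E ⟶ L) [Epi s] :
    (qFam E e).res a (univClass hG) = mk T hL s ↔ Rel (Grass.quotBC (Over.w a) q) s := by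
  haveI := hG.epi
  haveI := Groth.L18.MapEpi.epi_quotBC (Over.w a) q
  show res E e a (mk _ _ _) = _ ↔ _
  rw [res_mk, mk_eq_mk]

/-- A Grassmannian represents the classes of quotients. -/
theorem isRep : (qFam E e).IsRep (Over.mk π) (univClass hG) := by
  intro T x
  obtain ⟨L, hL, s, hs, rfl⟩ := exists_mk x
  obtain ⟨h, ⟨hh, θ, hθ⟩, hu⟩ := hG.univ T.left T.hom L hL s hs
  refine ⟨Over.homMk h hh, (res_univClass_iff hG _ hL s).2 ⟨θ, hθ⟩, fun b hb => ?_⟩
  obtain ⟨θ', hθ'⟩ := (res_univClass_iff hG b hL s).1 hb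
  exact Over.OverMorphism.ext (hu b.left ⟨Over.w b, θ', hθ'⟩)

variable [Coh.IsQCoh E] {U : X.Opens} (hU : IsAffineOpen U) (I : Fin e → Γ(E, U))

/-- The chart in the Grassmannian. -/
def chartMap : chart hU I ⟶ Over.mk π := ((isRep hG) (chart hU I) (ξ hU I)).exists.choose

theorem res_chartMap : (qFam E e).res (chartMap hG hU I) (univClass hG) = ξ hU I :=
  ((isRep hG) (chart hU I) (ξ hU I)).exists.choose_spec

theorem res_comp_chartMap {T : Over X} (a : T ⟶ chart hU I) :
    (qFam E e).res (a ≫ chartMap hG hU I) (univClass hG) = (qFam E e).res a (ξ hU I) := by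
  rw [(qFam E e).res_comp, res_chartMap]

instance isOpenImmersion_chartMap : IsOpenImmersion (chartMap hG hU I).left := by
  obtain ⟨W, hW⟩ := exists_open hU I (Over.mk π) (univClass hG)
  obtain ⟨a, ha⟩ := (hW (openObj (Over.mk π) W) (openHom (Over.mk π) W)).2 (by simp)
  have hk : Set.range (chartMap hG hU I).left ⊆ (W : Set (Over.mk π).left) :=
    (hW (chart hU I) (chartMap hG hU I)).1 ⟨𝟙 _, by rw [(qFam E e).res_id, res_chartMap]⟩
  let l : chart hU I ⟶ openObj (Over.mk π) W :=
    Over.homMk (IsOpenImmersion.lift W.ι (chartMap hG hU I).left (by simpa using! hk)) (by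
      show IsOpenImmersion.lift W.ι (chartMap hG hU I).left _ ≫ W.ι ≫ π = _
      rw [IsOpenImmersion.lift_fac_assoc]
      exact Over.w (chartMap hG hU I))
  have hl : l ≫ openHom (Over.mk π) W = chartMap hG hU I :=
    Over.OverMorphism.ext (IsOpenImmersion.lift_fac _ _ _)
  have h1 : l ≫ a = 𝟙 _ := hom_ext_of_res hU I (by
    rw [(qFam E e).res_comp, ha, ← (qFam E e).res_comp, hl, res_chartMap, (qFam E e).res_id])
  have h2 : a ≫ l = 𝟙 _ := by
    have h3 : a ≫ chartMap hG hU I = openHom (Over.mk π) W := (isRep hG).ext (by rw [res_comp_chartMap, ha])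
    rw [← hl] at h3
    refine Over.OverMorphism.ext ((cancel_mono W.ι).1 ?_)
    exact (congrArg CommaMorphism.left h3).trans (Category.id_comp _).symm
  haveI : IsIso l.left := ⟨a.left, congrArg CommaMorphism.left h1, congrArg CommaMorphism.left h2⟩
  rw [← hl]
  exact inferInstanceAs (IsOpenImmersion (l.left ≫ W.ι))

/-- The points of a chart are those landing in its image. -/
theorem exists_factor_iff {T : Over X} (g : T ⟶ Over.mk π) :
    (∃ a : T ⟶ chart hU I, (qFam E e).res a (ξ hU I) = (qFam E e).res g (univClass hG)) ↔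
      Set.range g.left ⊆ Set.range (chartMap hG hU I).left := by
  constructor
  · rintro ⟨a, ha⟩
    have h : a ≫ chartMap hG hU I = g := (isRep hG).ext (by rw [res_comp_chartMap, ha])
    rw [← h]
    rintro _ ⟨t, rfl⟩
    exact ⟨a.left t, rfl⟩
  · intro h
    refine ⟨Over.homMk (IsOpenImmersion.lift (chartMap hG hU I).left g.left h) ?_, ?_⟩
    · rw [← Over.w (chartMap hG hU I), IsOpenImmersion.lift_fac_assoc]
      exact Over.w g
    · rw [← res_comp_chartMap hG hU I]
      exact congrArg (fun k => (qFam E e).res k (univClass hG))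
        (Over.OverMorphism.ext (IsOpenImmersion.lift_fac _ _ _))

omit hU I in
/-- The charts given by a generating family over `U` cover the part over `U`. -/
theorem exists_mem_range (V : X.affineOpens) {α : Type u} (f : α → Γ(E, (V : X.Opens)))
    (hf : ⊤ ≤ Submodule.span Γ(X, (V : X.Opens)) (Set.range f)) {z : G} (hz : π z ∈ (V : X.Opens)) :
    ∃ J : Fin e → α, Function.Injective J ∧ z ∈ Set.range (chartMap hG V.2 (f ∘ J)).left := by
  obtain ⟨J, T', g, hJ, -, ht, h⟩ := exists_chart_span V f hf (Over.mk π) (univClass hG) z hz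
  exact ⟨J, hJ, (exists_factor_iff hG V.2 (f ∘ J) g).1 h ht⟩

omit hU in
theorem range_chartMap_subset (hU : IsAffineOpen U) :
    Set.range (chartMap hG hU I).left ⊆ ((π ⁻¹ᵁ U : G.Opens) : Set G) := by
  rintro _ ⟨y, rfl⟩
  show ((chartMap hG hU I).left ≫ π) y ∈ U
  rw [show (chartMap hG hU I).left ≫ π = (chart hU I).hom from Over.w (chartMap hG hU I)]
  exact chart_le hU I (trivial : y ∈ (⊤ : (chart hU I).left.Opens))

end Groth.L18.GrassCharts
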