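import Groth.Agent.L18.Grass.Pluecker
import Groth.Agent.L16.ProjSpace.Basic
import Mathlib.AlgebraicGeometry.IdealSheaf.Subscheme
import Mathlib.AlgebraicGeometry.Morphisms.IsIso
import Mathlib.AlgebraicGeometry.Limits

/-!
# A closed subscheme of projective space carrying the Grassmannian charts
-/

set_option autoImplicit false

universe u v

open AlgebraicGeometry CategoryTheory CategoryTheory.Limits Module
open Groth.L13.LG Groth.L18.Pluecker

namespace Groth.L18.GrassModel

variable (R : Type u) [CommRing R] {d r N : ℕ} (ks : Fin (N + 1) → (Fin r ↪ Fin d))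

/-- no linking maps -/
noncomputable abbrev f0 : Fin 0 → ((Fin d → R) →ₗ[R] (Fin d → R)) := fun i => i.elim0

/-- the ring of a chart -/
abbrev W (k : Fin (N + 1)) : Type u := WRing (f0 R) (f0 R) (fun _ => ks k)

/-- the universal rows of a chart -/
noncomputable abbrev row (k : Fin (N + 1)) : Fin r → Fin d → W R ks k := w ks (f0 R) (f0 R) k

/-- rows of a point of a chart -/
noncomputable def rows {k : Fin (N + 1)} {C : Type u} [CommRing C] (a : W R ks k →+* C) :
    Submodule C (Fin d → C) :=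
  Submodule.span C (Set.range fun j => vmap a (row R ks k j))

theorem mem_rows {k : Fin (N + 1)} {C : Type u} [CommRing C] (a : W R ks k →+* C) (j : Fin r) :
    vmap a (row R ks k j) ∈ rows R ks a :=
  Submodule.subset_span ⟨j, rfl⟩

theorem sqm_row {k : Fin (N + 1)} {C : Type u} [CommRing C] (a : W R ks k →+* C) :
    sqm (ks k) (fun j => vmap a (row R ks k j)) = 1 := by
  rw [sqm_vmap, show sqm (ks k) (row R ks k) = 1 from Matrix.ext (wrow_proj weqn_wuniv le_rfl), map_one]

theorem P_row_self {k : Fin (N + 1)} {C : Type u} [CommRing C] (a : W R ks k →+* C) :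
    P ks (fun j => vmap a (row R ks k j)) k = 1 := by
  rw [P, sqm_row, Matrix.det_one]

theorem isBundle_rows {k : Fin (N + 1)} {C : Type u} [CommRing C] (a : W R ks k →+* C) :
    IsBundle r (rows R ks a) :=
  isBundle_of_minor (ks k) _ (show IsUnit (sqm (ks k) fun j => vmap a (row R ks k j)).det by
    rw [sqm_row, Matrix.det_one]; exact isUnit_one)

theorem mapV_rows {k : Fin (N + 1)} {C D : Type u} [CommRing C] [CommRing D] (a : W R ks k →+* C) (φ : C →+* D) :
    mapV φ (rows R ks a) = rows R ks (φ.comp a) := by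
  rw [rows, mapV_span, ← Set.range_comp]
  rfl

/-- a bundle with an invertible minor comes from the chart -/
theorem exists_chart_pt {k : Fin (N + 1)} {C : Type u} [CommRing C] [Algebra R C]
    {V : Submodule C (Fin d → C)} (hb : IsBundle r V) (h : Minor (ks k) V) :
    ∃ φ : W R ks k →ₐ[R] C, rows R ks φ.toRingHom = V := by
  have hpt : IsPt (f0 R) (f0 R) r (CommAlgCat.of R C) (fun _ => V) :=
    ⟨fun _ _ => hb, fun i hi => absurd hi (by omega), fun i hi => absurd hi (by omega)⟩
  obtain ⟨φ, hφ⟩ := (Pluecker.C ks (f0 R) (f0 R) k).hom_exists hpt (fun _ _ => h)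
  let φ' : W R ks k →ₐ[R] C := φ
  refine ⟨φ', ?_⟩
  have h1 : mapV (φ'.toRingHom : W R ks k →+* C)
      (Submodule.span (W R ks k) (Set.range (row R ks k))) = V := hφ 0 le_rfl
  rw [mapV_span, ← Set.range_comp] at h1
  exact h1

/-- normalised rows are determined by their Plücker coordinates -/
theorem rows_eq_of_P {A : Type v} [CommRing A] (hks : Covers ks) {k : Fin (N + 1)} {v v' : Fin r → Fin d → A}
    (h : sqm (ks k) v = 1) (h' : sqm (ks k) v' = 1) (hP : ∀ m, P ks v m = P ks v' m) : v = v' := by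
  classical
  funext l c
  by_cases hc : c ∈ Set.range (ks k)
  · obtain ⟨m, rfl⟩ := hc
    exact (congrFun (congrFun h l) m).trans (congrFun (congrFun h' l) m).symm
  · let K : Fin r ↪ Fin d := ⟨Function.update (ks k) l c, fun i j hij => by
      by_cases hi : i = l <;> by_cases hj : j = l <;>
        simp [hi, hj, Function.update] at hij ⊢
      · exact (hc ⟨j, hij.symm⟩).elim
      · exact (hc ⟨i, hij⟩).elim
      · exact hij⟩
    obtain ⟨k', σ, hσ⟩ := hks K
    have key : ∀ w : Fin r → Fin d → A, sqm (ks k) w = 1 → (sqm K w).det = w l c := by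
      intro w hw
      have e1 : sqm K w = (1 : Matrix (Fin r) (Fin r) A).updateCol l (fun i => w i c) := by
        ext i j
        rw [Matrix.updateCol_apply]
        show w i (Function.update (ks k) l c j) = _
        by_cases hj : j = l
        · rw [if_pos hj, hj, Function.update_self]
        · rw [if_neg hj, Function.update_of_ne hj]
          exact congrFun (congrFun hw i) j
      rw [e1, ← Matrix.cramer_apply, Matrix.cramer_one]
      rfl
    rw [← key v h, ← key v' h', det_eq_sign_mul ks hσ, det_eq_sign_mul ks hσ, hP]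

/-- the chart in projective space -/
noncomputable def plk (k : Fin (N + 1)) : Spec (CommRingCat.of (W R ks k)) ⟶ CohB1.ProjSpace N R :=
  PS.tuplePt (B := .of (W R ks k)) (algebraMap R (W R ks k)) (P ks (row R ks k)) k
    (by rw [P_w_self]; exact isUnit_one)

theorem plk_toSpec (k : Fin (N + 1)) :
    plk R ks k ≫ CohB1.ProjSpace.toSpec N R = Spec.map (CommRingCat.ofHom (algebraMap R (W R ks k))) :=
  PS.tuplePt_toSpec _ _ _ _

theorem SpecMap_plk {k : Fin (N + 1)} {S : CommRingCat.{u}} (a : CommRingCat.of (W R ks k) ⟶ S) :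
    Spec.map a ≫ plk R ks k = PS.tuplePt (a.hom.comp (algebraMap R (W R ks k)))
      (fun m => P ks (fun j => vmap a.hom (row R ks k j)) m) k
      (show IsUnit (P ks (fun j => vmap a.hom (row R ks k j)) k) from (P_row_self R ks a.hom).symm ▸ isUnit_one) := by
  rw [plk, PS.SpecMap_tuplePt]
  exact PS.tuplePt_congr _ (fun m => (P_map ks a.hom _ m).symm) k k _ _

theorem plk_agree {k l : Fin (N + 1)} {S : CommRingCat.{u}} (a : CommRingCat.of (W R ks k) ⟶ S)
    (b : CommRingCat.of (W R ks l) ⟶ S)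
    (hs : a.hom.comp (algebraMap R (W R ks k)) = b.hom.comp (algebraMap R (W R ks l)))
    (h : rows R ks a.hom = rows R ks b.hom) :
    Spec.map a ≫ plk R ks k = Spec.map b ≫ plk R ks l := by
  obtain ⟨c, hc⟩ := P_of_span_le ks (v := fun j => vmap a.hom (row R ks k j))
    (w := fun j => vmap b.hom (row R ks l j)) fun j => by
      show _ ∈ rows R ks a.hom
      rw [h]
      exact mem_rows R ks b.hom j
  have h2 : IsUnit (c * P ks (fun j => vmap a.hom (row R ks k j)) l) := by
    rw [← hc, P_row_self]; exact isUnit_one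
  rw [SpecMap_plk, SpecMap_plk,
    ← PS.tuplePt_smul (a.hom.comp (algebraMap R (W R ks k))) (fun m => P ks (fun j => vmap a.hom (row R ks k j)) m)
      c l k h2 (show IsUnit (P ks (fun j => vmap a.hom (row R ks k j)) k) from (P_row_self R ks a.hom).symm ▸ isUnit_one)]
  simp only [hs]
  exact PS.tuplePt_congr _ (fun m => (hc m).symm) l l _ _

theorem rows_eq_of_plk_eq (hks : Covers ks) {k l : Fin (N + 1)} {S : CommRingCat.{u}}
    (a : CommRingCat.of (W R ks k) ⟶ S) (b : CommRingCat.of (W R ks l) ⟶ S)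
    (h : Spec.map a ≫ plk R ks k = Spec.map b ≫ plk R ks l) :
    rows R ks a.hom = rows R ks b.hom := by
  rw [SpecMap_plk, SpecMap_plk] at h
  obtain ⟨c, hc⟩ := PS.exists_smul_of_tuplePt_eq _ _ k l _ _ h
  have hu : IsUnit (P ks (fun j => vmap b.hom (row R ks l j)) k) := by
    rw [hc, P_row_self, mul_one]; exact c.isUnit
  have hm : Minor (ks k) (rows R ks b.hom) := ⟨_, mem_rows R ks b.hom, hu⟩
  obtain ⟨v, hv, hδ, hspan⟩ := exists_rows (isBundle_rows R ks b.hom) hm
  obtain ⟨e, he⟩ := P_of_span_le ks (v := fun j => vmap b.hom (row R ks l j)) (w := v) hv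
  have hk : sqm (ks k) v = 1 := Matrix.ext hδ
  have h1 : e * (c : S) = 1 := by
    have := he k
    rw [hc, P_row_self, mul_one, P, hk, Matrix.det_one] at this
    exact this.symm
  have : v = fun j => vmap a.hom (row R ks k j) :=
    rows_eq_of_P ks hks hk (sqm_row R ks a.hom) fun m => by rw [he, hc, ← mul_assoc, h1, one_mul]
  rw [hspan, this]
  rfl

/-- all charts at once -/
noncomputable def all : (∐ fun k => Spec (CommRingCat.of (W R ks k))) ⟶ CohB1.ProjSpace N R :=
  Sigma.desc (plk R ks)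

instance quasiCompact_all : QuasiCompact (all R ks) := by
  haveI : QuasiCompact (all R ks ≫ CohB1.ProjSpace.toSpec N R) := inferInstance
  exact QuasiCompact.of_comp _ (CohB1.ProjSpace.toSpec N R)

/-- the model -/
noncomputable def X : Scheme.{u} := (all R ks).image

/-- its embedding -/
noncomputable def ι : X R ks ⟶ CohB1.ProjSpace N R := (all R ks).imageι

instance : IsClosedImmersion (ι R ks) := inferInstanceAs (IsClosedImmersion ((all R ks).ker.subschemeι))

/-- the charts of the model -/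
noncomputable def m (k : Fin (N + 1)) : Spec (CommRingCat.of (W R ks k)) ⟶ X R ks :=
  Sigma.ι (fun k => Spec (CommRingCat.of (W R ks k))) k ≫ (all R ks).toImage

theorem m_ι (k : Fin (N + 1)) : m R ks k ≫ ι R ks = plk R ks k := by
  exact (Category.assoc _ _ _).trans
    ((congrArg (Sigma.ι (fun k => Spec (CommRingCat.of (W R ks k))) k ≫ ·) (Scheme.Hom.toImage_imageι (all R ks))).trans
      (Sigma.ι_desc _ _))

/-- the standard open -/
noncomputable abbrev D (k : Fin (N + 1)) : (CohB1.ProjSpace N R).Opens :=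
  Proj.basicOpen (CohB1.polyGrading N R) (MvPolynomial.X k)

theorem plk_preimage (l k : Fin (N + 1)) :
    plk R ks l ⁻¹ᵁ D R k = PrimeSpectrum.basicOpen (P ks (row R ks l) k) :=
  PS.tuplePt_preimage_X _ _ _ _ _

theorem plk_eq_chart (k : Fin (N + 1)) : ∃ ψ : CommRingCat.of (PS.ChartRing N R k) ⟶ CommRingCat.of (W R ks k),
    plk R ks k = Spec.map ψ ≫ PS.chart N R k :=
  ⟨_, rfl⟩

theorem app_eq_zero (hks : Covers ks) (k : Fin (N + 1)) (a : Γ(CohB1.ProjSpace N R, D R k))
    (ha : (plk R ks k).app (D R k) a = 0) : (all R ks).app (D R k) a = 0 := by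
  have hl : ∀ l, (plk R ks l).app (D R k) a = 0 := by
    intro l
    set h := P ks (row R ks l) k
    let T : Type u := Localization.Away h
    let loc : CommRingCat.of (W R ks l) ⟶ CommRingCat.of T := CommRingCat.ofHom (algebraMap (W R ks l) T)
    letI : Algebra R T := (loc.hom.comp (algebraMap R (W R ks l))).toAlgebra
    haveI : IsOpenImmersion (Spec.map loc) :=
      IsOpenImmersion.of_isLocalization (R := CommRingCat.of (W R ks l)) (S := T) h
    obtain ⟨φ, hφ⟩ := exists_chart_pt R ks (isBundle_rows R ks loc.hom)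
      ⟨_, mem_rows R ks loc.hom, show IsUnit (P ks (fun j => vmap loc.hom (row R ks l j)) k) by
        rw [P_map]; exact IsLocalization.Away.algebraMap_isUnit h⟩
    have e : Spec.map (CommRingCat.ofHom φ.toRingHom) ≫ plk R ks k = Spec.map loc ≫ plk R ks l :=
      plk_agree R ks (CommRingCat.ofHom φ.toRingHom) loc φ.comp_algebraMap hφ
    have hr : plk R ks l ⁻¹ᵁ (D R k) ≤ (Spec.map loc).opensRange := by
      rw [plk_preimage]
      intro q hq
      exact (PrimeSpectrum.localization_away_comap_range T h).ge hq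
    haveI := Scheme.Hom.isIso_app (Spec.map loc) (plk R ks l ⁻¹ᵁ (D R k)) hr
    apply (ConcreteCategory.bijective_of_isIso ((Spec.map loc).app (plk R ks l ⁻¹ᵁ (D R k)))).1
    have h1 := congrArg (fun z => z a) (Scheme.Hom.congr_app e.symm (D R k))
    simp only [Scheme.Hom.comp_app, CommRingCat.comp_apply] at h1
    refine h1.trans ?_
    erw [CommRingCat.comp_apply, ha, map_zero, map_zero, map_zero]
    rfl
  let F := fun k => Spec (CommRingCat.of (W R ks k))
  refine TopCat.Sheaf.eq_of_locally_eq' ⟨(∐ F).presheaf, (∐ F).IsSheaf⟩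
    (fun l => Sigma.ι F l ''ᵁ (Sigma.ι F l ⁻¹ᵁ (all R ks ⁻¹ᵁ (D R k)))) (all R ks ⁻¹ᵁ (D R k))
    (fun l => homOfLE (Scheme.Hom.image_preimage_le _ _)) ?_ _ _ fun l => ?_
  · intro x hx
    obtain ⟨l, y, rfl⟩ := (sigmaOpenCover F).exists_eq x
    exact TopologicalSpace.Opens.mem_iSup.2 ⟨l, y, hx, rfl⟩
  · rw [map_zero]
    set V' := Sigma.ι F l ''ᵁ (Sigma.ι F l ⁻¹ᵁ (all R ks ⁻¹ᵁ (D R k)))
    haveI := Scheme.Hom.isIso_app (Sigma.ι F l) V' (Scheme.Hom.image_le_opensRange _ _)
    apply (ConcreteCategory.bijective_of_isIso ((Sigma.ι F l).app V')).1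
    rw [map_zero]
    have e : Sigma.ι F l ≫ all R ks = plk R ks l := Sigma.ι_desc _ _
    have h1 := congrArg (fun z => z a) (Scheme.Hom.congr_app e (D R k))
    simp only [Scheme.Hom.comp_app, CommRingCat.comp_apply, hl, map_zero] at h1
    have h2 := congrArg (fun z => z ((all R ks).app (D R k) a))
      ((Sigma.ι F l).naturality (homOfLE (Scheme.Hom.image_preimage_le (Sigma.ι F l) (all R ks ⁻¹ᵁ (D R k)))).op)
    simp only [CommRingCat.comp_apply] at h2
    refine (h2.trans ?_)
    erw [h1, map_zero]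

theorem preimage_D (k : Fin (N + 1)) : m R ks k ⁻¹ᵁ (ι R ks ⁻¹ᵁ D R k) = ⊤ := by
  rw [← Scheme.Hom.comp_preimage, m_ι, plk_preimage, P_w_self, PS.basicOpen_eq_top_of_isUnit isUnit_one]
  rfl

theorem isOpenImmersion_m (hks : Covers ks) (k : Fin (N + 1)) :
    IsOpenImmersion (m R ks k) ∧ Set.range (m R ks k) = (ι R ks ⁻¹ᵁ D R k : Set (X R ks)) := by
  set U := D R k
  set V := ι R ks ⁻¹ᵁ U
  have hU : IsAffineOpen U := Proj.isAffineOpen_basicOpen _ _ (PS.X_mem N k) one_pos
  have hV : IsAffineOpen V := hU.preimage (ι R ks)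
  haveI : IsAffine V.toScheme := hV
  haveI : IsAffine U.toScheme := hU
  haveI : IsAffine (plk R ks k ⁻¹ᵁ U).toScheme := by
    rw [show plk R ks k ⁻¹ᵁ U = ⊤ by
      rw [plk_preimage, P_w_self, PS.basicOpen_eq_top_of_isUnit isUnit_one]; rfl]
    exact isAffineOpen_top (Spec (CommRingCat.of (W R ks k)))
  haveI : IsAffine (m R ks k ⁻¹ᵁ V).toScheme := by
    rw [preimage_D R ks k]
    exact isAffineOpen_top (Spec (CommRingCat.of (W R ks k)))
  have hsurjP : Function.Surjective ((plk R ks k).app U) := by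
    let ψ : CommRingCat.of (PS.ChartRing N R k) ⟶ CommRingCat.of (W R ks k) := CommRingCat.ofHom
      (PS.chartHom (algebraMap R (W R ks k)) (P ks (row R ks k)) k (by rw [P_w_self]; exact isUnit_one))
    haveI : IsClosedImmersion (Spec.map ψ) :=
      IsClosedImmersion.spec_of_surjective _ (chartHom_surjective (f := f0 R) (g := f0 R) ks hks k)
    have hr : U ≤ (PS.chart N R k).opensRange := (PS.range_chart k).ge
    haveI := Scheme.Hom.isIso_app (PS.chart N R k) U hr
    have ha : IsAffineOpen (PS.chart N R k ⁻¹ᵁ U) := by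
      rw [show PS.chart N R k ⁻¹ᵁ U = ⊤ from top_le_iff.1 fun y _ => (PS.range_chart k).le ⟨y, rfl⟩]
      exact isAffineOpen_top (Spec (CommRingCat.of (PS.ChartRing N R k)))
    exact ((Spec.map ψ).app_surjective _ ha).comp (ConcreteCategory.bijective_of_isIso ((PS.chart N R k).app U)).2
  have hcomp : ∀ a, (plk R ks k).app U a = 0 ↔ (m R ks k).app V ((ι R ks).app U a) = 0 := by
    intro a
    have h1 := congrArg (fun z => z a) (Scheme.Hom.congr_app (m_ι R ks k).symm U)
    simp only [Scheme.Hom.comp_app, CommRingCat.comp_apply] at h1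
    rw [h1]
    exact map_eq_zero_iff _ (ConcreteCategory.bijective_of_isIso _).1
  have hsurj : Function.Surjective ((m R ks k).app V) := by
    intro y
    obtain ⟨a, ha⟩ := hsurjP ((Spec (CommRingCat.of (W R ks k))).presheaf.map
      (eqToHom (congrArg (· ⁻¹ᵁ U) (m_ι R ks k)).symm).op y)
    refine ⟨(ι R ks).app U a, (ConcreteCategory.bijective_of_isIso ((Spec (CommRingCat.of (W R ks k))).presheaf.map
      (eqToHom (congrArg (· ⁻¹ᵁ U) (m_ι R ks k)).symm).op)).1 ?_⟩
    rw [← ha]
    have h1 := congrArg (fun z => z a) (Scheme.Hom.congr_app (m_ι R ks k).symm U)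
    simp only [Scheme.Hom.comp_app, CommRingCat.comp_apply] at h1
    exact h1.symm
  have hinj : Function.Injective ((m R ks k).app V) := by
    rw [injective_iff_map_eq_zero]
    intro y hy
    obtain ⟨a, rfl⟩ := (ι R ks).app_surjective U hU y
    have h0 : a ∈ RingHom.ker ((all R ks).app U).hom := app_eq_zero R ks hks k a ((hcomp a).2 hy)
    rw [← Scheme.Hom.ker_apply (all R ks) ⟨U, hU⟩, ← Scheme.IdealSheafData.ker_subschemeι_app] at h0
    exact h0
  haveI : IsIso (m R ks k ∣_ V) := by
    refine (HasAffineProperty.iff_of_isAffine (P := MorphismProperty.isomorphisms Scheme) (f := m R ks k ∣_ V)).2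
      ⟨inferInstance, ?_⟩
    have h' : IsIso ((m R ks k).app (V.ι ''ᵁ ⊤)) := by
      rw [Scheme.Opens.ι_image_top]
      exact (ConcreteCategory.isIso_iff_bijective _).2 ⟨hinj, hsurj⟩
    rw [morphismRestrict_appTop]
    exact @IsIso.comp_isIso _ _ _ _ _ _ _ h' (Functor.map_isIso _ _)
  have hfac : (Scheme.isoOfEq _ (preimage_D R ks k)).inv ≫ (m R ks k ∣_ V) ≫ V.ι =
      (⊤ : (Spec (CommRingCat.of (W R ks k))).Opens).ι ≫ m R ks k := by
    rw [morphismRestrict_ι, ← Category.assoc, Scheme.isoOfEq_inv_ι]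
  have h3 : (Scheme.topIso (Spec (CommRingCat.of (W R ks k)))).inv ≫
      (Scheme.isoOfEq _ (preimage_D R ks k)).inv ≫ (m R ks k ∣_ V) ≫ V.ι = m R ks k := by
    rw [hfac, ← Category.assoc]
    exact (congrArg (· ≫ m R ks k) (Scheme.topIso _).inv_hom_id).trans (Category.id_comp _)
  refine ⟨h3 ▸ inferInstance, ?_⟩
  apply Set.Subset.antisymm
  · rintro _ ⟨y, rfl⟩
    exact (preimage_D R ks k).ge (x := y) trivial
  · intro y hy
    obtain ⟨z, hz⟩ := (inferInstance : Surjective (m R ks k ∣_ V)).surj ⟨y, hy⟩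
    refine ⟨(m R ks k ⁻¹ᵁ V).ι z, ?_⟩
    show ((m R ks k ⁻¹ᵁ V).ι ≫ m R ks k) z = y
    rw [← morphismRestrict_ι]
    show V.ι ((m R ks k ∣_ V) z) = y
    rw [hz]
    rfl

end Groth.L18.GrassModel
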