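import Groth.Agent.L18.Grass.GrassCharts
import Groth.Agent.L18.Grass.PlkAlg
import Groth.Agent.L19.ProjBdl.Chart

/-!
# The Plücker morphism on the standard charts

A frame over an affine open is a basis of `E` together with an alternating map into `L` carrying the
increasing tuples of the basis to a basis of `L`.  The minors of the coordinates define a morphism of
each chart to the projective bundle of `L`.
-/

set_option autoImplicit false
set_option linter.style.haveILetI false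
set_option backward.isDefEq.respectTransparency false
set_option backward.isDefEq.respectTransparency.types false

universe u

open CategoryTheory CategoryTheory.Limits AlgebraicGeometry TopologicalSpace Opposite Module

noncomputable section

namespace Groth.L18.PlkMap

open Groth.L18.Frame (rs ro rs_rs rs_self rs_smul pull pull_rs pull_smul IsFrame)
open Groth.L18.PullHom (sec)
open Groth.L18.QuotBasis Groth.L18.QuotFam Groth.L18.QuotChart
open Groth.L18.PlkAlg (K detAlt)
open Groth.L19.ProjBdl (IsBasisOn pullTop pullTop_mono pullTop_smul psec psec_locus isFrame_psec locus crd)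

variable {X : Scheme.{u}} {E L : X.Modules} [Coh.IsQCoh E] {e d n : ℕ} (ks : Fin n ≃ Set.powersetCard (Fin d) e)

/-- A basis over an affine open with its exterior products. -/
structure Frm (E L : X.Modules) (ks : Fin n ≃ Set.powersetCard (Fin d) e) where
  /-- the open -/
  U : X.affineOpens
  /-- the basis -/
  b : Basis (Fin d) Γ(X, (U : X.Opens)) Γ(E, (U : X.Opens))
  /-- it is a basis on every smaller open -/
  hb : IsBasisOn E U b
  /-- the exterior product -/
  w : Γ(E, (U : X.Opens)) [⋀^Fin e]→ₗ[Γ(X, (U : X.Opens))] Γ(L, (U : X.Opens))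
  /-- the products of increasing tuples form a basis -/
  hw : IsBasisOn L U fun i => w (b ∘ K ks i)

variable {ks}

/-- The sections of `L` attached to a frame. -/
abbrev Frm.ell (F : Frm E L ks) (i : Fin n) : Γ(L, (F.U : X.Opens)) := F.w (F.b ∘ K ks i)

/-- The tuple defining a chart. -/
abbrev Frm.tup (F : Frm E L ks) (l : Fin n) : Fin e → Γ(E, (F.U : X.Opens)) := F.b ∘ K ks l

/-- The chart of a frame and an increasing tuple. -/
abbrev Frm.cht (F : Frm E L ks) (l : Fin n) : Over X := chart F.U.2 (F.tup l)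

/-- The minors on a chart. -/
def Frm.minor (F : Frm E L ks) (l i : Fin n) : Γ((F.cht l).left, ⊤) :=
  (Matrix.of fun j k => QuotChart.crd F.U.2 (F.tup l) (F.tup i j) k).det

theorem Frm.minor_self (F : Frm E L ks) (l : Fin n) : F.minor l l = 1 := by
  have : (Matrix.of fun j k => QuotChart.crd F.U.2 (F.tup l) (F.tup l j) k) = 1 := by
    ext j k
    simp only [Matrix.of_apply, QuotChart.crd, coord_I, Matrix.one_apply]
    split_ifs <;> simp
  rw [Frm.minor, this, Matrix.det_one]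

variable {P : Scheme.{u}} {p : P ⟶ X} {O1 : P.Modules} {u : (Scheme.Modules.pullback p).obj L ⟶ O1}
  (hPB : KRR.IsProjBundle p L O1 u)

include hPB in
theorem exists_chartTo (F : Frm E L ks) (l : Fin n) :
    ∃ (c : (F.cht l).left ⟶ P) (hW : ⊤ ≤ c ⁻¹ᵁ locus p u F.ell l), c ≫ p = (F.cht l).hom ∧
      ∀ i, c.appLE _ ⊤ hW (crd p u F.ell l i) = F.minor l i :=
  Groth.L19.ProjBdl.exists_hom hPB F.hw (F.cht l).hom (chart_le F.U.2 _) (F.minor l) l (F.minor_self l)

/-- The morphism of a chart to the projective bundle. -/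
def Frm.toP (F : Frm E L ks) (l : Fin n) : (F.cht l).left ⟶ P := (exists_chartTo hPB F l).choose

theorem Frm.toP_le (F : Frm E L ks) (l : Fin n) : ⊤ ≤ F.toP hPB l ⁻¹ᵁ locus p u F.ell l :=
  (exists_chartTo hPB F l).choose_spec.choose

theorem Frm.toP_comp (F : Frm E L ks) (l : Fin n) : F.toP hPB l ≫ p = (F.cht l).hom :=
  (exists_chartTo hPB F l).choose_spec.choose_spec.1

theorem Frm.toP_crd (F : Frm E L ks) (l i : Fin n) :
    (F.toP hPB l).appLE _ ⊤ (F.toP_le hPB l) (crd p u F.ell l i) = F.minor l i :=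
  (exists_chartTo hPB F l).choose_spec.choose_spec.2 i

section Val

variable {Z : Scheme.{u}} (h : Z ⟶ P) {V : X.Opens}

/-- The value at a morphism of a section of `L`. -/
def val (p : P ⟶ X) (u : (Scheme.Modules.pullback p).obj L ⟶ O1) (hV : ⊤ ≤ h ⁻¹ᵁ (p ⁻¹ᵁ V)) (s : Γ(L, V)) :
    Γ((Scheme.Modules.pullback h).obj O1, ⊤) :=
  pullTop h O1 hV (u.app (p ⁻¹ᵁ V) (pull p L V s))

omit hPB in
theorem val_mono {V' : X.Opens} (hle : V' ≤ V) (hV : ⊤ ≤ h ⁻¹ᵁ (p ⁻¹ᵁ V)) (hV' : ⊤ ≤ h ⁻¹ᵁ (p ⁻¹ᵁ V'))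
    (s : Γ(L, V)) : val h p u hV' (rs L hle s) = val h p u hV s := by
  rw [val, val, ← pull_rs, Groth.L19.ProjBdl.app_rs, pullTop_mono]

omit hPB in
theorem val_smul (hV : ⊤ ≤ h ⁻¹ᵁ (p ⁻¹ᵁ V)) (r : Γ(X, V)) (s : Γ(L, V)) :
    val h p u hV (r • s) = h.appLE _ ⊤ hV (p.app V r) • val h p u hV s := by
  rw [val, val, pull_smul, Scheme.Modules.Hom.app_smul, pullTop_smul]

omit hPB in
theorem val_add (hV : ⊤ ≤ h ⁻¹ᵁ (p ⁻¹ᵁ V)) (s t : Γ(L, V)) :
    val h p u hV (s + t) = val h p u hV s + val h p u hV t :=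
  (congrArg (pullTop h O1 hV) ((congrArg (u.app (p ⁻¹ᵁ V))
    (map_add (((Scheme.Modules.pullbackPushforwardAdjunction p).unit.app L).app V).hom s t)).trans
      (map_add _ _ _))).trans ((congrArg (rs _ hV)
    (map_add (((Scheme.Modules.pullbackPushforwardAdjunction h).unit.app O1).app (p ⁻¹ᵁ V)).hom _ _)).trans
      (map_add _ _ _))

end Val

omit hPB in
theorem sec_rs {T : Scheme.{u}} {g : T ⟶ X} {U V : X.Opens} (hle : V ≤ U) (hU : (⊤ : T.Opens) ≤ g ⁻¹ᵁ U)
    (hV : (⊤ : T.Opens) ≤ g ⁻¹ᵁ V) (m : Γ(E, U)) : sec hV (rs E hle m) = sec hU m := by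
  rw [sec, sec, ← pull_rs, rs_rs]

theorem le_preimage {Z : Over X} {W : X.Opens} {h : Z.left ⟶ P} (hh : h ≫ p = Z.hom)
    (hg : (⊤ : Z.left.Opens) ≤ Z.hom ⁻¹ᵁ W) : ⊤ ≤ h ⁻¹ᵁ (p ⁻¹ᵁ W) := by
  rw [← hh] at hg
  exact hg

/-- The morphisms of two charts agree on common points. -/
theorem agree_local (F F' : Frm E L ks) (l l' : Fin n) {Z : Over X} (a : Z ⟶ F.cht l) (a' : Z ⟶ F'.cht l')
    (hres : (qFam E e).res a (ξ F.U.2 (F.tup l)) = (qFam E e).res a' (ξ F'.U.2 (F'.tup l'))) {V : X.Opens}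
    (hVU : V ≤ F.U) (hVU' : V ≤ F'.U) (hgV : (⊤ : Z.left.Opens) ≤ Z.hom ⁻¹ᵁ V)
    (wV : Γ(E, V) [⋀^Fin e]→ₗ[Γ(X, V)] Γ(L, V))
    (hwV : ∀ m, rs L hVU (F.w m) = wV fun j => rs E hVU (m j))
    (hwV' : ∀ m, rs L hVU' (F'.w m) = wV fun j => rs E hVU' (m j)) :
    a.left ≫ F.toP hPB l = a'.left ≫ F'.toP hPB l' := by
  classical
  have hgU : (⊤ : Z.left.Opens) ≤ Z.hom ⁻¹ᵁ F.U := hgV.trans (Z.hom.preimage_mono hVU)
  have hgU' : (⊤ : Z.left.Opens) ≤ Z.hom ⁻¹ᵁ F'.U := hgV.trans (Z.hom.preimage_mono hVU')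
  set h := a.left ≫ F.toP hPB l with hh
  set h' := a'.left ≫ F'.toP hPB l' with hh'
  have hhp : h ≫ p = Z.hom := by rw [hh, Category.assoc, F.toP_comp hPB]; exact Over.w a
  have hhp' : h' ≫ p = Z.hom := by rw [hh', Category.assoc, F'.toP_comp hPB]; exact Over.w a'
  have hW : ⊤ ≤ h ⁻¹ᵁ locus p u F.ell l := fun z _ =>
    F.toP_le hPB l (trivial : a.left z ∈ (⊤ : (F.cht l).left.Opens))
  have hW' : ⊤ ≤ h' ⁻¹ᵁ locus p u F'.ell l' := fun z _ =>
    F'.toP_le hPB l' (trivial : a'.left z ∈ (⊤ : (F'.cht l').left.Opens))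
  have hcrd : ∀ i, h.appLE _ ⊤ hW (crd p u F.ell l i) = a.left.appTop (F.minor l i) := fun i => by
    rw [← F.toP_crd hPB l i]
    exact (congr($(Scheme.Hom.appLE_comp_appLE a.left (F.toP hPB l) (locus p u F.ell l) ⊤ ⊤ (F.toP_le hPB l) le_top)
      (crd p u F.ell l i))).symm.trans (congr($((Scheme.Hom.app_eq_appLE a.left (U := ⊤)).symm) _))
  have hcrd' : ∀ i, h'.appLE _ ⊤ hW' (crd p u F'.ell l' i) = a'.left.appTop (F'.minor l' i) := fun i => by
    rw [← F'.toP_crd hPB l' i]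
    exact (congr($(Scheme.Hom.appLE_comp_appLE a'.left (F'.toP hPB l') (locus p u F'.ell l') ⊤ ⊤ (F'.toP_le hPB l') le_top)
      (crd p u F'.ell l' i))).symm.trans (congr($((Scheme.Hom.app_eq_appLE a'.left (U := ⊤)).symm) _))
  -- coordinates of the two quotients
  haveI := (exists_univ F.U.2 (F.tup l)).choose_spec.1
  haveI := (exists_univ F'.U.2 (F'.tup l')).choose_spec.1
  haveI := Groth.L18.MapEpi.epi_quotBC (Over.w a) (exists_univ F.U.2 (F.tup l)).choose
  haveI := Groth.L18.MapEpi.epi_quotBC (Over.w a') (exists_univ F'.U.2 (F'.tup l')).choose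
  change res E e a (mk _ _ _) = res E e a' (mk _ _ _) at hres
  rw [res_mk, res_mk, mk_eq_mk] at hres
  obtain ⟨θ, hθ⟩ := hres
  let σ := Grass.quotBC (Over.w a) (exists_univ F.U.2 (F.tup l)).choose
  let σ' := Grass.quotBC (Over.w a') (exists_univ F'.U.2 (F'.tup l')).choose
  let τ : Fin e → Γ((Scheme.Modules.pullback a.left).obj (FlatMod.freeMod (F.cht l).left e), ⊤) := fun k => pl a.left _ (uvec (F.cht l).left e k)
  let τ' : Fin e → Γ((Scheme.Modules.pullback a'.left).obj (FlatMod.freeMod (F'.cht l').left e), ⊤) := fun k => pl a'.left _ (uvec (F'.cht l').left e k)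
  have hτ : IsBasis _ τ := isBasis_uvec.pl a.left
  have hτ' : IsBasis _ τ' := isBasis_uvec.pl a'.left
  letI : Algebra Γ(X, V) Γ(Z.left, ⊤) := (Z.hom.appLE V ⊤ hgV).hom.toAlgebra
  choose cA' hcA' using fun m => hτ'.bijective.2 (σ'.app ⊤ (sec hgV m))
  have hsec : ∀ (r : Γ(X, V)) (m : Γ(E, V)), sec hgV (r • m) = algebraMap Γ(X, V) Γ(Z.left, ⊤) r • sec hgV m :=
    fun r m => by rw [sec, sec, pull_smul, rs_smul]; rfl
  let cl : Γ(E, V) →ₗ[Γ(X, V)] Fin e → Γ(Z.left, ⊤) :=
    { toFun := cA'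
      map_add' := fun x y => hτ'.bijective.1 ((hcA' _).trans (by
        simp only [Pi.add_apply, add_smul, Finset.sum_add_distrib, hcA']
        rw [← map_add]
        exact congrArg (σ'.app ⊤) ((congrArg (rs _ hgV) (map_add _ x y)).trans (map_add _ _ _))))
      map_smul' := fun r m => hτ'.bijective.1 ((hcA' _).trans (by
        simp only [RingHom.id_apply, Pi.smul_apply, Algebra.smul_def, mul_smul, ← Finset.smul_sum, hcA', hsec,
          Scheme.Modules.Hom.app_smul])) }
  -- in the basis of the second chart the coordinates are its own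
  have hA' : ∀ m : Γ(E, (F'.U : X.Opens)), cA' (rs E hVU' m) =
      fun k => a'.left.appTop (QuotChart.crd F'.U.2 (F'.tup l') m k) := fun m => hτ'.bijective.1 ((hcA' _).trans (by
    rw [sec_rs hVU' hgU' hgV, app_sec_res]))
  obtain ⟨M, hM⟩ := hτ'.exists_matrix fun k => θ.hom.app ⊤ (τ k)
  have hMu : IsUnit M.det := IsBasis.isUnit_det (hτ.map θ.hom) hM
  have hA : ∀ m : Γ(E, (F.U : X.Opens)), cA' (rs E hVU m) =
      fun k => ∑ j, a.left.appTop (QuotChart.crd F.U.2 (F.tup l) m j) * M j k := fun m => hτ'.bijective.1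
    ((hcA' _).trans (by
      rw [sec_rs hVU hgU hgV]
      show (σ'.app ⊤ (sec hgU m)) = _
      rw [show σ'.app ⊤ (sec hgU m) = θ.hom.app ⊤ (σ.app ⊤ (sec hgU m)) from
        congr(($hθ).app ⊤ (sec hgU m)).symm, app_sec_res, app_sum_smul]
      simp only [Finset.sum_smul, mul_smul]
      rw [Finset.sum_comm]
      exact Finset.sum_congr rfl fun j _ => by rw [hM j, Finset.smul_sum]))
  -- the values on `h'` are the minors
  have hV' : ⊤ ≤ h' ⁻¹ᵁ (p ⁻¹ᵁ V) := le_preimage hhp' hgV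
  letI := Module.compHom Γ((Scheme.Modules.pullback h').obj O1, ⊤) (algebraMap Γ(X, V) Γ(Z.left, ⊤))
  haveI : IsScalarTower Γ(X, V) Γ(Z.left, ⊤) Γ((Scheme.Modules.pullback h').obj O1, ⊤) :=
    IsScalarTower.of_algebraMap_smul fun _ _ => rfl
  have halg : ∀ r : Γ(X, V), h'.appLE _ ⊤ hV' (p.app V r) = algebraMap Γ(X, V) Γ(Z.left, ⊤) r := fun r => by
    rw [RingHom.algebraMap_toAlgebra, ← CommRingCat.comp_apply, Scheme.Hom.app_eq_appLE,
      Scheme.Hom.appLE_comp_appLE]
    simp [hhp']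
  let vl : Γ(L, V) →ₗ[Γ(X, V)] Γ((Scheme.Modules.pullback h').obj O1, ⊤) :=
    { toFun := val h' p u hV'
      map_add' := val_add h' hV'
      map_smul' := fun r s => (val_smul h' hV' r s).trans (congrArg (· • val h' p u hV' s) (halg r)) }
  let e' := psec p u F'.ell h' (le_preimage hhp' hgU') l'
  obtain ⟨B', hB'⟩ := Groth.L18.PlkAlg.exists_moduleBasis (F'.hb.mono hVU')
  have hkey : vl.compAlternatingMap wV =
      ((LinearMap.toSpanSingleton Γ(Z.left, ⊤) _ e').restrictScalars Γ(X, V)).compAlternatingMap (detAlt cl) := by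
    refine Groth.L18.PlkAlg.alt_ext ks B' fun i => ?_
    show val h' p u hV' (wV (B' ∘ K ks i)) = detAlt cl (B' ∘ K ks i) • e'
    rw [show (B' ∘ K ks i) = fun j => rs E hVU' (F'.tup i j) from funext fun j => hB' _, ← hwV',
      val_mono h' hVU' (le_preimage hhp' hgU')]
    show psec p u F'.ell h' _ i = _
    rw [psec_locus h' _ hW' i, hcrd']
    congr 1
    rw [Groth.L18.PlkAlg.detAlt_apply, Frm.minor, RingHom.map_det]
    congr 1
    ext j k
    exact (congrFun (hA' (F'.tup i j)) k).symm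
  have hU'' := le_preimage hhp' hgU
  have hvals : ∀ i, psec p u F.ell h' hU'' i = (a.left.appTop (F.minor l i) * M.det) • e' := fun i => by
    have h1 : val h' p u hV' (wV fun j => rs E hVU (F.tup i j)) = detAlt cl (fun j => rs E hVU (F.tup i j)) • e' :=
      congr($hkey fun j => rs E hVU (F.tup i j))
    rw [← hwV, val_mono h' hVU hU''] at h1
    refine Eq.trans h1 (congrArg (· • e') ?_)
    rw [Groth.L18.PlkAlg.detAlt_apply, Frm.minor, RingHom.map_det, ← Matrix.det_mul]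
    congr 1
    ext j k
    exact congrFun (hA (F.tup i j)) k
  have hl : psec p u F.ell h' hU'' l = M.det • e' := by rw [hvals, Frm.minor_self, map_one, one_mul]
  have hfr : IsFrame ((Scheme.Modules.pullback h').obj O1) ⊤ (psec p u F.ell h' hU'' l) := by
    rw [hl]
    exact (isFrame_psec h' _ hW').smul_unit hMu
  have hW'' := Groth.L19.ProjBdl.le_preimage_locus hPB F.hw h' hU'' hfr
  refine Groth.L19.ProjBdl.hom_ext hPB F.hw (hhp.trans hhp'.symm) hW hW'' fun i => ?_
  rw [hcrd]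
  refine hfr.inj le_rfl ?_
  rw [rs_self, ← psec_locus h' hU'' hW'' i, hl, hvals, mul_smul]

end Groth.L18.PlkMap
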