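import Groth.Agent.L13.LG.ChartW
import Groth.Agent.L18.Segre
import Mathlib.LinearAlgebra.Matrix.Adjugate

/-!
# The Plücker embedding of a scheme representing a Grassmannian functor
-/

set_option autoImplicit false

universe u v

open AlgebraicGeometry CategoryTheory CategoryTheory.Limits Module
open Groth.L13.LG

namespace Groth.L18.Pluecker

variable {d r N : ℕ} (ks : Fin (N + 1) → (Fin r ↪ Fin d))

/-- the Plücker coordinates of a tuple of vectors -/
def P {A : Type v} [CommRing A] (v : Fin r → Fin d → A) (m : Fin (N + 1)) : A := (sqm (ks m) v).det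

theorem P_map {A B : Type v} [CommRing A] [CommRing B] (φ : A →+* B) (v : Fin r → Fin d → A) (m : Fin (N + 1)) :
    P ks (fun l => vmap φ (v l)) m = φ (P ks v m) :=
  det_sqm_vmap φ v

theorem P_of_span_le {A : Type v} [CommRing A] {v w : Fin r → Fin d → A}
    (h : ∀ l, w l ∈ Submodule.span A (Set.range v)) : ∃ c : A, ∀ m, P ks w m = c * P ks v m := by
  choose a ha using fun l => (Submodule.mem_span_range_iff_exists_fun A).1 (h l)
  refine ⟨(Matrix.of a).det, fun m => ?_⟩
  have e : sqm (ks m) w = Matrix.of a * sqm (ks m) v := by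
    ext l j
    simp [sqm, Matrix.mul_apply, ← ha l, Finset.sum_apply]
  rw [P, P, e, Matrix.det_mul]

/-- every minor is one of the chosen ones, up to a permutation -/
def Covers : Prop := ∀ K : Fin r ↪ Fin d, ∃ (k : Fin (N + 1)) (σ : Equiv.Perm (Fin r)), K = σ.toEmbedding.trans (ks k)

theorem det_eq_sign_mul {A : Type v} [CommRing A] {K : Fin r ↪ Fin d} {k : Fin (N + 1)}
    {σ : Equiv.Perm (Fin r)} (h : K = σ.toEmbedding.trans (ks k)) (v : Fin r → Fin d → A) :
    (sqm K v).det = ((Equiv.Perm.sign σ : ℤ) : A) * P ks v k := by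
  rw [P, ← Matrix.det_permute' σ (sqm (ks k) v), h]
  rfl

/-- there is a covering family with the expected number of members -/
theorem exists_covers (hrd : r ≤ d) :
    ∃ (ks : Fin (d.choose r - 1 + 1) → (Fin r ↪ Fin d)), Covers ks := by
  classical
  let S := {s : Finset (Fin d) // s.card = r}
  have hc : Fintype.card S = d.choose r - 1 + 1 := by
    have : 1 ≤ d.choose r := Nat.choose_pos hrd
    rw [Fintype.card_finset_len, Fintype.card_fin]
    omega
  let e : S ≃ Fin (d.choose r - 1 + 1) := Fintype.equivFinOfCardEq hc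
  refine ⟨fun k => ((e.symm k).1.orderEmbOfFin (e.symm k).2).toEmbedding, fun K => ?_⟩
  let s : S := ⟨Finset.univ.map K, by simp⟩
  refine ⟨e s, Equiv.ofBijective (fun j => (s.1.orderIsoOfFin s.2).symm ⟨K j, by simp [s]⟩) ?_, ?_⟩
  · refine (Fintype.bijective_iff_injective_and_card _).2 ⟨fun a b h => ?_, rfl⟩
    exact K.injective (congrArg Subtype.val ((s.1.orderIsoOfFin s.2).symm.injective h))
  · ext j
    simp only [Function.Embedding.trans_apply, Equiv.coe_toEmbedding, Equiv.ofBijective_apply, RelEmbedding.coe_toEmbedding,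
      Equiv.symm_apply_apply]
    rw [← Finset.coe_orderIsoOfFin_apply, OrderIso.apply_symm_apply]

variable {R : Type u} [CommRing R] {f g : Fin 0 → ((Fin d → R) →ₗ[R] (Fin d → R))}

/-- the chart of index `k` -/
noncomputable abbrev C (f g : Fin 0 → ((Fin d → R) →ₗ[R] (Fin d → R))) (k : Fin (N + 1)) : ChartData r f g :=
  chartW f g (fun _ => ks k)

/-- the universal rows on the chart `k` -/
noncomputable abbrev w (f g : Fin 0 → ((Fin d → R) →ₗ[R] (Fin d → R))) (k : Fin (N + 1)) :
    Fin r → Fin d → WRing f g (fun _ => ks k) :=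
  wrow (wuniv f g (fun _ => ks k)) 0

theorem P_w_self (k : Fin (N + 1)) : P ks (w ks f g k) k = 1 := by
  rw [P, show sqm (ks k) (w ks f g k) = 1 from Matrix.ext (wrow_proj weqn_wuniv le_rfl), Matrix.det_one]

theorem good_iff {A : CommAlgCat.{u} R} {V : ℕ → Submodule A (Fin d → A)} (k : Fin (N + 1)) :
    (C ks f g k).good A V ↔ Minor (ks k) (V 0) :=
  ⟨fun h => h 0 le_rfl, fun h i hi => by obtain rfl : i = 0 := Nat.le_zero.1 hi; exact h⟩

theorem good_of_isUnit {A : CommAlgCat.{u} R} {V : ℕ → Submodule A (Fin d → A)} {v : Fin r → Fin d → A}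
    (hv : ∀ l, v l ∈ V 0) (k : Fin (N + 1)) (h : IsUnit (P ks v k)) : (C ks f g k).good A V :=
  (good_iff ks k).2 ⟨v, hv, h⟩

theorem mem_W (l : Fin (N + 1)) (j : Fin r) : w ks f g l j ∈ (C ks f g l).W 0 := by
  show w ks f g l j ∈ Submodule.span (WRing f g fun _ => ks l) (Set.range (w ks f g l))
  exact Submodule.subset_span ⟨j, rfl⟩

variable (D : Rep r f g)

/-- the chart morphism, with the ring of the chart spelled out -/
noncomputable def chartMap (k : Fin (N + 1)) :
    Spec (CommRingCat.of (WRing f g fun _ => ks k)) ⟶ D.X.left :=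
  (C ks f g k).map D

instance (k : Fin (N + 1)) : IsOpenImmersion (chartMap ks D k) := (C ks f g k).isOpenImmersion D

theorem chartMap_hom (k : Fin (N + 1)) :
    chartMap ks D k ≫ D.X.hom = Spec.map (CommRingCat.ofHom (algebraMap R (WRing f g fun _ => ks k))) :=
  (C ks f g k).map_hom D

theorem exists_mem_range (hks : Covers ks) (hrd : r ≤ d) (p : D.X.left) :
    ∃ k, p ∈ Set.range (chartMap ks D k) := by
  obtain ⟨K, hK, x, hx⟩ := D.exists_field_pt p
  letI := hK.toField
  have hV := (D.isPt_val x).bundle 0 le_rfl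
  have hr := hV.finrank_eq hrd
  let b := (Module.finBasisOfFinrankEq K _ hr)
  have hli : LinearIndependent K fun l => (b l : Fin d → K) :=
    b.linearIndependent.map' (D.val x 0).subtype (Submodule.ker_subtype _)
  obtain ⟨J, hJ⟩ := exists_minor _ hli
  obtain ⟨k, σ, hσ⟩ := hks J
  refine ⟨k, ((C ks f g k).mem_range_iff D p).2 ⟨K, hK, x, hx ▸ rfl,
    good_of_isUnit ks (v := fun l => (b l : Fin d → K)) (fun l => (b l).2) k ?_⟩⟩
  have h2 : IsUnit (sqm J fun l => (b l : Fin d → K)).det := hJ
  rw [det_eq_sign_mul ks hσ] at h2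
  exact isUnit_of_mul_isUnit_right h2

/-- the cover by the charts -/
noncomputable def cover (hks : Covers ks) (hrd : r ≤ d) : D.X.left.AffineOpenCover where
  I₀ := Fin (N + 1)
  X k := .of (WRing f g (fun _ => ks k))
  f k := chartMap ks D k
  idx p := (exists_mem_range ks D hks hrd p).choose
  covers p := (exists_mem_range ks D hks hrd p).choose_spec

/-- the Plücker coordinates of compatible points of two charts are proportional -/
theorem proportional (k l : Fin (N + 1)) (S : CommRingCat.{u})
    (a : CommRingCat.of (WRing f g fun _ => ks k) ⟶ S) (b : CommRingCat.of (WRing f g fun _ => ks l) ⟶ S)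
    (h : Spec.map a ≫ chartMap ks D k = Spec.map b ≫ chartMap ks D l) :
    a.hom.comp (algebraMap R (WRing f g fun _ => ks k)) = b.hom.comp (algebraMap R (WRing f g fun _ => ks l)) ∧
      ∃ c : S, ∀ m, b.hom (P ks (w ks f g l) m) = c * a.hom (P ks (w ks f g k) m) := by
  have hs : a.hom.comp (algebraMap R (WRing f g fun _ => ks k)) =
      b.hom.comp (algebraMap R (WRing f g fun _ => ks l)) := by
    have h1 := congrArg (· ≫ D.X.hom) h
    simp only [Category.assoc, chartMap_hom, ← Spec.map_comp] at h1
    exact congrArg CommRingCat.Hom.hom (Spec.map_injective h1)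
  refine ⟨hs, ?_⟩
  letI : Algebra R S := (a.hom.comp (algebraMap R (WRing f g fun _ => ks k))).toAlgebra
  let φ : (C ks f g k).B →ₐ[R] CommAlgCat.of R S := ⟨a.hom, fun _ => rfl⟩
  let ψ : (C ks f g l).B →ₐ[R] CommAlgCat.of R S := ⟨b.hom, fun x => (RingHom.congr_fun hs x).symm⟩
  have he : D.res φ ((C ks f g k).pt D) = D.res ψ ((C ks f g l).pt D) := Over.OverMorphism.ext h
  have hm : mapV a.hom (Submodule.span _ (Set.range (w ks f g k))) =
      mapV b.hom (Submodule.span _ (Set.range (w ks f g l))) := by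
    have h0 := (D.val_res φ ((C ks f g k).pt D) le_rfl).symm.trans
      ((congrArg (fun x => D.val x 0) he).trans (D.val_res ψ ((C ks f g l).pt D) le_rfl))
    rw [(C ks f g k).val_pt D le_rfl, (C ks f g l).val_pt D le_rfl] at h0
    exact h0
  rw [mapV_span, mapV_span] at hm
  have hmem : ∀ j, vmap b.hom (w ks f g l j) ∈
      Submodule.span S (Set.range fun i => vmap a.hom (w ks f g k i)) := fun j => by
    have : vmap b.hom (w ks f g l j) ∈ Submodule.span S (vmap b.hom '' Set.range (w ks f g l)) :=
      Submodule.subset_span ⟨_, ⟨j, rfl⟩, rfl⟩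
    rw [← hm, ← Set.range_comp] at this
    exact this
  obtain ⟨c, hc⟩ := P_of_span_le ks hmem
  exact ⟨c, fun m => by rw [← P_map ks b.hom, ← P_map ks a.hom]; exact hc m⟩

theorem exists_map (hks : Covers ks) (hrd : r ≤ d) :
    ∃ φ : D.X.left ⟶ CohB1.ProjSpace N R, ∀ k, chartMap ks D k ≫ φ =
      PS.tuplePt (B := .of (WRing f g fun _ => ks k)) (algebraMap R (WRing f g fun _ => ks k))
        (P ks (w ks f g k)) k (by rw [P_w_self]; exact isUnit_one) :=
  PS.exists_hom_of_tuples (cover ks D hks hrd) (fun k => algebraMap R (WRing f g fun _ => ks k))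
    (fun k => P ks (w ks f g k)) id (fun k => (P_w_self (f := f) (g := g) ks k).symm ▸ isUnit_one)
    (fun k l S a b h => proportional ks D k l S a b h)

theorem preimage_eq {φ : D.X.left ⟶ CohB1.ProjSpace N R} (hks : Covers ks) (hrd : r ≤ d)
    (hφ : ∀ k, chartMap ks D k ≫ φ =
      PS.tuplePt (B := .of (WRing f g fun _ => ks k)) (algebraMap R (WRing f g fun _ => ks k))
        (P ks (w ks f g k)) k (by rw [P_w_self]; exact isUnit_one)) (k : Fin (N + 1)) :
    φ ⁻¹ᵁ Proj.basicOpen (CohB1.polyGrading N R) (MvPolynomial.X k) = (chartMap ks D k).opensRange := by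
  apply TopologicalSpace.Opens.ext
  ext z
  constructor
  · obtain ⟨l, hl⟩ := exists_mem_range ks D hks hrd z
    obtain ⟨y, rfl⟩ := hl
    intro hz
    have hy : y ∈ chartMap ks D l ⁻¹ᵁ (φ ⁻¹ᵁ Proj.basicOpen (CohB1.polyGrading N R) (MvPolynomial.X k)) := hz
    rw [← Scheme.Hom.comp_preimage, hφ, PS.tuplePt_preimage_X] at hy
    let y' : PrimeSpectrum (WRing f g fun _ => ks l) := y
    haveI := y'.isPrime
    let K : CommAlgCat.{u} R := CommAlgCat.of R y'.asIdeal.ResidueField
    let χ : (C ks f g l).B →ₐ[R] K :=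
      IsScalarTower.toAlgHom R (WRing f g fun _ => ks l) y'.asIdeal.ResidueField
    have hK : IsField (K : Type u) := Field.toIsField y'.asIdeal.ResidueField
    refine ((C ks f g k).mem_range_iff D _).2 ⟨K, hK, D.res χ ((C ks f g l).pt D), ?_, ?_⟩
    · obtain ⟨c, hc⟩ := (mem_range_spec_iff hK χ y).2
        (Ideal.ker_algebraMap_residueField y'.asIdeal).symm
      exact ⟨c, congrArg (chartMap ks D l) hc⟩
    · refine good_of_isUnit ks (v := fun j => vmap χ.toRingHom (w ks f g l j)) (fun j => ?_) k ?_
      · rw [D.val_res χ _ le_rfl, (C ks f g l).val_pt D le_rfl]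
        exact vmap_mem χ.toRingHom (W := (C ks f g l).W 0) (v := w ks f g l j) (mem_W ks l j)
      · rw [P_map]
        letI := hK.toField
        exact isUnit_iff_ne_zero.2 fun h => hy (Ideal.algebraMap_residueField_eq_zero.1 h)
  · rintro ⟨y, rfl⟩
    show y ∈ chartMap ks D k ⁻¹ᵁ (φ ⁻¹ᵁ Proj.basicOpen (CohB1.polyGrading N R) (MvPolynomial.X k))
    rw [← Scheme.Hom.comp_preimage, hφ, PS.tuplePt_preimage_X, P_w_self, PS.basicOpen_eq_top_of_isUnit isUnit_one]
    trivial

theorem chartHom_surjective (hks : Covers ks) (k : Fin (N + 1)) :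
    Function.Surjective (PS.chartHom (algebraMap R (WRing f g fun _ => ks k)) (P ks (w ks f g k)) k
      (by rw [P_w_self]; exact isUnit_one)) := by
  classical
  set ψ := PS.chartHom (algebraMap R (WRing f g fun _ => ks k)) (P ks (w ks f g k)) k
    (by rw [P_w_self]; exact isUnit_one)
  have hscal : ∀ a, algebraMap R (WRing f g fun _ => ks k) a ∈ ψ.range := fun a =>
    ⟨_, PS.chartHom_algebraMap _ _ _ _ a⟩
  have hP : ∀ m, P ks (w ks f g k) m ∈ ψ.range := fun m => ⟨PS.coord k m, by
    have := PS.chartHom_coord (algebraMap R (WRing f g fun _ => ks k)) (P ks (w ks f g k)) k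
      (by rw [P_w_self]; exact isUnit_one) m
    exact (mul_one _).symm.trans ((congrArg (fun x => ψ (PS.coord k m) * x) (P_w_self ks k).symm).trans this)⟩
  have hw : ∀ (l : Fin r) (c : Fin d), w ks f g k l c ∈ ψ.range := by
    intro l c
    have hproj := fun m => wrow_proj (weqn_wuniv (f := f) (g := g) (J := fun _ => ks k)) (le_refl 0) l m
    by_cases hc : c ∈ Set.range (ks k)
    · obtain ⟨m, rfl⟩ := hc
      rw [show w ks f g k l (ks k m) = _ from hproj m, Matrix.one_apply]
      split_ifs
      exacts [one_mem _, zero_mem _]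
    · let K : Fin r ↪ Fin d := ⟨Function.update (ks k) l c, fun i j hij => by
        by_cases hi : i = l <;> by_cases hj : j = l <;>
          simp [hi, hj, Function.update] at hij ⊢
        · exact (hc ⟨j, hij.symm⟩).elim
        · exact (hc ⟨i, hij⟩).elim
        · exact hij⟩
      obtain ⟨k', σ, hσ⟩ := hks K
      have e : (sqm K (w ks f g k)).det = w ks f g k l c := by
        have e1 : sqm K (w ks f g k) =
            (1 : Matrix (Fin r) (Fin r) (WRing f g fun _ => ks k)).updateCol l (fun i => w ks f g k i c) := by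
          ext i j
          rw [Matrix.updateCol_apply]
          show w ks f g k i (Function.update (ks k) l c j) = _
          by_cases hj : j = l
          · rw [if_pos hj, hj, Function.update_self]
          · rw [if_neg hj, Function.update_of_ne hj]
            exact wrow_proj (weqn_wuniv (f := f) (g := g) (J := fun _ => ks k)) (le_refl 0) i j
        rw [e1, ← Matrix.cramer_apply, Matrix.cramer_one]
        rfl
      rw [← e, det_eq_sign_mul ks hσ]
      exact mul_mem (intCast_mem _ _) (hP k')
  intro z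
  show z ∈ ψ.range
  obtain ⟨p, rfl⟩ := Ideal.Quotient.mk_surjective z
  induction p using MvPolynomial.induction_on with
  | C a => exact hscal a
  | add p q hp hq => rw [map_add]; exact add_mem hp hq
  | mul_X p v hp =>
    rw [map_mul]
    refine mul_mem hp ?_
    obtain ⟨i, l, c⟩ := v
    have := hw l c
    have hi : (⟨min 0 0, by omega⟩ : Fin (0 + 1)) = i := Fin.ext (by have := i.2; simp)
    simp only [w, wrow, hi] at this
    exact this

/-- The Plücker embedding. -/
theorem exists_closedImmersion (hks : Covers ks) (hrd : r ≤ d) :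
    ∃ φ : D.X.left ⟶ CohB1.ProjSpace N R, IsClosedImmersion φ ∧ φ ≫ CohB1.ProjSpace.toSpec N R = D.X.hom := by
  obtain ⟨φ, hφ⟩ := exists_map ks D hks hrd
  refine ⟨φ, ?_, ?_⟩
  · refine IsZariskiLocalAtTarget.of_openCover (P := @IsClosedImmersion) (PS.chartCover R N).openCover fun k => ?_
    set ψ := CommRingCat.ofHom (PS.chartHom (algebraMap R (WRing f g fun _ => ks k)) (P ks (w ks f g k)) k
      (by rw [P_w_self]; exact isUnit_one))
    haveI : IsClosedImmersion (Spec.map ψ) :=
      IsClosedImmersion.spec_of_surjective _ (chartHom_surjective ks hks k)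
    have hpb : IsPullback (Spec.map ψ) (chartMap ks D k) (PS.chart N R k) φ := by
      refine IsOpenImmersion.isPullback _ _ _ _ (hφ k) ?_
      rw [← preimage_eq ks D hks hrd hφ k, PS.range_chart]
    have key : (hpb.flip.isoPullback).inv ≫ Spec.map ψ = pullback.snd φ (PS.chart N R k) :=
      hpb.flip.isoPullback_inv_snd
    show IsClosedImmersion (pullback.snd φ (PS.chart N R k))
    rw [← key]
    infer_instance
  · refine (cover ks D hks hrd).openCover.hom_ext _ _ fun k => ?_
    show chartMap ks D k ≫ φ ≫ _ = chartMap ks D k ≫ D.X.hom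
    rw [← Category.assoc]
    exact ((congrArg (· ≫ CohB1.ProjSpace.toSpec N R) (hφ k)).trans (PS.tuplePt_toSpec _ _ _ _)).trans
      (chartMap_hom ks D k).symm

end Groth.L18.Pluecker
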