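import Groth.Agent.L16.AffineBC.Local
import Groth.Agent.L16.AffineBC.Pullback
import Groth.Agent.L20.ResDescent

/-!
# Morphisms out of the inverse image of a quasi-coherent module over an affine open

For `g : T ⟶ X` landing in an affine open `U` and quasi-coherent `E`, morphisms `g^*E ⟶ N` are the
semilinear maps `Γ(E, U) → Γ(N, ⊤)`.
-/

set_option autoImplicit false
set_option linter.style.haveILetI false
set_option backward.isDefEq.respectTransparency false
set_option backward.isDefEq.respectTransparency.types false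

universe u

open CategoryTheory CategoryTheory.Limits AlgebraicGeometry TopologicalSpace Opposite

noncomputable section

namespace Groth.L18.PullHom

open Groth.L18.Frame (rs ro rs_rs ro_ro rs_smul rs_self pull)
open Groth.L16.AffineBC (pullRes isBaseChange_pull hom_ext_affine exists_hom_affine isQCoh_pullback)

variable {X T : Scheme.{u}} {g : T ⟶ X} {E : X.Modules} [Coh.IsQCoh E] {U : X.Opens}
  {N : T.Modules}

/-- The global section of the inverse image defined by a section over an open containing the image. -/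
def sec (hg : (⊤ : T.Opens) ≤ g ⁻¹ᵁ U) (m : Γ(E, U)) : Γ((Scheme.Modules.pullback g).obj E, ⊤) :=
  rs _ hg (pull g E U m)

theorem rs_sec (hg : (⊤ : T.Opens) ≤ g ⁻¹ᵁ U) {W : T.Opens} (m : Γ(E, U)) :
    rs ((Scheme.Modules.pullback g).obj E) (le_top : W ≤ ⊤) (sec hg m) =
      pullRes g E ((le_top : W ≤ ⊤).trans hg) m :=
  rs_rs _ _ _ _

theorem hom_ext_sec (hU : IsAffineOpen U) (hg : (⊤ : T.Opens) ≤ g ⁻¹ᵁ U)
    {Φ Φ' : (Scheme.Modules.pullback g).obj E ⟶ N}
    (h : ∀ m : Γ(E, U), Φ.app ⊤ (sec hg m) = Φ'.app ⊤ (sec hg m)) : Φ = Φ' := by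
  refine hom_ext_affine _ _ fun W hW z => ?_
  have e : W ≤ g ⁻¹ᵁ U := le_top.trans hg
  letI : Algebra Γ(X, U) Γ(T, W) := (g.appLE U W e).hom.toAlgebra
  letI := Module.compHom Γ((Scheme.Modules.pullback g).obj E, W) (g.appLE U W e).hom
  haveI : IsScalarTower Γ(X, U) Γ(T, W) Γ((Scheme.Modules.pullback g).obj E, W) :=
    IsScalarTower.of_algebraMap_smul fun _ _ => rfl
  refine (isBaseChange_pull g E hU hW e).inductionOn z _ ?_ ?_ ?_ ?_
  · rw [map_zero, map_zero]
  · intro m
    rw [← rs_sec hg m, Groth.L19.ProjBdl.app_rs, Groth.L19.ProjBdl.app_rs, h]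
  · intro b w hw
    rw [Scheme.Modules.Hom.app_smul, Scheme.Modules.Hom.app_smul, hw]
  · intro a b ha hb
    rw [map_add, map_add, ha, hb]

theorem exists_hom_sec (hU : IsAffineOpen U) (hg : (⊤ : T.Opens) ≤ g ⁻¹ᵁ U) (ψ : Γ(E, U) →+ Γ(N, ⊤))
    (hψ : ∀ (a : Γ(X, U)) (m : Γ(E, U)), ψ (a • m) = g.appLE U ⊤ hg a • ψ m) :
    ∃ Φ : (Scheme.Modules.pullback g).obj E ⟶ N, ∀ m, Φ.app ⊤ (sec hg m) = ψ m := by
  have key : ∀ (W : T.Opens), IsAffineOpen W → ∃ φ : Γ((Scheme.Modules.pullback g).obj E, W) →+ Γ(N, W),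
      (∀ m, φ (rs _ (le_top : W ≤ ⊤) (sec hg m)) = rs N le_top (ψ m)) ∧
      ∀ (r : Γ(T, W)) z, φ (r • z) = r • φ z := by
    intro W hW
    have e : W ≤ g ⁻¹ᵁ U := le_top.trans hg
    letI : Algebra Γ(X, U) Γ(T, W) := (g.appLE U W e).hom.toAlgebra
    letI := Module.compHom Γ((Scheme.Modules.pullback g).obj E, W) (g.appLE U W e).hom
    haveI : IsScalarTower Γ(X, U) Γ(T, W) Γ((Scheme.Modules.pullback g).obj E, W) :=
      IsScalarTower.of_algebraMap_smul fun _ _ => rfl
    letI := Module.compHom Γ(N, W) (g.appLE U W e).hom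
    haveI : IsScalarTower Γ(X, U) Γ(T, W) Γ(N, W) := IsScalarTower.of_algebraMap_smul fun _ _ => rfl
    let l : Γ(E, U) →ₗ[Γ(X, U)] Γ(N, W) :=
      { toFun := fun m => rs N le_top (ψ m)
        map_add' := fun a b => (congrArg (rs N le_top) (map_add ψ a b)).trans (map_add _ _ _)
        map_smul' := fun a m => by
          rw [hψ, rs_smul]
          show ro (le_top : W ≤ ⊤) (g.appLE U ⊤ hg a) • rs N (le_top : W ≤ ⊤) (ψ m) = g.appLE U W e a • rs N (le_top : W ≤ ⊤) (ψ m)
          congr 1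
          exact ConcreteCategory.congr_hom (g.appLE_map hg (homOfLE (le_top : W ≤ ⊤)).op) a }
    refine ⟨((isBaseChange_pull g E hU hW e).lift l).toAddMonoidHom, fun m => ?_,
      fun r z => ((isBaseChange_pull g E hU hW e).lift l).map_smul r z⟩
    rw [rs_sec hg m]
    exact (isBaseChange_pull g E hU hW e).lift_eq l m
  choose φ hφ hφs using key
  have hnat : ∀ (W V : T.Opens) (hW : IsAffineOpen W) (hV : IsAffineOpen V) (h : V ≤ W)
      (z : Γ((Scheme.Modules.pullback g).obj E, W)),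
      φ V hV (rs _ h z) = rs N h (φ W hW z) := by
    intro W V hW hV h z
    have e : W ≤ g ⁻¹ᵁ U := le_top.trans hg
    letI : Algebra Γ(X, U) Γ(T, W) := (g.appLE U W e).hom.toAlgebra
    letI := Module.compHom Γ((Scheme.Modules.pullback g).obj E, W) (g.appLE U W e).hom
    haveI : IsScalarTower Γ(X, U) Γ(T, W) Γ((Scheme.Modules.pullback g).obj E, W) :=
      IsScalarTower.of_algebraMap_smul fun _ _ => rfl
    refine (isBaseChange_pull g E hU hW e).inductionOn z _ ?_ ?_ ?_ ?_
    · simp only [rs, map_zero]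
    · intro m
      rw [← rs_sec hg m, rs_rs, hφ, hφ, rs_rs]
    · intro b w hw
      rw [rs_smul, hφs, hφs, rs_smul, hw]
    · intro a b ha hb
      have h1 : rs _ h (a + b) = rs _ h a + rs ((Scheme.Modules.pullback g).obj E) h b := map_add _ _ _
      rw [h1, map_add, map_add, ha, hb]
      exact (map_add _ _ _).symm

  obtain ⟨Φ, hΦ⟩ := exists_hom_affine φ hnat hφs
  refine ⟨Φ, fun m => ?_⟩
  refine TopCat.Sheaf.eq_of_locally_eq' (⟨N.presheaf, N.isSheaf⟩ : TopCat.Sheaf Ab.{u} T.toTopCat)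
    (fun W : T.affineOpens => (W : T.Opens)) ⊤ (fun W => homOfLE le_top) (iSup_affineOpens_eq_top T).ge _ _
    fun W => ?_
  show rs N le_top (Φ.app ⊤ (sec hg m)) = rs N le_top (ψ m)
  rw [← Groth.L19.ProjBdl.app_rs, hΦ W.1 W.2, hφ]

end Groth.L18.PullHom
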