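import Groth.Agent.L18.Grass.QuotChart
import Groth.Agent.L29.DCoh.PCQCoh

/-!
# The standard charts cover the functor of quotients
-/

set_option autoImplicit false
set_option linter.style.haveILetI false
set_option backward.isDefEq.respectTransparency false
set_option backward.isDefEq.respectTransparency.types false

universe u

open CategoryTheory CategoryTheory.Limits AlgebraicGeometry TopologicalSpace Opposite

noncomputable section

namespace Groth.L18.QuotChart

open Groth.L18.Frame (rs ro rs_rs rs_self pull pull_rs)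
open Groth.L18.PullHom (sec)
open Groth.L18.QuotBasis
open Groth.L18.QuotFam
open Groth.L25.HomScheme

variable {X : Scheme.{u}} {E : X.Modules} {e : ℕ}

/-- The open subscheme as an object over the base, with its inclusion. -/
abbrev openObj (T : Over X) (O : T.left.Opens) : Over X := Over.mk (O.ι ≫ T.hom)

/-- The inclusion of an open. -/
abbrev openHom (T : Over X) (O : T.left.Opens) : openObj T O ⟶ T := Over.homMk O.ι rfl

theorem le_openObj {T : Over X} {O : T.left.Opens} {U : X.Opens} (h : O ≤ T.hom ⁻¹ᵁ U) :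
    (⊤ : (openObj T O).left.Opens) ≤ (openObj T O).hom ⁻¹ᵁ U := fun y _ => h y.2

/-- Near every point a locally free module has a basis on an affine open. -/
theorem exists_trivialization {T : Scheme.{u}} {L : T.Modules} (hL : FlatMod.IsFinLocFreeOfRank e L)
    (O : T.Opens) (t : T) (ht : t ∈ O) :
    ∃ W0 : T.Opens, IsAffineOpen W0 ∧ t ∈ W0 ∧ W0 ≤ O ∧
      ∃ τ : Fin e → Γ((Scheme.Modules.pullback W0.ι).obj L, ⊤), IsBasis _ τ := by
  obtain ⟨W1, ht1, ⟨i⟩⟩ := hL t
  obtain ⟨W0, hW0, ht0, hle⟩ : ∃ W0 : T.Opens, IsAffineOpen W0 ∧ t ∈ W0 ∧ W0 ≤ O ⊓ W1 := by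
    obtain ⟨_, ⟨W, hW, rfl⟩, htW, hWle⟩ :=
      T.isBasis_affineOpens.exists_subset_of_mem_open (show t ∈ O ⊓ W1 from ⟨ht, ht1⟩) (O ⊓ W1).2
    exact ⟨W, hW, htW, hWle⟩
  refine ⟨W0, hW0, ht0, hle.trans inf_le_left, ?_⟩
  let j := T.homOfLE (hle.trans inf_le_right)
  let θ : FlatMod.freeMod W0.toScheme e ≅ (Scheme.Modules.pullback W0.ι).obj L :=
    (Groth.L29.LocFree.pullbackFreeIso j e).symm ≪≫
      (Scheme.Modules.pullback j).mapIso (i.symm ≪≫ (Scheme.Modules.restrictFunctorIsoPullback W1.ι).app L) ≪≫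
      (Scheme.Modules.pullbackComp j W1.ι).app L ≪≫
      (Scheme.Modules.pullbackCongr (T.homOfLE_ι (hle.trans inf_le_right))).app L
  exact ⟨_, isBasis_uvec.map θ.hom⟩

variable [Coh.IsQCoh E] {U : X.Opens} (hU : IsAffineOpen U) (I : Fin e → Γ(E, U))

/-- A point of the chart restricts. -/
theorem exists_hom_comp {T T' : Over X} (j : T' ⟶ T) {x : (qFam E e).obj T}
    (h : ∃ a : T ⟶ chart hU I, (qFam E e).res a (ξ hU I) = x) :
    ∃ a : T' ⟶ chart hU I, (qFam E e).res a (ξ hU I) = (qFam E e).res j x := by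
  obtain ⟨a, rfl⟩ := h
  exact ⟨j ≫ a, (qFam E e).res_comp _ _ _⟩

/-- Where the determinant of the images of `I` in a basis is a unit, the chart has a point. -/
theorem exists_hom_basicOpen {T : Over X} (hg : (⊤ : T.left.Opens) ≤ T.hom ⁻¹ᵁ U) {L : T.left.Modules}
    (hL : FlatMod.IsFinLocFreeOfRank e L) (s : (Scheme.Modules.pullback T.hom).obj E ⟶ L) [Epi s]
    {τ : Fin e → Γ(L, ⊤)} (hτ : IsBasis L τ) {M : Matrix (Fin e) (Fin e) Γ(T.left, ⊤)}
    (hM : ∀ l, s.app ⊤ (sec hg (I l)) = ∑ k, M l k • τ k) :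
    ∃ a : openObj T (T.left.basicOpen M.det) ⟶ chart hU I,
      (qFam E e).res a (ξ hU I) = (qFam E e).res (openHom T (T.left.basicOpen M.det)) (mk T hL s) := by
  set O := T.left.basicOpen M.det
  let j := openHom T O
  haveI := Groth.L18.MapEpi.epi_quotBC (Over.w j) s
  have hgO : (⊤ : (openObj T O).left.Opens) ≤ (openObj T O).hom ⁻¹ᵁ U := le_openObj (le_top.trans hg)
  have hdet : IsUnit (M.map j.left.appTop).det := by
    rw [show (M.map j.left.appTop).det = j.left.appTop M.det from (RingHom.map_det _ M).symm]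
    have h := RingedSpace.isUnit_res_basicOpen T.left.toSheafedSpace M.det
    show IsUnit (O.ι.appTop M.det)
    rw [Scheme.Opens.ι_appTop]
    have h' := h.map (T.left.presheaf.map (homOfLE O.ι_image_top.le).op).hom
    erw [← CommRingCat.comp_apply, ← Functor.map_comp] at h'
    exact h'
  have hb : IsBasis _ fun l => (Grass.quotBC (Over.w j) s).app ⊤ (sec hgO (I l)) :=
    (hτ.pl j.left).of_det hdet fun l => by
      rw [app_sec_quotBC (Over.w j) hg, hM, pl_sum_smul]
      rfl
  obtain ⟨a, ha⟩ := (exists_hom_iff hU I (Groth.L18.MapEpi.isFinLocFreeOfRank_pullback j.left hL)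
    (Grass.quotBC (Over.w j) s)).2 ⟨hgO, hb⟩
  exact ⟨a, ha.trans (res_mk j hL s).symm⟩

/-- The points of the chart over `T` come from an open subset. -/
theorem exists_open (T : Over X) (x : (qFam E e).obj T) : ∃ O : T.left.Opens, ∀ (T' : Over X) (g : T' ⟶ T),
    (∃ a : T' ⟶ chart hU I, (qFam E e).res a (ξ hU I) = (qFam E e).res g x) ↔
      Set.range g.left ⊆ (O : Set T.left) := by
  let O : T.left.Opens := sSup {V | ∃ a : openObj T V ⟶ chart hU I,
    (qFam E e).res a (ξ hU I) = (qFam E e).res (openHom T V) x}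
  refine ⟨O, fun T' g => ⟨?_, fun hg' => ?_⟩⟩
  · rintro ⟨a, ha⟩ _ ⟨t', rfl⟩
    obtain ⟨L, hL, s, hs, rfl⟩ := exists_mk x
    have ht : g.left t' ∈ T.hom ⁻¹ᵁ U := by
      have h : T'.hom t' ∈ U := le_of_hom hU I a (trivial : t' ∈ (⊤ : T'.left.Opens))
      rwa [← Over.w g] at h
    obtain ⟨W0, hW0, ht0, hle, τ, hτ⟩ := exists_trivialization hL _ _ ht
    let T0 := openObj T W0
    let j := openHom T W0
    haveI := Groth.L18.MapEpi.epi_quotBC (Over.w j) s
    have hg0 : (⊤ : T0.left.Opens) ≤ T0.hom ⁻¹ᵁ U := le_openObj hle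
    obtain ⟨M, hM⟩ := hτ.exists_matrix fun l => (Grass.quotBC (Over.w j) s).app ⊤ (sec hg0 (I l))
    -- the part of `T'` over `W0`
    let T'' := openObj T' (g.left ⁻¹ᵁ W0)
    let r : T'' ⟶ T0 := Over.homMk (g.left ∣_ W0) (by
      show (g.left ∣_ W0) ≫ W0.ι ≫ T.hom = (g.left ⁻¹ᵁ W0).ι ≫ T'.hom
      rw [morphismRestrict_ι_assoc, Over.w g])
    haveI := Groth.L18.MapEpi.epi_quotBC (Over.w r) (Grass.quotBC (Over.w j) s)
    have hr : r ≫ j = openHom T' (g.left ⁻¹ᵁ W0) ≫ g := Over.OverMorphism.ext (morphismRestrict_ι _ _)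
    have hx : ∃ a : T'' ⟶ chart hU I, (qFam E e).res a (ξ hU I) =
        mk T'' (Groth.L18.MapEpi.isFinLocFreeOfRank_pullback r.left
          (Groth.L18.MapEpi.isFinLocFreeOfRank_pullback j.left hL))
          (Grass.quotBC (Over.w r) (Grass.quotBC (Over.w j) s)) := by
      obtain ⟨b, hb⟩ := exists_hom_comp hU I (openHom T' (g.left ⁻¹ᵁ W0)) ⟨a, ha⟩
      rw [← (qFam E e).res_comp, ← hr, (qFam E e).res_comp] at hb
      refine ⟨b, hb.trans ?_⟩
      show res E e r (res E e j (mk T hL s)) = _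
      rw [res_mk, res_mk]
    obtain ⟨hg'', hb⟩ := (exists_hom_iff hU I _ _).1 hx
    have hdet : IsUnit (M.map r.left.appTop).det := by
      refine IsBasis.isUnit_det (τ := fun k => pl r.left _ (τ k)) hb fun l => ?_
      rw [app_sec_quotBC (Over.w r) hg0, hM, pl_sum_smul]
      rfl
    rw [show (M.map r.left.appTop).det = r.left.appTop M.det from (RingHom.map_det _ M).symm] at hdet
    have ht'' : (⟨g.left t', ht0⟩ : W0.toScheme) ∈ T0.left.basicOpen M.det := by
      have h : (⟨t', ht0⟩ : T''.left) ∈ r.left ⁻¹ᵁ T0.left.basicOpen M.det := by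
        rw [Scheme.preimage_basicOpen_top, T''.left.basicOpen_of_isUnit hdet]
        trivial
      have e : r.left (⟨t', ht0⟩ : T''.left) = (⟨g.left t', ht0⟩ : W0.toScheme) :=
        Subtype.ext (morphismRestrict_base_coe g.left W0 ⟨t', ht0⟩)
      exact e ▸ h
    obtain ⟨a0, ha0⟩ := exists_hom_basicOpen hU I hg0 (Groth.L18.MapEpi.isFinLocFreeOfRank_pullback j.left hL)
      (Grass.quotBC (Over.w j) s) hτ hM
    let V := W0.ι ''ᵁ T0.left.basicOpen M.det
    refine Opens.mem_sSup.2 ⟨V, ?_, ⟨⟨g.left t', ht0⟩, ht'', rfl⟩⟩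
    let k : openObj T V ⟶ openObj T0 (T0.left.basicOpen M.det) :=
      Over.homMk (IsOpenImmersion.lift ((T0.left.basicOpen M.det).ι ≫ W0.ι) V.ι (by
        rintro _ ⟨⟨y, z, hz, rfl⟩, rfl⟩
        exact ⟨⟨z, hz⟩, rfl⟩)) (by
        show _ ≫ (T0.left.basicOpen M.det).ι ≫ W0.ι ≫ T.hom = V.ι ≫ T.hom
        rw [← Category.assoc _ W0.ι, IsOpenImmersion.lift_fac_assoc])
    obtain ⟨b, hb'⟩ := exists_hom_comp hU I k ⟨a0, ha0⟩
    refine ⟨b, hb'.trans ?_⟩
    rw [show (mk T0 _ (Grass.quotBC (Over.w j) s) : (qFam E e).obj T0) = (qFam E e).res j (mk T hL s) from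
      (res_mk j hL s).symm, ← (qFam E e).res_comp, ← (qFam E e).res_comp]
    congr 1
    refine Over.OverMorphism.ext ?_
    show (k.left ≫ (T0.left.basicOpen M.det).ι) ≫ W0.ι = V.ι
    rw [Category.assoc]
    exact IsOpenImmersion.lift_fac _ _ _
  · have hmem : ∀ t' : T'.left, ∃ V : T.left.Opens, g.left t' ∈ V ∧ ∃ a : openObj T V ⟶ chart hU I,
        (qFam E e).res a (ξ hU I) = (qFam E e).res (openHom T V) x := fun t' => by
      obtain ⟨V, hV, hmem⟩ := Opens.mem_sSup.1 (hg' ⟨t', rfl⟩)
      exact ⟨V, hmem, hV⟩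
    choose V hV hp using hmem
    let P := fun t' => openObj T' (g.left ⁻¹ᵁ V t')
    let j := fun t' => openHom T' (g.left ⁻¹ᵁ V t')
    have hP : IsOpenFamily P j :=
      ⟨fun t' => inferInstanceAs (IsOpenImmersion (g.left ⁻¹ᵁ V t').ι), fun t' => ⟨t', ⟨t', hV t'⟩, rfl⟩⟩
    have hloc : ∀ t', ∃ a : P t' ⟶ chart hU I, (qFam E e).res a (ξ hU I) = (qFam E e).res (j t' ≫ g) x := fun t' => by
      let r : P t' ⟶ openObj T (V t') := Over.homMk (g.left ∣_ V t') (by
        show (g.left ∣_ V t') ≫ (V t').ι ≫ T.hom = (g.left ⁻¹ᵁ V t').ι ≫ T'.hom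
        rw [morphismRestrict_ι_assoc, Over.w g])
      have hr : r ≫ openHom T (V t') = j t' ≫ g := Over.OverMorphism.ext (morphismRestrict_ι _ _)
      obtain ⟨b, hb⟩ := exists_hom_comp hU I r (hp t')
      exact ⟨b, hb.trans (by rw [← (qFam E e).res_comp, hr])⟩
    choose a ha using hloc
    obtain ⟨b, hb⟩ := hP.exists_glue a fun i k Z p q h => hom_ext_of_res hU I (by
      rw [(qFam E e).res_comp, (qFam E e).res_comp, ha, ha, ← (qFam E e).res_comp, ← (qFam E e).res_comp,
        ← Category.assoc, h, Category.assoc])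
    refine ⟨b, zarSep E e T' _ P j hP _ _ fun t' => ?_⟩
    rw [← (qFam E e).res_comp, ← (qFam E e).res_comp, hb, ha]

omit hU I in
/-- Near every point over `U` a quotient lies in a chart given by members of a generating family. -/
theorem exists_chart_span (U : X.affineOpens) {α : Type u} (f : α → Γ(E, (U : X.Opens)))
    (hf : ⊤ ≤ Submodule.span Γ(X, (U : X.Opens)) (Set.range f)) (T : Over X) (x : (qFam E e).obj T) (t : T.left)
    (htU : T.hom t ∈ (U : X.Opens)) :
    ∃ (J : Fin e → α) (T' : Over X) (g : T' ⟶ T), Function.Injective J ∧ IsOpenImmersion g.left ∧ t ∈ Set.range g.left ∧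
      ∃ a : T' ⟶ chart U.2 (f ∘ J), (qFam E e).res a (ξ U.2 (f ∘ J)) = (qFam E e).res g x := by
  obtain ⟨L, hL, s, hs, rfl⟩ := exists_mk x
  obtain ⟨W0, hW0, ht0, hle, τ, hτ⟩ := exists_trivialization hL (T.hom ⁻¹ᵁ U) t htU
  let T0 := openObj T W0
  let j := openHom T W0
  haveI := Groth.L18.MapEpi.epi_quotBC (Over.w j) s
  have hg0 : (⊤ : T0.left.Opens) ≤ T0.hom ⁻¹ᵁ U := le_openObj hle
  let s0 := Grass.quotBC (Over.w j) s
  obtain ⟨τ, hτ⟩ : ∃ τ : Fin e → Γ((Scheme.Modules.pullback j.left).obj L, (⊤ : T0.left.Opens)),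
      IsBasis (T := T0.left) _ τ := ⟨τ, hτ⟩
  let t0 : T0.left := ⟨t, ht0⟩
  let ev := T0.left.Γevaluation t0
  choose c hc using fun m => hτ.bijective.2 (s0.app ⊤ (sec hg0 m))
  let v : α → Fin e → T0.left.residueField t0 := fun i k => ev (c (f i) k)
  haveI : IsAffine T0.left := hW0
  haveI : Coh.IsQCoh ((Scheme.Modules.pullback T0.hom).obj E) := Groth.L16.AffineBC.isQCoh_pullback _ _
  haveI : Coh.IsQCoh ((Scheme.Modules.pullback j.left).obj L) :=
    Groth.L29.DC.PCQCoh.isQCoh_of_isFinLocFree fun y =>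
      ((Groth.L18.MapEpi.isFinLocFreeOfRank_pullback j.left hL) y).imp fun O h => ⟨e, h⟩
  have hspan : ⊤ ≤ Submodule.span (T0.left.residueField t0) (Set.range v) := by
    have key : ∀ z : Γ((Scheme.Modules.pullback T0.hom).obj E, ⊤), ∀ d : Fin e → Γ(T0.left, ⊤),
        ∑ k, d k • τ k = s0.app ⊤ z → (fun k => ev (d k)) ∈ Submodule.span (T0.left.residueField t0) (Set.range v) := by
      intro z
      letI : Algebra Γ(X, (U : X.Opens)) Γ(T0.left, ⊤) := (T0.hom.appLE U ⊤ hg0).hom.toAlgebra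
      letI := Module.compHom Γ((Scheme.Modules.pullback T0.hom).obj E, ⊤) (T0.hom.appLE U ⊤ hg0).hom
      haveI : IsScalarTower Γ(X, (U : X.Opens)) Γ(T0.left, ⊤) Γ((Scheme.Modules.pullback T0.hom).obj E, ⊤) :=
        IsScalarTower.of_algebraMap_smul fun _ _ => rfl
      refine (Groth.L16.AffineBC.isBaseChange_pull T0.hom E U.2 (isAffineOpen_top T0.left) hg0).inductionOn z _
        ?_ ?_ ?_ ?_
      · intro d hd
        rw [show d = 0 from hτ.bijective.1 (hd.trans (by simp))]
        convert Submodule.zero_mem (Submodule.span (T0.left.residueField t0) (Set.range v)) using 1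
        funext k
        exact map_zero _
      · intro m
        change ∀ d : Fin e → Γ(T0.left, ⊤), ∑ k, d k • τ k = s0.app ⊤ (sec hg0 m) → _
        intro d hd
        rw [show d = c m from hτ.bijective.1 (hd.trans (hc m).symm)]
        induction hf (Submodule.mem_top (x := m)) using Submodule.span_induction generalizing d with
        | mem y hy =>
          obtain ⟨i, rfl⟩ := hy
          exact Submodule.subset_span ⟨i, rfl⟩
        | zero =>
          convert Submodule.zero_mem (Submodule.span (T0.left.residueField t0) (Set.range v)) using 1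
          rw [show c 0 = 0 from hτ.bijective.1 ((hc 0).trans (by
            simp only [Pi.zero_apply, zero_smul, Finset.sum_const_zero]
            exact (congrArg (s0.app ⊤) ((congrArg (rs _ hg0) (map_zero _)).trans (map_zero _))).trans (map_zero _)))]
          funext k
          exact map_zero _
        | add y z _ _ hy hz =>
          rw [show c (y + z) = c y + c z from hτ.bijective.1 ((hc _).trans (by
            simp only [Pi.add_apply, add_smul, Finset.sum_add_distrib, hc]
            rw [← map_add]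
            exact congrArg (s0.app ⊤) ((congrArg (rs _ hg0) (map_add _ y z)).trans (map_add _ _ _))))]
          rw [show (fun k => ev ((c y + c z) k)) = (fun k => ev (c y k)) + fun k => ev (c z k) by funext k; simp]
          exact Submodule.add_mem _ (hy _ (hc y) ) (hz _ (hc z))
        | smul r y _ hy =>
          rw [show c (r • y) = fun k => T0.hom.appLE U ⊤ hg0 r * c y k from hτ.bijective.1 ((hc _).trans (by
            simp only [mul_smul, ← Finset.smul_sum, hc]
            rw [← Scheme.Modules.Hom.app_smul]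
            refine congrArg (s0.app ⊤) ?_
            rw [sec, sec, Groth.L18.Frame.pull_smul, Groth.L18.Frame.rs_smul]
            rfl))]
          rw [show (fun k => ev (T0.hom.appLE U ⊤ hg0 r * c y k)) = ev (T0.hom.appLE U ⊤ hg0 r) • fun k => ev (c y k) by
            funext k; simp]
          exact Submodule.smul_mem _ _ (hy _ (hc y))
      · intro b w hw d hd
        obtain ⟨d', hd'⟩ := hτ.bijective.2 (s0.app ⊤ w)
        have hd2 : d = fun k => b * d' k := hτ.bijective.1 (hd.trans (by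
          simp only [mul_smul, ← Finset.smul_sum, hd']
          exact Scheme.Modules.Hom.app_smul _ b w))
        rw [show (fun k => ev (d k)) = ev b • fun k => ev (d' k) by funext k; simp [hd2]]
        exact Submodule.smul_mem _ _ (hw d' hd')
      · intro p q hp hq d hd
        obtain ⟨d1, hd1⟩ := hτ.bijective.2 (s0.app ⊤ p)
        obtain ⟨d2, hd2⟩ := hτ.bijective.2 (s0.app ⊤ q)
        have hd3 : d = d1 + d2 := hτ.bijective.1 (hd.trans (by
          simp only [Pi.add_apply, add_smul, Finset.sum_add_distrib, hd1, hd2]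
          exact map_add _ p q))
        rw [show (fun k => ev (d k)) = (fun k => ev (d1 k)) + fun k => ev (d2 k) by funext k; simp [hd3]]
        exact Submodule.add_mem _ (hp d1 hd1) (hq d2 hd2)
    rw [← (Pi.basisFun (T0.left.residueField t0) (Fin e)).span_eq, Submodule.span_le]
    rintro _ ⟨l, rfl⟩
    obtain ⟨z, hz⟩ := Groth.L16.AffineBC.surjective_app_of_epi s0 (isAffineOpen_top T0.left) (τ l)
    have h := key z (fun k => if l = k then 1 else 0) (by simp [ite_smul]; exact hz.symm)
    have e : (Pi.basisFun (T0.left.residueField t0) (Fin e)) l = fun k => ev (if l = k then 1 else 0) := by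
      funext k
      by_cases hk : l = k
      · subst hk; simp
      · simp [hk]
    rw [e]
    exact h
  obtain ⟨κ, a, hinj, hsp, hli⟩ := exists_linearIndependent' (T0.left.residueField t0) v
  let B := Module.Basis.mk hli (hsp.symm ▸ hspan)
  let σ : Fin e ≃ κ := ((Pi.basisFun (T0.left.residueField t0) (Fin e)).indexEquiv B)
  let I : Fin e → Γ(E, (U : X.Opens)) := f ∘ fun l => a (σ l)
  obtain ⟨b, hb⟩ := exists_hom_basicOpen U.2 I hg0 (Groth.L18.MapEpi.isFinLocFreeOfRank_pullback j.left hL) s0 hτ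
    (M := Matrix.of fun l k => c (I l) k) fun l => (hc (I l)).symm
  refine ⟨fun l => a (σ l), _, openHom T0 _ ≫ j, hinj.comp σ.injective, ?_, ?_, b, hb.trans ?_⟩
  · exact inferInstanceAs (IsOpenImmersion ((T0.left.basicOpen _).ι ≫ W0.ι))
  · refine ⟨⟨t0, ?_⟩, rfl⟩
    show t0 ∈ T0.left.basicOpen _
    refine (T0.left.evaluation_ne_zero_iff_mem_basicOpen (U := ⊤) t0 trivial _).1 ?_
    show ev.hom _ ≠ 0
    rw [RingHom.map_det, ← isUnit_iff_ne_zero, ← Matrix.isUnit_iff_isUnit_det,
      ← Matrix.linearIndependent_rows_iff_isUnit]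
    exact hli.comp σ σ.injective
  · rw [(qFam E e).res_comp]
    exact congrArg _ (res_mk j hL s).symm

omit hU I in
/-- Every quotient lies in some chart near every point. -/
theorem exists_chart (T : Over X) (x : (qFam E e).obj T) (t : T.left) :
    ∃ (U : X.affineOpens) (I : Fin e → Γ(E, (U : X.Opens))) (T' : Over X) (g : T' ⟶ T),
      IsOpenImmersion g.left ∧ t ∈ Set.range g.left ∧
        ∃ a : T' ⟶ chart U.2 I, (qFam E e).res a (ξ U.2 I) = (qFam E e).res g x := by
  obtain ⟨_, ⟨U, hU, rfl⟩, htU, -⟩ :=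
    X.isBasis_affineOpens.exists_subset_of_mem_open (Set.mem_univ (T.hom t)) isOpen_univ
  obtain ⟨J, T', g, -, h⟩ := exists_chart_span (e := e) ⟨U, hU⟩ id (by simp) T x t htU
  exact ⟨⟨U, hU⟩, J, T', g, h⟩

end Groth.L18.QuotChart
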