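import Groth.Agent.L02.Hilb.OpenCharts
import Groth.Agent.L18.Grass.MapEpi
import Groth.Agent.L21.Mod.Locality
import Mathlib.Algebra.Category.Grp.Limits
import Mathlib.CategoryTheory.Limits.FunctorCategory.Basic

/-!
# The Zariski sheaf of locally free quotients of a module

Classes of quotients of a pulled back module are recorded by the sets of sections they kill, which
keeps the functor in the universe of the base.  Compatible classes on an open cover glue: the glued
quotient is the image of the module in the product of the direct images of the given quotients.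
-/

set_option autoImplicit false
set_option linter.style.haveILetI false
set_option backward.isDefEq.respectTransparency false
set_option backward.isDefEq.respectTransparency.types false

universe u

open CategoryTheory CategoryTheory.Limits AlgebraicGeometry TopologicalSpace Opposite

noncomputable section

namespace Groth.L18.QuotFam

open Groth.L18.MapEpi
open Groth.L25.HomScheme

section Rel

variable {T : Scheme.{u}} {M N L L' L'' : T.Modules}

/-- Two morphisms out of `M` differ by an isomorphism of targets. -/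
def Rel (s : M ⟶ L) (s' : M ⟶ L') : Prop := ∃ θ : L ≅ L', s ≫ θ.hom = s'

theorem Rel.refl (s : M ⟶ L) : Rel s s := ⟨Iso.refl _, Category.comp_id _⟩

theorem Rel.symm {s : M ⟶ L} {s' : M ⟶ L'} (h : Rel s s') : Rel s' s := by
  obtain ⟨θ, rfl⟩ := h
  exact ⟨θ.symm, by simp⟩

theorem Rel.trans {s : M ⟶ L} {s' : M ⟶ L'} {s'' : M ⟶ L''} (h : Rel s s') (h' : Rel s' s'') : Rel s s'' := by
  obtain ⟨θ, rfl⟩ := h
  obtain ⟨θ', rfl⟩ := h'
  exact ⟨θ ≪≫ θ', by simp⟩

theorem Rel.epi {s : M ⟶ L} {s' : M ⟶ L'} (h : Rel s s') [Epi s] : Epi s' := by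
  obtain ⟨θ, rfl⟩ := h
  infer_instance

theorem Rel.kills {s : M ⟶ L} {s' : M ⟶ L'} (h : Rel s s') {k : N ⟶ M} (hk : k ≫ s = 0) : k ≫ s' = 0 := by
  obtain ⟨θ, rfl⟩ := h
  rw [← Category.assoc, hk, zero_comp]

theorem Rel.of_kills (s : M ⟶ L) (s' : M ⟶ L') [Epi s] [Epi s'] (h : kernel.ι s ≫ s' = 0)
    (h' : kernel.ι s' ≫ s = 0) : Rel s s' := by
  refine ⟨⟨Abelian.epiDesc s s' h, Abelian.epiDesc s' s h', ?_, ?_⟩, Abelian.comp_epiDesc _ _ _⟩
  · rw [← cancel_epi s, Abelian.comp_epiDesc_assoc, Abelian.comp_epiDesc, Category.comp_id]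
  · rw [← cancel_epi s', Abelian.comp_epiDesc_assoc, Abelian.comp_epiDesc, Category.comp_id]

/-- The sections killed by a morphism. -/
def kerSet (s : M ⟶ L) : ∀ V : T.Opens, Set Γ(M, V) := fun V => {m | s.app V m = 0}

theorem kerSet_eq_of_rel {s : M ⟶ L} {s' : M ⟶ L'} (h : Rel s s') : kerSet s = kerSet s' := by
  have key : ∀ {A B : T.Modules} (a : M ⟶ A) (b : M ⟶ B), Rel a b → ∀ V, kerSet a V ⊆ kerSet b V := by
    rintro A B a b ⟨θ, rfl⟩ V m (hm : a.app V m = 0)
    show θ.hom.app V (a.app V m) = 0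
    rw [hm, map_zero]
  exact funext fun V => Set.Subset.antisymm (key s s' h V) (key s' s h.symm V)

theorem rel_of_kerSet_eq {s : M ⟶ L} {s' : M ⟶ L'} [Epi s] [Epi s'] (h : kerSet s = kerSet s') : Rel s s' := by
  have key : ∀ {A B : T.Modules} (a : M ⟶ A) (b : M ⟶ B), kerSet a = kerSet b → kernel.ι a ≫ b = 0 := by
    intro A B a b hab
    refine Scheme.Modules.hom_ext _ _ fun V => ConcreteCategory.hom_ext _ _ fun z => ?_
    have h1 : (kernel.ι a).app V z ∈ kerSet a V :=
      congrArg (fun k : kernel a ⟶ A => k.app V z) (kernel.condition a)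
    rw [hab] at h1
    exact h1
  exact Rel.of_kills s s' (key s s' h) (key s' s h.symm)

end Rel

section quotBC

variable {X G T : Scheme.{u}} {π : G ⟶ X} {E : X.Modules} {Q Q' : G.Modules}

theorem Rel.quotBC {h : T ⟶ G} {g : T ⟶ X} (hg : h ≫ π = g) {q : (Scheme.Modules.pullback π).obj E ⟶ Q}
    {q' : (Scheme.Modules.pullback π).obj E ⟶ Q'} (r : Rel q q') :
    Rel (Grass.quotBC hg q) (Grass.quotBC hg q') := by
  obtain ⟨θ, rfl⟩ := r
  exact ⟨(Scheme.Modules.pullback h).mapIso θ, by rw [quotBC_comp_right, Functor.mapIso_hom]⟩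

/-- Conversely a relation between base changes relates the inverse images. -/
theorem Rel.of_quotBC {h : T ⟶ G} {g : T ⟶ X} (hg : h ≫ π = g) {q : (Scheme.Modules.pullback π).obj E ⟶ Q}
    {q' : (Scheme.Modules.pullback π).obj E ⟶ Q'} (r : Rel (Grass.quotBC hg q) (Grass.quotBC hg q')) :
    Rel ((Scheme.Modules.pullback h).map q) ((Scheme.Modules.pullback h).map q') := by
  obtain ⟨θ, hθ⟩ := r
  refine ⟨θ, ?_⟩
  simp only [Grass.quotBC, Category.assoc, cancel_epi] at hθ
  exact hθ

theorem rel_quotBC_quotBC {H : Scheme.{u}} {c : H ⟶ G} {π' : H ⟶ X} (hc : c ≫ π = π')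
    {a : T ⟶ H} {g : T ⟶ X} (ha : a ≫ π' = g) {h : T ⟶ G} (hac : a ≫ c = h) (hg : h ≫ π = g)
    (q : (Scheme.Modules.pullback π).obj E ⟶ Q) :
    Rel (Grass.quotBC ha (Grass.quotBC hc q)) (Grass.quotBC hg q) := by
  subst hac
  exact ⟨(Scheme.Modules.pullbackComp a c).app Q, quotBC_quotBC hc ha hg q⟩

theorem quotBC_id {T : Scheme.{u}} {π : T ⟶ X} (hg : 𝟙 T ≫ π = π) {Q : T.Modules}
    (q : (Scheme.Modules.pullback π).obj E ⟶ Q) :
    Grass.quotBC hg q ≫ (Scheme.Modules.pullbackId T).hom.app Q = q := by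
  have h := congr_app (Scheme.Modules.pseudofunctor_right_unitality π) E
  simp only [NatTrans.comp_app, Functor.whiskerLeft_app, Functor.rightUnitor_hom_app,
    eqToHom_app] at h
  have n := (Scheme.Modules.pullbackId T).hom.naturality q
  simp only [Functor.id_map] at n
  simp only [Grass.quotBC, Category.assoc]
  rw [n, reassoc_of% h]
  simp [Scheme.Modules.pullbackCongr]
  exact Category.id_comp q

end quotBC

/-- A morphism to a restricted direct image vanishes once it vanishes over the source of the direct image. -/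
theorem eq_zero_of_restrict_push {Y U V W : Scheme.{u}} (j : U ⟶ Y) [IsOpenImmersion j] (j' : V ⟶ Y)
    (i : W ⟶ U) [IsOpenImmersion i] (hW : ∀ x : U, j x ∈ Set.range j' → x ∈ Set.range i)
    {N : U.Modules} {G : V.Modules}
    (ζ : N ⟶ (Scheme.Modules.restrictFunctor j).obj ((Scheme.Modules.pushforward j').obj G))
    (h : (Scheme.Modules.restrictFunctor i).map ζ = 0) : ζ = 0 := by
  ext O k
  let O' := i ''ᵁ (i ⁻¹ᵁ O)
  have hle : O' ≤ O := i.image_preimage_le O
  have h1 : ζ.app O' (N.presheaf.map (homOfLE hle).op k) = 0 := by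
    exact congr($(h).app (i ⁻¹ᵁ O) (N.presheaf.map (homOfLE hle).op k))
  have h2 := NatTrans.naturality_apply (Scheme.Modules.Hom.mapPresheaf ζ) (homOfLE hle).op k
  have h3 : ((Scheme.Modules.restrictFunctor j).obj ((Scheme.Modules.pushforward j').obj G)).presheaf.map
      (homOfLE hle).op (ζ.app O k) = 0 := h2.symm.trans h1
  have he : j' ⁻¹ᵁ (j ''ᵁ O) = j' ⁻¹ᵁ (j ''ᵁ O') := by
    refine le_antisymm (fun y hy => ?_) (j'.preimage_mono (j.image_mono hle))
    obtain ⟨x, hx, hxy⟩ := hy
    obtain ⟨w, rfl⟩ := hW x ⟨y, hxy.symm⟩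
    exact ⟨i w, ⟨w, hx, rfl⟩, hxy⟩
  haveI : IsIso (homOfLE (j'.preimage_mono (j.image_mono hle))) :=
    ⟨homOfLE he.le, Subsingleton.elim _ _, Subsingleton.elim _ _⟩
  exact (ConcreteCategory.bijective_of_isIso (G.presheaf.map (homOfLE (j'.preimage_mono (j.image_mono hle))).op)).1
    (h3.trans (map_zero _).symm)

theorem restrict_map_eq_zero {Y U : Scheme.{u}} (j : U ⟶ Y) [IsOpenImmersion j] {M N : Y.Modules} (k : M ⟶ N)
    (h : (Scheme.Modules.pullback j).map k = 0) : (Scheme.Modules.restrictFunctor j).map k = 0 := by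
  have hn := (Scheme.Modules.restrictFunctorIsoPullback j).hom.naturality k
  rw [h, comp_zero] at hn
  exact zero_of_comp_mono _ hn

theorem eq_zero_of_pullback_push {Y U V W : Scheme.{u}} (j : U ⟶ Y) [IsOpenImmersion j] (j' : V ⟶ Y)
    (i : W ⟶ U) [IsOpenImmersion i] (hW : ∀ x : U, j x ∈ Set.range j' → x ∈ Set.range i)
    {N : U.Modules} {G : V.Modules}
    (ζ : N ⟶ (Scheme.Modules.pullback j).obj ((Scheme.Modules.pushforward j').obj G))
    (h : (Scheme.Modules.pullback i).map ζ = 0) : ζ = 0 := by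
  refine zero_of_comp_mono ((Scheme.Modules.restrictFunctorIsoPullback j).inv.app _)
    (eq_zero_of_restrict_push j j' i hW _ (restrict_map_eq_zero i _ ?_))
  rw [Functor.map_comp, h, zero_comp]

theorem mono_pullback_map {Y U : Scheme.{u}} (j : U ⟶ Y) [IsOpenImmersion j] {M N : Y.Modules} (k : M ⟶ N)
    [Mono k] : Mono ((Scheme.Modules.pullback j).map k) := by
  have hn := (Scheme.Modules.restrictFunctorIsoPullback j).inv.naturality k
  haveI : Mono ((Scheme.Modules.restrictFunctor j).map k) := inferInstance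
  haveI : Mono ((Scheme.Modules.pullback j).map k ≫ (Scheme.Modules.restrictFunctorIsoPullback j).inv.app N) :=
    hn ▸ mono_comp _ _
  exact mono_of_mono ((Scheme.Modules.pullback j).map k)
    ((Scheme.Modules.restrictFunctorIsoPullback j).inv.app N)

/-- Zero test into a restricted product. -/
theorem eq_zero_of_pi {Y U : Scheme.{u}} (j : U ⟶ Y) [IsOpenImmersion j] {α : Type u} (M : α → Y.Modules)
    {N : U.Modules} (ζ : N ⟶ (Scheme.Modules.pullback j).obj (∏ᶜ M))
    (h : ∀ a, ζ ≫ (Scheme.Modules.pullback j).map (Pi.π M a) = 0) : ζ = 0 := by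
  let ρ := Scheme.Modules.restrictFunctorIsoPullback j
  refine zero_of_comp_mono (ρ.inv.app _) ?_
  have h' : ∀ a, (ζ ≫ ρ.inv.app _) ≫ (Scheme.Modules.restrictFunctor j).map (Pi.π M a) = 0 := fun a => by
    rw [Category.assoc, ← ρ.inv.naturality, ← Category.assoc, h, zero_comp]
  generalize ζ ≫ ρ.inv.app _ = ξ at h' ⊢
  ext W z
  let V : Y.Opensᵒᵖ := op (j ''ᵁ W)
  let P := Scheme.Modules.toPresheaf Y ⋙ (evaluation Y.Opensᵒᵖ Ab.{u}).obj V
  haveI h1 : PreservesLimitsOfShape (Discrete α) (Scheme.Modules.toPresheaf Y) := inferInstance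
  haveI h2 : PreservesLimitsOfShape (Discrete α) ((evaluation Y.Opensᵒᵖ Ab.{u}).obj V) :=
    evaluation_preservesLimitsOfShape V
  haveI : PreservesLimitsOfShape (Discrete α) P := @comp_preservesLimitsOfShape _ _ _ _ _ _ _ _
    (Scheme.Modules.toPresheaf Y) ((evaluation Y.Opensᵒᵖ Ab.{u}).obj V) h1 h2
  refine Concrete.limit_ext (Discrete.functor fun b => P.obj (M b)) ((PreservesProduct.iso P M).hom (ξ.app W z))
    ((PreservesProduct.iso P M).hom 0) ?_ |> fun hh =>
      (ConcreteCategory.bijective_of_isIso (PreservesProduct.iso P M).hom).1 hh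
  rintro ⟨b⟩
  have e1 : (PreservesProduct.iso P M).hom ≫ Pi.π (fun b => P.obj (M b)) b = P.map (Pi.π M b) := by
    rw [PreservesProduct.iso_hom, piComparison_comp_π]
  refine (congr($e1 (ξ.app W z))).trans (Eq.trans ?_ (congr($e1 0)).symm)
  rw [map_zero]
  exact congr($(h' b).app W z)

/-- The rank of a module may be read off an open cover. -/
theorem isFinLocFreeOfRank_of_cover {T : Scheme.{u}} {n : ℕ} (L : T.Modules) {α : Type*} {U : α → Scheme.{u}}
    (j : ∀ a, U a ⟶ T) [∀ a, IsOpenImmersion (j a)] (cov : ∀ t : T, ∃ a, t ∈ Set.range (j a))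
    (h : ∀ a, FlatMod.IsFinLocFreeOfRank n ((Scheme.Modules.pullback (j a)).obj L)) :
    FlatMod.IsFinLocFreeOfRank n L := by
  intro t
  obtain ⟨a, y, rfl⟩ := cov t
  obtain ⟨W, hy, ⟨i⟩⟩ := h a y
  let e := (W.ι ≫ j a).isoOpensRange
  let O := (W.ι ≫ j a).opensRange
  refine ⟨O, ⟨⟨y, hy⟩, rfl⟩, ⟨(Scheme.Modules.restrictFunctorIsoPullback O.ι).app L ≪≫
    (Scheme.Modules.pullbackCongr (show O.ι = (e.inv ≫ W.ι) ≫ j a by
      rw [Category.assoc]; exact ((W.ι ≫ j a).isoOpensRange_inv_comp).symm)).app L ≪≫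
    ((Scheme.Modules.pullbackComp (e.inv ≫ W.ι) (j a)).app L).symm ≪≫
    ((Scheme.Modules.pullbackComp e.inv W.ι).app _).symm ≪≫
    (Scheme.Modules.pullback e.inv).mapIso (((Scheme.Modules.restrictFunctorIsoPullback W.ι).app _).symm ≪≫ i) ≪≫
    Groth.L29.LocFree.pullbackFreeIso _ n⟩⟩

variable {X : Scheme.{u}} (E : X.Modules) (n : ℕ)

/-- Classes of rank `n` quotients of the inverse image of `E`. -/
abbrev Obj (T : Over X) : Type u :=
  {K : ∀ V : T.left.Opens, Set Γ((Scheme.Modules.pullback T.hom).obj E, V) //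
    ∃ L : T.left.Modules, FlatMod.IsFinLocFreeOfRank n L ∧
      ∃ s : (Scheme.Modules.pullback T.hom).obj E ⟶ L, Epi s ∧ K = kerSet s}

variable {E n}

/-- The class of a quotient. -/
def mk (T : Over X) {L : T.left.Modules} (hL : FlatMod.IsFinLocFreeOfRank n L)
    (s : (Scheme.Modules.pullback T.hom).obj E ⟶ L) [Epi s] : Obj E n T :=
  ⟨kerSet s, L, hL, s, inferInstance, rfl⟩

theorem exists_mk {T : Over X} (x : Obj E n T) : ∃ (L : T.left.Modules) (hL : FlatMod.IsFinLocFreeOfRank n L)
    (s : (Scheme.Modules.pullback T.hom).obj E ⟶ L) (_ : Epi s), mk T hL s = x := by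
  obtain ⟨K, L, hL, s, hs, rfl⟩ := x
  exact ⟨L, hL, s, hs, rfl⟩

theorem mk_eq_mk {T : Over X} {L L' : T.left.Modules} {hL : FlatMod.IsFinLocFreeOfRank n L}
    {hL' : FlatMod.IsFinLocFreeOfRank n L'} {s : (Scheme.Modules.pullback T.hom).obj E ⟶ L}
    {s' : (Scheme.Modules.pullback T.hom).obj E ⟶ L'} [Epi s] [Epi s'] :
    mk T hL s = mk T hL' s' ↔ Rel s s' :=
  ⟨fun h => rel_of_kerSet_eq (congrArg Subtype.val h), fun h => Subtype.ext (kerSet_eq_of_rel h)⟩

variable (E n)

/-- Restriction of classes. -/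
def res {T T' : Over X} (f : T' ⟶ T) (x : Obj E n T) : Obj E n T' :=
  haveI := (exists_mk x).choose_spec.choose_spec.choose_spec.choose
  haveI : Epi (Grass.quotBC (Over.w f) (exists_mk x).choose_spec.choose_spec.choose) := epi_quotBC _ _
  mk T' (isFinLocFreeOfRank_pullback f.left (exists_mk x).choose_spec.choose)
    (Grass.quotBC (Over.w f) (exists_mk x).choose_spec.choose_spec.choose)

variable {E n}

theorem res_mk {T T' : Over X} (f : T' ⟶ T) {L : T.left.Modules} (hL : FlatMod.IsFinLocFreeOfRank n L)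
    (s : (Scheme.Modules.pullback T.hom).obj E ⟶ L) [Epi s] :
    res E n f (mk T hL s) = (haveI := epi_quotBC (Over.w f) s
      mk T' (isFinLocFreeOfRank_pullback f.left hL) (Grass.quotBC (Over.w f) s)) := by
  haveI := (exists_mk (mk T hL s)).choose_spec.choose_spec.choose_spec.choose
  have h := (exists_mk (mk T hL s)).choose_spec.choose_spec.choose_spec.choose_spec
  exact Subtype.ext (kerSet_eq_of_rel ((mk_eq_mk.1 h).quotBC _))

variable (E n)

/-- The family of rank `n` quotients. -/
def qFam : Fam.{u, u} X where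
  obj := Obj E n
  res := res E n
  res_id {T} x := by
    obtain ⟨L, hL, s, hs, rfl⟩ := exists_mk x
    rw [res_mk]
    exact Subtype.ext (kerSet_eq_of_rel ⟨(Scheme.Modules.pullbackId T.left).app L, quotBC_id _ s⟩)
  res_comp {T T' T''} f g x := by
    obtain ⟨L, hL, s, hs, rfl⟩ := exists_mk x
    haveI := epi_quotBC (Over.w g) s
    rw [res_mk, res_mk, res_mk]
    exact Subtype.ext (kerSet_eq_of_rel (rel_quotBC_quotBC (Over.w g) (Over.w f) rfl _ s).symm)

theorem zarSep : (qFam E n).ZarSep := by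
  intro T ι U j hU x y hxy
  obtain ⟨L, hL, s, hs, rfl⟩ := exists_mk x
  obtain ⟨L', hL', s', hs', rfl⟩ := exists_mk y
  haveI : ∀ i, IsOpenImmersion (j i).left := hU.isOpenImmersion
  have key : ∀ {A B : T.left.Modules} (a : (Scheme.Modules.pullback T.hom).obj E ⟶ A)
      (b : (Scheme.Modules.pullback T.hom).obj E ⟶ B),
      (∀ i, Rel ((Scheme.Modules.pullback (j i).left).map a) ((Scheme.Modules.pullback (j i).left).map b)) →
      kernel.ι a ≫ b = 0 := by
    intro A B a b h
    refine Groth.L21.Mod.hom_ext_of_restrict (fun i => (j i).left)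
      (fun t => (hU.covers t).imp fun i hi => hi) fun i => ?_
    rw [Functor.map_zero]
    refine restrict_map_eq_zero _ _ ?_
    rw [Functor.map_comp]
    exact (h i).kills (by rw [← Functor.map_comp, kernel.condition, Functor.map_zero])
  have hrel : ∀ i, Rel ((Scheme.Modules.pullback (j i).left).map s) ((Scheme.Modules.pullback (j i).left).map s') := by
    intro i
    haveI := epi_quotBC (Over.w (j i)) s
    haveI := epi_quotBC (Over.w (j i)) s'
    have h := hxy i
    change res E n (j i) (mk T hL s) = res E n (j i) (mk T hL' s') at h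
    rw [res_mk, res_mk, mk_eq_mk] at h
    exact Rel.of_quotBC _ h
  exact mk_eq_mk.2 (Rel.of_kills s s' (key s s' hrel) (key s' s fun i => (hrel i).symm))

theorem zarGlue : (qFam E n).ZarGlue := by
  intro T α U g hU x hx
  choose L hL s hs hxs using fun a => exists_mk (x a)
  haveI : ∀ a, IsOpenImmersion (g a).left := hU.isOpenImmersion
  let j := fun a => (g a).left
  let M := (Scheme.Modules.pullback T.hom).obj E
  let e : ∀ a, (Scheme.Modules.pullback (j a)).obj M ≅ (Scheme.Modules.pullback (U a).hom).obj E :=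
    fun a => (Scheme.Modules.pullbackComp (g a).left T.hom).app E ≪≫
      (Scheme.Modules.pullbackCongr (Over.w (g a))).app E
  have he : ∀ a {Q : T.left.Modules} (q : M ⟶ Q),
      Grass.quotBC (Over.w (g a)) q = (e a).inv ≫ (Scheme.Modules.pullback (j a)).map q := fun a Q q => by
    simp [Grass.quotBC, e, j]
  let adj := fun a => Scheme.Modules.pullbackPushforwardAdjunction (j a)
  let G := fun a => (Scheme.Modules.pushforward (j a)).obj (L a)
  let φ : ∀ a, M ⟶ G a := fun a => (adj a).homEquiv _ _ ((e a).hom ≫ s a)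
  have hφ : ∀ a, (Scheme.Modules.pullback (j a)).map (φ a) ≫ (adj a).counit.app (L a) = (e a).hom ≫ s a :=
    fun a => ((adj a).homEquiv_counit ..).symm.trans (Equiv.symm_apply_apply _ _)
  -- the image of one component restricts to the given quotient
  let q : ∀ a, M ⟶ Limits.image (φ a) := fun a => factorThruImage (φ a)
  have hq : ∀ a, Rel (Grass.quotBC (Over.w (g a)) (q a)) (s a) := fun a => by
    haveI := mono_pullback_map (j a) (image.ι (φ a))
    let m := (Scheme.Modules.pullback (j a)).map (image.ι (φ a)) ≫ (adj a).counit.app (L a)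
    have hm : Grass.quotBC (Over.w (g a)) (q a) ≫ m = s a := by
      rw [he, Category.assoc]
      show (e a).inv ≫ (Scheme.Modules.pullback (j a)).map _ ≫
        (Scheme.Modules.pullback (j a)).map _ ≫ (adj a).counit.app (L a) = _
      rw [← Functor.map_comp_assoc, image.fac, hφ, Iso.inv_hom_id_assoc]
    haveI : Mono m := mono_comp _ _
    haveI := hs a
    haveI : Epi (Grass.quotBC (Over.w (g a)) (q a) ≫ m) := hm ▸ hs a
    haveI : Epi m := epi_of_epi (Grass.quotBC (Over.w (g a)) (q a)) m
    haveI := isIso_of_mono_of_epi m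
    exact ⟨asIso m, hm⟩
  let η : M ⟶ ∏ᶜ G := Pi.lift φ
  let s₀ : M ⟶ Limits.image η := factorThruImage η
  have hb : ∀ b, Rel (Grass.quotBC (Over.w (g b)) s₀) (s b) := by
    intro b
    haveI := hs b
    haveI : Epi (Grass.quotBC (Over.w (g b)) s₀) := epi_quotBC _ _
    have hπ : ∀ a, (Scheme.Modules.pullback (j b)).map η ≫ (Scheme.Modules.pullback (j b)).map (Pi.π G a) =
        (Scheme.Modules.pullback (j b)).map (φ a) := fun a => by rw [← Functor.map_comp, Pi.lift_π]
    have hη : ∀ a, (Scheme.Modules.pullback (j b)).map s₀ ≫ (Scheme.Modules.pullback (j b)).map (image.ι η) ≫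
        (Scheme.Modules.pullback (j b)).map (Pi.π G a) = (Scheme.Modules.pullback (j b)).map (φ a) := fun a => by
      rw [← Functor.map_comp_assoc, image.fac, hπ]
    refine Rel.of_kills _ _ ?_ ?_
    · have : Grass.quotBC (Over.w (g b)) s₀ ≫ (Scheme.Modules.pullback (j b)).map (image.ι η) ≫
          (Scheme.Modules.pullback (j b)).map (Pi.π G b) ≫ (adj b).counit.app (L b) = s b := by
        rw [he, Category.assoc, reassoc_of% (hη b), hφ, Iso.inv_hom_id_assoc]
      rw [← this, kernel.condition_assoc, zero_comp]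
    · haveI := mono_pullback_map (j b) (image.ι η)
      refine zero_of_comp_mono ((Scheme.Modules.pullback (j b)).map (image.ι η)) (eq_zero_of_pi (j b) G _ fun a => ?_)
      rw [he]
      simp only [Category.assoc]
      rw [hη]
      let P := pullback (j b) (j a)
      let W : Over X := Over.mk (pullback.fst (j b) (j a) ≫ (U b).hom)
      let px : W ⟶ U b := Over.homMk (pullback.fst (j b) (j a)) rfl
      let py : W ⟶ U a := Over.homMk (pullback.snd (j b) (j a)) (by
        show pullback.snd (j b) (j a) ≫ (U a).hom = pullback.fst (j b) (j a) ≫ (U b).hom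
        rw [← Over.w (g a), ← Over.w (g b), pullback.condition_assoc])
      have hxy : px ≫ g b = py ≫ g a := Over.OverMorphism.ext pullback.condition
      have hc : Rel (Grass.quotBC (Over.w px) (s b)) (Grass.quotBC (Over.w py) (s a)) := by
        haveI := hs a
        haveI := epi_quotBC (Over.w px) (s b)
        haveI := epi_quotBC (Over.w py) (s a)
        have h := hx b a W px py hxy
        change res E n px (x b) = res E n py (x a) at h
        rw [← hxs b, ← hxs a, res_mk, res_mk, mk_eq_mk] at h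
        exact h
      have r1 : Rel (Grass.quotBC (Over.w px) (s b)) (Grass.quotBC (Over.w px) (Grass.quotBC (Over.w (g b)) (q a))) := by
        refine hc.trans ((((hq a).quotBC (Over.w py)).symm.trans ?_))
        refine (rel_quotBC_quotBC (Over.w (g a)) (Over.w py) rfl (Over.w (py ≫ g a)) (q a)).trans ?_
        exact (rel_quotBC_quotBC (Over.w (g b)) (Over.w px) (congrArg CommaMorphism.left hxy)
          (Over.w (py ≫ g a)) (q a)).symm
      have r2 : (Scheme.Modules.pullback px.left).map (kernel.ι (s b) ≫ Grass.quotBC (Over.w (g b)) (q a)) = 0 := by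
        rw [Functor.map_comp]
        exact (Rel.of_quotBC _ r1).kills (by rw [← Functor.map_comp, kernel.condition, Functor.map_zero])
      have e1 : kernel.ι (s b) ≫ (e b).inv ≫ (Scheme.Modules.pullback (j b)).map (φ a) =
          (kernel.ι (s b) ≫ Grass.quotBC (Over.w (g b)) (q a)) ≫
            (Scheme.Modules.pullback (j b)).map (image.ι (φ a)) := by
        rw [he]
        simp only [Category.assoc]
        rw [← Functor.map_comp, image.fac]
      rw [e1]
      haveI : IsOpenImmersion px.left := inferInstanceAs (IsOpenImmersion (pullback.fst (j b) (j a)))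
      refine eq_zero_of_pullback_push (j b) (j a) px.left ?_ _ (by rw [Functor.map_comp, r2, zero_comp])
      rintro z ⟨w, hw⟩
      obtain ⟨p, hp, -⟩ := Scheme.Pullback.exists_preimage_pullback (f := j b) (g := j a) z w hw.symm
      exact ⟨p, hp⟩
  haveI : Epi s₀ := inferInstance
  have hL₀ : FlatMod.IsFinLocFreeOfRank n (Limits.image η) :=
    isFinLocFreeOfRank_of_cover _ j (fun t => hU.covers t) fun b => by
      obtain ⟨θ, -⟩ := hb b
      exact fun y => (hL b y).imp fun O h => ⟨h.1, h.2.map fun i =>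
        (Scheme.Modules.restrictFunctor O.ι).mapIso θ ≪≫ i⟩
  refine ⟨mk T hL₀ s₀, fun b => ?_⟩
  haveI := hs b
  haveI := epi_quotBC (Over.w (g b)) s₀
  show res E n (g b) (mk T hL₀ s₀) = x b
  rw [← hxs b, res_mk, mk_eq_mk]
  exact hb b

end Groth.L18.QuotFam
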