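import Groth.Prelude.Def_FGA
import Groth.Agent.L18.Grass.GrassCharts

/-!
# Grassmannians through submodules
-/

set_option autoImplicit false
set_option linter.style.haveILetI false
set_option backward.isDefEq.respectTransparency false
set_option backward.isDefEq.respectTransparency.types false

universe u

open CategoryTheory CategoryTheory.Limits AlgebraicGeometry

noncomputable section

namespace Groth.L18.SubobjGrass

open Groth.L18.QuotFam Groth.L18.GrassCharts Groth.L18.MapEpi
open Groth.L25.HomScheme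

theorem rank_of_rel {T : Scheme.{u}} {M L L' : T.Modules} {n : ℕ} {s : M ⟶ L} {s' : M ⟶ L'} (h : Rel s s')
    (hL : FlatMod.IsFinLocFreeOfRank n L) : FlatMod.IsFinLocFreeOfRank n L' := by
  obtain ⟨θ, -⟩ := h
  exact fun y => (hL y).imp fun O h => ⟨h.1, h.2.map fun i =>
    (Scheme.Modules.restrictFunctor O.ι).mapIso θ.symm ≪≫ i⟩

theorem kernel_rel {T : Scheme.{u}} {M L : T.Modules} (s : M ⟶ L) [Epi s] :
    Rel (cokernel.π (kernelSubobject s).arrow) s := by
  refine Rel.of_kills _ _ ?_ ?_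
  · have hd : (kernelSubobject s).arrow ≫ s = 0 := kernelSubobject_arrow_comp s
    refine (congrArg (kernel.ι _ ≫ ·) (cokernel.π_desc (kernelSubobject s).arrow s hd).symm).trans ?_
    exact (kernel.condition_assoc _ _).trans zero_comp
  · rw [← kernelSubobject_arrow' s, Category.assoc, cokernel.condition, comp_zero]

/-- Submodules are determined by their quotients. -/
theorem eq_iff_rel {T : Scheme.{u}} {M : T.Modules} (K K' : Subobject M) :
    K = K' ↔ Rel (cokernel.π K.arrow) (cokernel.π K'.arrow) := by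
  refine ⟨fun h => by subst h; exact Rel.refl _, fun h => le_antisymm ?_ ?_⟩
  · refine Subobject.le_of_comm (Abelian.monoLift K'.arrow K.arrow ?_) (Abelian.monoLift_comp _ _ _)
    exact h.kills (cokernel.condition _)
  · refine Subobject.le_of_comm (Abelian.monoLift K.arrow K'.arrow ?_) (Abelian.monoLift_comp _ _ _)
    exact h.symm.kills (cokernel.condition _)

variable {S : Scheme.{u}} (V : S.Modules)

/-- `S ×_S T` over `S`. -/
abbrev tgt (T : Over S) : Over S := Over.mk (pullback.fst (𝟙 S) T.hom)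

/-- The projection to `T`. -/
abbrev sndHom (T : Over S) : tgt T ⟶ T :=
  Over.homMk (pullback.snd (𝟙 S) T.hom) (by
    show pullback.snd (𝟙 S) T.hom ≫ T.hom = pullback.fst (𝟙 S) T.hom
    rw [← pullback.condition]
    exact Category.comp_id _)

instance isIso_sndHom (T : Over S) : IsIso (sndHom T) := by
  haveI : IsIso ((Over.forget S).map (sndHom T)) := inferInstanceAs (IsIso (pullback.snd (𝟙 S) T.hom))
  exact isIso_of_reflects_iso _ (Over.forget S)

/-- The map on `S ×_S -`. -/
abbrev tgtMap {T T' : Over S} (g : T' ⟶ T) : tgt T' ⟶ tgt T :=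
  Over.homMk (PicF.XTmap (𝟙 S) g) (FGA.XTmap_fst (𝟙 S) g)

theorem tgtMap_snd {T T' : Over S} (g : T' ⟶ T) : tgtMap g ≫ sndHom T = sndHom T' ≫ g :=
  Over.OverMorphism.ext (by
    show PicF.XTmap (𝟙 S) g ≫ pullback.snd (𝟙 S) T.hom = pullback.snd (𝟙 S) T'.hom ≫ g.left
    simp [PicF.XTmap, pullback.map])

theorem quotPull_rel {T T' : Over S} (g : T' ⟶ T) (K : Subobject (FGA.ET (𝟙 S) V T)) :
    Rel (cokernel.π (FGA.quotPull (𝟙 S) V g K).arrow) (Grass.quotBC (Over.w (tgtMap g)) (cokernel.π K.arrow)) := by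
  haveI := epi_quotBC (Over.w (tgtMap g)) (cokernel.π K.arrow)
  set F := Scheme.Modules.pullback (PicF.XTmap (𝟙 S) g)
  set f := F.map K.arrow ≫ (FGA.ETiso (𝟙 S) V g).hom
  have h1 : (FGA.ETiso (𝟙 S) V g).hom ≫ Grass.quotBC (Over.w (tgtMap g)) (cokernel.π K.arrow) =
      F.map (cokernel.π K.arrow) := by
    simp only [FGA.ETiso, Iso.trans_hom, Iso.app_hom, Grass.quotBC, Category.assoc]
    erw [Iso.hom_inv_id_app_assoc, Iso.hom_inv_id_app_assoc]
    rfl
  have h2 : f ≫ Grass.quotBC (Over.w (tgtMap g)) (cokernel.π K.arrow) = 0 := by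
    rw [show f = F.map K.arrow ≫ (FGA.ETiso (𝟙 S) V g).hom from rfl, Category.assoc, h1, ← Functor.map_comp,
      cokernel.condition, Functor.map_zero]
  have himg : (imageSubobject f).arrow ≫ Grass.quotBC (Over.w (tgtMap g)) (cokernel.π K.arrow) = 0 := by
    rw [← cancel_epi (factorThruImageSubobject f), ← Category.assoc, imageSubobject_arrow_comp, h2, comp_zero]
  refine Rel.of_kills _ _ ?_ ?_
  · rw [show Grass.quotBC (Over.w (tgtMap g)) (cokernel.π K.arrow) =
      cokernel.π (imageSubobject f).arrow ≫ cokernel.desc _ _ himg from (cokernel.π_desc _ _ _).symm]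
    exact kernel.condition_assoc _ _ |>.trans zero_comp
  · have hw : F.map K.arrow ≫ ((FGA.ETiso (𝟙 S) V g).hom ≫ cokernel.π (imageSubobject f).arrow) = 0 := by
      rw [← Category.assoc]
      show f ≫ _ = 0
      conv_lhs => arg 1; rw [← imageSubobject_arrow_comp f]
      rw [Category.assoc, cokernel.condition, comp_zero]
    have hl := CokernelCofork.mapIsColimit _ (cokernelIsCokernel K.arrow) F
    obtain ⟨d, hd⟩ := CokernelCofork.IsColimit.desc' hl _ hw
    have hd' : F.map (cokernel.π K.arrow) ≫ d = (FGA.ETiso (𝟙 S) V g).hom ≫ cokernel.π (imageSubobject f).arrow := hd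
    have e : Grass.quotBC (Over.w (tgtMap g)) (cokernel.π K.arrow) ≫ d = cokernel.π (imageSubobject f).arrow := by
      rw [← cancel_epi (FGA.ETiso (𝟙 S) V g).hom, ← Category.assoc, h1]
      exact hd'
    show kernel.ι _ ≫ cokernel.π (imageSubobject f).arrow = 0
    rw [← e, kernel.condition_assoc, zero_comp]

variable {V} {n : ℕ} {G : Scheme.{u}} {π : G ⟶ S} {Q : G.Modules} {q : (Scheme.Modules.pullback π).obj V ⟶ Q}

/-- A Grassmannian represents submodules with locally free quotient. -/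
theorem exists_universal (hG : Grass.IsGrass π V n Q q) :
    ∃ K : Subobject (FGA.ET (𝟙 S) V (Over.mk π)), FlatMod.IsFinLocFreeOfRank n (cokernel K.arrow) ∧
      ∀ (T : Over S) (K' : Subobject (FGA.ET (𝟙 S) V T)), FlatMod.IsFinLocFreeOfRank n (cokernel K'.arrow) →
        ∃! g : T ⟶ Over.mk π, FGA.quotPull (𝟙 S) V g K = K' := by
  haveI := hG.epi
  let σ := sndHom (Over.mk π)
  haveI := epi_quotBC (Over.w σ) q
  let K := kernelSubobject (Grass.quotBC (Over.w σ) q)
  have hK : Rel (cokernel.π K.arrow) (Grass.quotBC (Over.w σ) q) := kernel_rel _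
  have hKr : FlatMod.IsFinLocFreeOfRank n (cokernel K.arrow) :=
    rank_of_rel hK.symm (isFinLocFreeOfRank_pullback σ.left hG.rank)
  refine ⟨K, hKr, fun T K' hK' => ?_⟩
  have key : ∀ g : T ⟶ Over.mk π, FGA.quotPull (𝟙 S) V g K = K' ↔
      (qFam V n).res (sndHom T ≫ g) (univClass hG) = mk (tgt T) hK' (cokernel.π K'.arrow) := fun g => by
    haveI := epi_quotBC (Over.w (sndHom T ≫ g)) q
    rw [eq_iff_rel, res_univClass_iff hG (sndHom T ≫ g) hK' (cokernel.π K'.arrow)]
    have r : Rel (cokernel.π (FGA.quotPull (𝟙 S) V g K).arrow) (Grass.quotBC (Over.w (sndHom T ≫ g)) q) :=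
      ((quotPull_rel V g K).trans (hK.quotBC (Over.w (tgtMap g)))).trans
        (rel_quotBC_quotBC (Over.w σ) (Over.w (tgtMap g)) (congrArg CommaMorphism.left (tgtMap_snd g))
          (Over.w (sndHom T ≫ g)) q)
    exact ⟨fun h => r.symm.trans h, fun h => r.trans h⟩
  obtain ⟨a, ha, hu⟩ := (isRep hG) (tgt T) (mk (tgt T) hK' (cokernel.π K'.arrow))
  refine ⟨inv (sndHom T) ≫ a, (key _).2 (by rw [IsIso.hom_inv_id_assoc]; exact ha), fun g hg => ?_⟩
  rw [← hu _ ((key g).1 hg), IsIso.inv_hom_id_assoc]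

end Groth.L18.SubobjGrass
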